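import Cfsg.Agent.Lib.PLocal.Thompson
import Cfsg.Agent.Lib.LocalEvenB.ThompsonOf
import Cfsg.Prelude.Def_LocalEven

/-!
# Maximal elementary abelian subgroups and `E`-groups inside an ambient group

* `MaxEl T A`, `le_je`, `je_le`, `je_eq_of_le`
* `EProp`, `ESnd`: the two conditions in the definition of an `E`-group, `maxEl_le_centralizer`
* `isEGroup_range_iff`, `le_jHat`, `jHat_le`, `jHat_le_self`, `je_le_jHat`
-/

set_option autoImplicit false
set_option linter.all false

namespace CfsgLib.LocalEven.Factor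

open Subgroup
open scoped commutatorElement

variable {G : Type*} [Group G]

/-- `A` is an elementary abelian `2`-subgroup of `T` of largest order -/
def MaxEl (T A : Subgroup G) : Prop :=
  A ≤ T ∧ Cfsg.IsElementaryAbelian 2 A ∧ ∀ B : Subgroup G, B ≤ T → Cfsg.IsElementaryAbelian 2 B →
    Nat.card B ≤ Nat.card A

/-- the Thompson subgroup of `T` -/
noncomputable abbrev je (T : Subgroup G) : Subgroup G := Cfsg.thompsonSubgroupOf 2 T

theorem elem_comm {A : Subgroup G} (hA : Cfsg.IsElementaryAbelian 2 A) {a b : G} (ha : a ∈ A) (hb : b ∈ A) :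
    a * b = b * a :=
  congrArg Subtype.val (hA.1.is_comm.comm ⟨a, ha⟩ ⟨b, hb⟩)

theorem elem_le_centralizer {A : Subgroup G} (hA : Cfsg.IsElementaryAbelian 2 A) :
    A ≤ centralizer (A : Set G) := fun _ ha => mem_centralizer_iff.2 fun _ hb => elem_comm hA hb ha

theorem elem_le {A B : Subgroup G} (hA : Cfsg.IsElementaryAbelian 2 A) (h : B ≤ A) :
    Cfsg.IsElementaryAbelian 2 B :=
  PLocal.elementary_mono hA h

theorem elem_sup {A B : Subgroup G} (hA : Cfsg.IsElementaryAbelian 2 A) (hB : Cfsg.IsElementaryAbelian 2 B)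
    (h : A ≤ centralizer (B : Set G)) : Cfsg.IsElementaryAbelian 2 (A ⊔ B : Subgroup G) :=
  PLocal.elementary_sup hA hB h

theorem maxEl_map {U : Subgroup G} {A : Subgroup ↥U} (hA : A ∈ Cfsg.maxElementaryAbelianSubgroups 2 ↥U) :
    MaxEl U (A.map U.subtype) := by
  refine ⟨map_subtype_le _, PLocal.elementary_map _ hA.1, fun B hB hBe => ?_⟩
  have := hA.2 (B.subgroupOf U) (PLocal.elementary_comap U.subtype U.subtype_injective hBe)
  rwa [Nat.card_congr (subgroupOfEquivOfLe hB).toEquiv, ← card_map_of_injective (K := A) U.subtype_injective] at this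

theorem MaxEl.mem {T A : Subgroup G} (h : MaxEl T A) :
    A.subgroupOf T ∈ Cfsg.maxElementaryAbelianSubgroups 2 ↥T := by
  refine ⟨PLocal.elementary_comap T.subtype T.subtype_injective h.2.1, fun B hB => ?_⟩
  rw [Nat.card_congr (subgroupOfEquivOfLe h.1).toEquiv, ← card_map_of_injective (K := B) T.subtype_injective]
  exact h.2.2 _ (map_subtype_le _) (PLocal.elementary_map _ hB)

theorem le_je {T A : Subgroup G} (h : MaxEl T A) : A ≤ je T := by
  have h1 := map_mono (f := T.subtype) (PLocal.le_thompson h.mem)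
  rwa [subgroupOf_map_subtype, inf_eq_left.2 h.1] at h1

theorem je_le {T X : Subgroup G} (h : ∀ A, MaxEl T A → A ≤ X) : je T ≤ X := by
  rw [je, Cfsg.thompsonSubgroupOf, map_le_iff_le_comap]
  exact sSup_le fun A hA => map_le_iff_le_comap.1 (h _ (maxEl_map hA))

theorem je_le_self (T : Subgroup G) : je T ≤ T := map_subtype_le _

theorem exists_maxEl [Finite G] (T : Subgroup G) : ∃ A, MaxEl T A := by
  obtain ⟨A, hA⟩ := PLocal.exists_maxElementary (G := ↥T) (p := 2)
  exact ⟨_, maxEl_map hA⟩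

theorem MaxEl.of_le {T U A : Subgroup G} (h : MaxEl T A) (hUT : U ≤ T) (hAU : A ≤ U) : MaxEl U A :=
  ⟨hAU, h.2.1, fun B hB => h.2.2 B (hB.trans hUT)⟩

theorem MaxEl.up [Finite G] {T U A : Subgroup G} (h : MaxEl U A) (hUT : U ≤ T) {A₀ : Subgroup G} (h₀ : MaxEl T A₀)
    (h₀U : A₀ ≤ U) : MaxEl T A :=
  ⟨h.1.trans hUT, h.2.1, fun B hB hBe => (h₀.2.2 B hB hBe).trans (h.2.2 A₀ h₀U h₀.2.1)⟩

theorem je_mono_eq [Finite G] {T U : Subgroup G} (hUT : U ≤ T) (h : je T ≤ U) : je U = je T := by
  obtain ⟨A₀, hA₀⟩ := exists_maxEl T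
  exact le_antisymm (je_le fun A hA => le_je (hA.up hUT hA₀ ((le_je hA₀).trans h)))
    (je_le fun A hA => le_je (hA.of_le hUT ((le_je hA).trans h)))

/-- the first inequality in the definition of an `E`-group -/
def EProp (T V : Subgroup G) : Prop :=
  ∀ R : Subgroup G, R ≤ T → ⁅R, R⁆ ≤ centralizer (V : Set G) → (∀ r ∈ R, r ^ 2 ∈ centralizer (V : Set G)) →
    ¬ R ≤ centralizer (V : Set G) →
    Nat.card R ^ 3 * Nat.card ↥(V ⊓ centralizer (R : Set G)) ^ 2 <
      Nat.card V ^ 2 * Nat.card ↥(R ⊓ centralizer (V : Set G)) ^ 3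

/-- the second inequality in the definition of an `E`-group -/
def ESnd (T V : Subgroup G) : Prop :=
  ∀ R : Subgroup G, R ≤ T → ⁅R, R⁆ ≤ centralizer (V : Set G) → (∀ r ∈ R, r ^ 2 ∈ centralizer (V : Set G)) →
    ¬ R ≤ centralizer (V : Set G) →
    Nat.card R < Nat.card ↥⁅V, R⁆ * Nat.card ↥(R ⊓ centralizer (V : Set G))

theorem EProp.mono {T U V : Subgroup G} (h : EProp T V) (hUT : U ≤ T) : EProp U V :=
  fun R hR => h R (hR.trans hUT)

/-- maximal elementary abelian subgroups centralize the subgroups with the first property -/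
theorem maxEl_le_centralizer [Finite G] {T V : Subgroup G} (hVT : V ≤ T) (hTV : T ≤ normalizer (V : Set G))
    (hV : Cfsg.IsElementaryAbelian 2 V) (hE : EProp T V) {A : Subgroup G} (hA : MaxEl T A) :
    A ≤ centralizer (V : Set G) ∧ V ≤ A := by
  have key : A ≤ centralizer (V : Set G) := by
    by_contra hAC
    have hlt := hE A hA.1 (by
      rw [commutator_le]
      intro a ha b hb
      rw [commutatorElement_eq_one_iff_mul_comm.2 (elem_comm hA.2.1 ha hb)]
      exact one_mem _) (fun a ha => by rw [hA.2.1.2 a ha]; exact one_mem _) hAC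
    obtain ⟨A₀, hA₀⟩ : ∃ A₀, A₀ = A ⊓ centralizer (V : Set G) := ⟨_, rfl⟩
    have hA₀V : A₀ ≤ centralizer (V : Set G) := hA₀ ▸ inf_le_right
    have hB := hA.2.2 (A₀ ⊔ V) (sup_le ((hA₀ ▸ inf_le_left : A₀ ≤ A).trans hA.1) hVT)
      (elem_sup (elem_le hA.2.1 (hA₀ ▸ inf_le_left)) hV hA₀V)
    have hcard := PLocal.card_sup_mul_card_inf A₀ V (hA₀V.trans (centralizer_le_normalizer _))
    have hle : Nat.card ↥(A₀ ⊓ V) ≤ Nat.card ↥(V ⊓ centralizer (A : Set G)) :=
      card_le_of_le (le_inf inf_le_right ((inf_le_left.trans (hA₀ ▸ inf_le_left)).trans (elem_le_centralizer hA.2.1)))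
    rw [← hA₀] at hlt
    obtain ⟨a, ha⟩ : ∃ a, a = Nat.card A := ⟨_, rfl⟩
    obtain ⟨a₀, ha₀⟩ : ∃ a₀, a₀ = Nat.card A₀ := ⟨_, rfl⟩
    obtain ⟨v, hv⟩ : ∃ v, v = Nat.card V := ⟨_, rfl⟩
    obtain ⟨c, hc⟩ : ∃ c, c = Nat.card ↥(V ⊓ centralizer (A : Set G)) := ⟨_, rfl⟩
    rw [← ha, ← ha₀, ← hv, ← hc] at hlt
    have h1 : a₀ * v ≤ a * c := by
      rw [ha₀, hv, hcard, ha, hc]
      exact Nat.mul_le_mul hB hle
    have h2 : a₀ ≤ a := ha ▸ ha₀ ▸ card_le_of_le (hA₀ ▸ inf_le_left)
    have h3 : (a₀ * v) ^ 2 * a₀ ≤ (a * c) ^ 2 * a := Nat.mul_le_mul (Nat.pow_le_pow_left h1 2) h2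
    have h4 : (a₀ * v) ^ 2 * a₀ = v ^ 2 * a₀ ^ 3 := by ring
    have h5 : (a * c) ^ 2 * a = a ^ 3 * c ^ 2 := by ring
    omega
  refine ⟨key, ?_⟩
  have h := eq_of_le_of_card_ge (H := A) (K := A ⊔ V) le_sup_left
    (hA.2.2 _ (sup_le hA.1 hVT) (elem_sup hA.2.1 hV key))
  exact le_sup_right.trans h.ge

theorem je_le_centralizer [Finite G] {T V : Subgroup G} (hVT : V ≤ T) (hTV : T ≤ normalizer (V : Set G))
    (hV : Cfsg.IsElementaryAbelian 2 V) (hE : EProp T V) : je T ≤ centralizer (V : Set G) ∧ V ≤ je T := by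
  obtain ⟨A, hA⟩ := exists_maxEl T
  exact ⟨je_le fun B hB => (maxEl_le_centralizer hVT hTV hV hE hB).1,
    (maxEl_le_centralizer hVT hTV hV hE hA).2.trans (le_je hA)⟩

/-- an `E`-group inside the ambient group -/
def EGrp (U : Subgroup G) : Prop :=
  ∀ V : Subgroup G, V ≤ U → U ≤ normalizer (V : Set G) → Cfsg.IsElementaryAbelian 2 V → EProp U V → ESnd U V →
    U ≤ centralizer (V : Set G)

section transport

variable {H : Type*} [Group H] (f : H →* G) (hf : Function.Injective f)
include hf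

theorem le_centralizer_map_iff (R V : Subgroup H) :
    R.map f ≤ centralizer ((V.map f : Subgroup G) : Set G) ↔ R ≤ centralizer (V : Set H) := by
  constructor
  · intro h r hr
    exact mem_centralizer_iff.2 fun v hv => hf (by
      rw [map_mul, map_mul]; exact mem_centralizer_iff.1 (h (mem_map_of_mem f hr)) _ (mem_map_of_mem f hv))
  · rintro h _ ⟨r, hr, rfl⟩
    refine mem_centralizer_iff.2 ?_
    rintro _ ⟨v, hv, rfl⟩
    rw [← map_mul, ← map_mul, mem_centralizer_iff.1 (h hr) v hv]

theorem map_mem_centralizer_iff (r : H) (V : Subgroup H) :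
    f r ∈ centralizer ((V.map f : Subgroup G) : Set G) ↔ r ∈ centralizer (V : Set H) := by
  constructor
  · exact fun h => mem_centralizer_iff.2 fun v hv => hf (by
      rw [map_mul, map_mul]; exact mem_centralizer_iff.1 h _ (mem_map_of_mem f hv))
  · intro h
    refine mem_centralizer_iff.2 ?_
    rintro _ ⟨v, hv, rfl⟩
    rw [← map_mul, ← map_mul, mem_centralizer_iff.1 h v hv]

theorem map_inf_centralizer (R V : Subgroup H) :
    (R ⊓ centralizer (V : Set H)).map f = R.map f ⊓ centralizer ((V.map f : Subgroup G) : Set G) := by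
  refine le_antisymm ?_ ?_
  · rintro _ ⟨r, ⟨hr, hc⟩, rfl⟩
    exact ⟨mem_map_of_mem f hr, (map_mem_centralizer_iff f hf r V).2 hc⟩
  · rintro _ ⟨⟨r, hr, rfl⟩, hc⟩
    exact ⟨r, ⟨hr, (map_mem_centralizer_iff f hf r V).1 hc⟩, rfl⟩

theorem eProp_map_iff (T V : Subgroup H) : EProp (T.map f) (V.map f) ↔ EProp T V := by
  constructor
  · intro h R hR hab hsq hne
    have := h (R.map f) (map_mono hR) (by rw [← map_commutator]; exact (le_centralizer_map_iff f hf _ _).2 hab)
      (by rintro _ ⟨r, hr, rfl⟩; rw [← map_pow]; exact (map_mem_centralizer_iff f hf _ _).2 (hsq r hr))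
      (fun h' => hne ((le_centralizer_map_iff f hf _ _).1 h'))
    rwa [← map_inf_centralizer f hf, ← map_inf_centralizer f hf, card_map_of_injective hf,
      card_map_of_injective hf, card_map_of_injective hf, card_map_of_injective hf] at this
  · intro h R' hR hab hsq hne
    obtain ⟨R, rfl⟩ : ∃ R : Subgroup H, R.map f = R' :=
      ⟨R'.comap f, map_comap_eq_self (hR.trans (map_le_range f T))⟩
    rw [map_le_map_iff_of_injective hf] at hR
    rw [← map_commutator, le_centralizer_map_iff f hf] at hab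
    rw [← map_inf_centralizer f hf, ← map_inf_centralizer f hf, card_map_of_injective hf,
      card_map_of_injective hf, card_map_of_injective hf, card_map_of_injective hf]
    exact h R hR hab (fun r hr => (map_mem_centralizer_iff f hf _ _).1 (by
      rw [map_pow]; exact hsq _ (mem_map_of_mem f hr))) (fun h' => hne ((le_centralizer_map_iff f hf _ _).2 h'))

theorem eSnd_map_iff (T V : Subgroup H) : ESnd (T.map f) (V.map f) ↔ ESnd T V := by
  constructor
  · intro h R hR hab hsq hne
    have := h (R.map f) (map_mono hR) (by rw [← map_commutator]; exact (le_centralizer_map_iff f hf _ _).2 hab)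
      (by rintro _ ⟨r, hr, rfl⟩; rw [← map_pow]; exact (map_mem_centralizer_iff f hf _ _).2 (hsq r hr))
      (fun h' => hne ((le_centralizer_map_iff f hf _ _).1 h'))
    rwa [← map_inf_centralizer f hf, ← map_commutator, card_map_of_injective hf,
      card_map_of_injective hf, card_map_of_injective hf] at this
  · intro h R' hR hab hsq hne
    obtain ⟨R, rfl⟩ : ∃ R : Subgroup H, R.map f = R' :=
      ⟨R'.comap f, map_comap_eq_self (hR.trans (map_le_range f T))⟩
    rw [map_le_map_iff_of_injective hf] at hR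
    rw [← map_commutator, le_centralizer_map_iff f hf] at hab
    rw [← map_inf_centralizer f hf, ← map_commutator, card_map_of_injective hf,
      card_map_of_injective hf, card_map_of_injective hf]
    exact h R hR hab (fun r hr => (map_mem_centralizer_iff f hf _ _).1 (by
      rw [map_pow]; exact hsq _ (mem_map_of_mem f hr))) (fun h' => hne ((le_centralizer_map_iff f hf _ _).2 h'))

theorem isEGroup_range_iff : Cfsg.IsEGroup H ↔ EGrp f.range := by
  rw [f.range_eq_map]
  constructor
  · intro h V' hV' hn hVe hE hS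
    obtain ⟨V, rfl⟩ : ∃ V : Subgroup H, V.map f = V' :=
      ⟨V'.comap f, map_comap_eq_self (hV'.trans (map_le_range f _))⟩
    have hVn : V.Normal := ⟨fun v hv x => by
      have := (mem_normalizer_iff.1 (hn (mem_map_of_mem f (mem_top x))) (f v)).1 (mem_map_of_mem f hv)
      rw [← map_inv, ← map_mul, ← map_mul] at this
      obtain ⟨w, hw, hwe⟩ := this
      rwa [← hf hwe]⟩
    have hE' := (eProp_map_iff f hf _ _).1 hE
    have hS' := (eSnd_map_iff f hf _ _).1 hS
    have := h V hVn (by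
      have := PLocal.elementary_comap f hf hVe
      rwa [comap_map_eq_self_of_injective hf] at this) (fun R hab hsq hne =>
        ⟨hE' R le_top hab hsq hne, hS' R le_top hab hsq hne⟩)
    exact (le_centralizer_map_iff f hf _ _).2 fun x _ =>
      mem_centralizer_iff.2 fun v hv => (mem_center_iff.1 (this hv) x).symm
  · intro h V hVn hVe hP
    have := h (V.map f) (map_mono le_top) ?_ (PLocal.elementary_map f hVe)
      ((eProp_map_iff f hf _ _).2 fun R _ hab hsq hne => (hP R hab hsq hne).1)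
      ((eSnd_map_iff f hf _ _).2 fun R _ hab hsq hne => (hP R hab hsq hne).2)
    · rw [le_centralizer_map_iff f hf] at this
      exact fun v hv => mem_center_iff.2 fun x => (mem_centralizer_iff.1 (this (mem_top x)) v hv).symm
    · rintro _ ⟨x, -, rfl⟩
      refine mem_normalizer_iff.2 fun w => ⟨?_, ?_⟩
      · rintro ⟨v, hv, rfl⟩
        exact ⟨x * v * x⁻¹, hVn.conj_mem v hv x, by simp⟩
      · rintro ⟨v, hv, hvw⟩
        refine ⟨x⁻¹ * v * x, hVn.conj_mem' v hv x, ?_⟩
        rw [map_mul, map_mul, map_inv, hvw]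
        group

end transport

/-- `Ĵ(T)` inside the ambient group -/
noncomputable abbrev jh (T : Subgroup G) : Subgroup G := (Cfsg.jHat ↥T).map T.subtype

theorem jh_le_self (T : Subgroup G) : jh T ≤ T := map_subtype_le _

theorem le_jh {T U : Subgroup G} (hU : EGrp U) (hUT : U ≤ T) (hJ : je T ≤ U) : U ≤ jh T := by
  have h := map_mono (f := T.subtype) (le_sSup (show U.subgroupOf T ∈
      {W : Subgroup ↥T | Cfsg.IsEGroup W ∧ Cfsg.thompsonSubgroup 2 ↥T ≤ W} from ⟨?_, ?_⟩))
  · rw [subgroupOf_map_subtype, inf_eq_left.2 hUT] at h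
    exact h
  · refine (isEGroup_range_iff (T.subtype.comp (U.subgroupOf T).subtype)
      (T.subtype_injective.comp (U.subgroupOf T).subtype_injective)).2 ?_
    rwa [MonoidHom.range_comp, range_subtype, subgroupOf_map_subtype, inf_eq_left.2 hUT]
  · intro x hx
    exact hJ ⟨x, hx, rfl⟩

theorem jh_le {T X : Subgroup G} (h : ∀ U, EGrp U → U ≤ T → je T ≤ U → U ≤ X) : jh T ≤ X := by
  rw [jh, map_le_iff_le_comap]
  refine sSup_le fun U hU => map_le_iff_le_comap.1 (h _ ?_ (map_subtype_le _) (map_mono hU.2))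
  have := (isEGroup_range_iff (T.subtype.comp U.subtype) (T.subtype_injective.comp U.subtype_injective)).1 hU.1
  rwa [MonoidHom.range_comp, range_subtype] at this

/-- the Thompson subgroup is itself an `E`-group -/
theorem eGrp_je [Finite G] (T : Subgroup G) : EGrp (je T) := fun V hV hn hVe hE _ => by
  have := (je_le_centralizer hV hn hVe hE).1
  rwa [je_mono_eq (je_le_self T) le_rfl] at this

theorem je_le_jh [Finite G] (T : Subgroup G) : je T ≤ jh T := le_jh (eGrp_je T) (je_le_self T) le_rfl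

end CfsgLib.LocalEven.Factor
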