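import Cfsg.Agent.Lib.LocalEven.Factor.Quot
import Cfsg.Agent.Lib.LocalEven.Factor.Basic
import Cfsg.Agent.Lib.LocalEvenB.CharP

/-!
# The factorizations `G = C(Z(S)) N(J_e(S)) = C(Z(S)) N(Ĵ(S))`

* `Hyp`: characteristic `2`, no section `S₄`, small composition factors; `Hyp.of_le`, `Hyp.of_normal`
* `odd_mem_centralizer`: an element of odd order fixing the involutions of an abelian `2`-group
* `eProp_of_reduced`, `reduced_le`, `frattini_je`, `factorization_two`
-/

set_option autoImplicit false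
set_option linter.all false

namespace CfsgLib.LocalEven.Factor

open Subgroup
open scoped commutatorElement

universe u

variable {G : Type u} [Group G]

/-- characteristic `2`, no section `S₄`, small composition factors -/
structure Hyp (G : Type u) [Group G] : Prop where
  char : centralizer (Cfsg.pCore 2 G : Set G) ≤ Cfsg.pCore 2 G
  free : ¬ Cfsg.Involves (Equiv.Perm (Fin 4)) G
  good : Good G

theorem free_subgroup (hfree : ¬ Cfsg.Involves (Equiv.Perm (Fin 4)) G) (H : Subgroup G) :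
    ¬ Cfsg.Involves (Equiv.Perm (Fin 4)) ↥H := fun h =>
  hfree (LocalEven.involves_of_section H.subtype H.subtype_injective (MonoidHom.id ↥H) Function.surjective_id h)

theorem free_of_surjective {Q : Type*} [Group Q] (f : G →* Q) (hf : Function.Surjective f)
    (hfree : ¬ Cfsg.Involves (Equiv.Perm (Fin 4)) G) : ¬ Cfsg.Involves (Equiv.Perm (Fin 4)) Q := fun h =>
  hfree (LocalEven.involves_of_section (MonoidHom.id G) Function.injective_id f hf h)

variable [Finite G]

theorem Hyp.of_le (h : Hyp G) {H : Subgroup G} (hQ : Cfsg.pCore 2 G ≤ H) (hg : Good ↥H) : Hyp ↥H := by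
  haveI : Fact (Nat.Prime 2) := ⟨Nat.prime_two⟩
  refine ⟨(LocalEvenB.hasCharP_iff H).1 ?_, free_subgroup h.free H, hg⟩
  obtain ⟨T⟩ : Nonempty (Sylow 2 G) := inferInstance
  exact LocalEvenB.hasCharP_of_overgroup (LocalEvenB.hasCharP_top_iff.2 h.char) T (CfsgLib.Core.pCore_le_sylow T)
    le_normalizer_of_normal (inf_le_right.trans h.char) hQ

theorem Hyp.of_normal (h : Hyp G) {N : Subgroup G} (hN : N.Normal) : Hyp ↥N := by
  haveI : Fact (Nat.Prime 2) := ⟨Nat.prime_two⟩
  exact ⟨(LocalEvenB.hasCharP_iff N).1 ((LocalEvenB.hasCharP_top_iff.2 h.char).of_subnormal hN.isSubnormal),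
    free_subgroup h.free N, good_of_normal hN h.good⟩

/-- an element of odd order fixing the involutions of an abelian `2`-group fixes all of it -/
theorem odd_mem_centralizer {W : Subgroup G} (hW : W ≤ centralizer (W : Set G)) (hW2 : IsPGroup 2 W) {g : G}
    (hg : Odd (orderOf g)) (hn : g ∈ normalizer (W : Set G))
    (hfix : ∀ w ∈ W, w ^ 2 = 1 → g * w = w * g) : g ∈ centralizer (W : Set G) := by
  suffices key : ∀ (k : ℕ), ∀ w ∈ W, w ^ 2 ^ k = 1 → g * w = w * g by
    refine mem_centralizer_iff.2 fun w hw => ?_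
    obtain ⟨k, hk⟩ := hW2 ⟨w, hw⟩
    exact (key k w hw (congrArg Subtype.val hk)).symm
  intro k
  induction k with
  | zero => intro w _ h; rw [pow_zero, pow_one] at h; rw [h, mul_one, one_mul]
  | succ k ih =>
    intro w hw h
    have hsq : g * w ^ 2 = w ^ 2 * g := ih _ (pow_mem hw 2) (by rw [← pow_mul, ← pow_succ']; exact h)
    obtain ⟨d, hd⟩ : ∃ d, d = g * w * g⁻¹ * w⁻¹ := ⟨_, rfl⟩
    have hgw : g * w * g⁻¹ ∈ W := (mem_normalizer_iff.1 hn w).1 hw
    have hdW : d ∈ W := hd ▸ mul_mem hgw (inv_mem hw)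
    have hd2 : d ^ 2 = 1 := by
      have hc : Commute (g * w * g⁻¹) w⁻¹ := (mem_centralizer_iff.1 (hW (inv_mem hw)) _ hgw)
      rw [hd, hc.mul_pow, conj_pow, hsq, mul_inv_cancel_right, inv_pow, mul_inv_cancel]
    have hgd : g * d * g⁻¹ = d := by rw [hfix d hdW hd2, mul_inv_cancel_right]
    have hj : ∀ j : ℕ, g ^ j * w * (g ^ j)⁻¹ = d ^ j * w := by
      intro j
      induction j with
      | zero => simp
      | succ j ihj =>
        calc g ^ (j + 1) * w * (g ^ (j + 1))⁻¹ = g * (g ^ j * w * (g ^ j)⁻¹) * g⁻¹ := by rw [pow_succ']; group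
          _ = g * d ^ j * g⁻¹ * (g * w * g⁻¹ * w⁻¹) * w := by rw [ihj]; group
          _ = d ^ (j + 1) * w := by rw [← conj_pow, hgd, ← hd, pow_succ]
    have h1 := hj (orderOf g)
    rw [pow_orderOf_eq_one, one_mul, inv_one, mul_one, right_eq_mul] at h1
    obtain ⟨r, hr⟩ := hg
    rw [hr, pow_succ, pow_mul, hd2, one_pow, one_mul] at h1
    rw [h1] at hd
    exact mul_inv_eq_iff_eq_mul.1 (mul_inv_eq_one.1 hd.symm)

/-- the two properties hold on reduced elementary abelian normal subgroups -/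
theorem eProp_of_reduced (h : Hyp G) {V : Subgroup G} [V.Normal] (hV : Cfsg.IsElementaryAbelian 2 V)
    (hO : Cfsg.pCore 2 (G ⧸ centralizer (V : Set G)) = ⊥) (T : Subgroup G) : EProp T V ∧ ESnd T V := by
  have hlt : ∀ R : Subgroup G, ¬ R ≤ centralizer (V : Set G) →
      Nat.card ↥(R ⊓ centralizer (V : Set G)) < Nat.card R := fun R hne =>
    (card_le_of_le inf_le_left).lt_of_ne fun he => hne
      ((eq_of_le_of_card_ge inf_le_left he.ge).symm.le.trans inf_le_right)
  refine ⟨fun R _ hab hsq hne => ?_, fun R _ hab hsq hne => ?_⟩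
  · have h1 := (offender_quot V h.free h.good hV hO R hab hsq).1
    have h2 := hlt R hne
    have hpos : 0 < Nat.card R := Nat.card_pos
    have hp0 : 0 < Nat.card ↥(R ⊓ centralizer (V : Set G)) := Nat.card_pos
    have hp1 : 0 < Nat.card V := Nat.card_pos
    have h3 := Nat.pow_le_pow_left h1 2
    refine Nat.lt_of_mul_lt_mul_left (a := Nat.card R) (lt_of_le_of_lt (le_of_eq_of_le ?_ h3) ?_)
    · ring
    · calc _ = Nat.card V ^ 2 * Nat.card ↥(R ⊓ centralizer (V : Set G)) ^ 3 *
            Nat.card ↥(R ⊓ centralizer (V : Set G)) := by ring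
        _ < Nat.card V ^ 2 * Nat.card ↥(R ⊓ centralizer (V : Set G)) ^ 3 * Nat.card R :=
            Nat.mul_lt_mul_of_pos_left h2 (by positivity)
        _ = _ := by ring
  · have h1 := (offender_quot V h.free h.good hV hO R hab hsq).2
    have h2 := hlt R hne
    have hp0 : 0 < Nat.card ↥(R ⊓ centralizer (V : Set G)) := Nat.card_pos
    have hp1 : 0 < Nat.card ↥⁅V, R⁆ := Nat.card_pos
    refine Nat.lt_of_mul_lt_mul_left (a := Nat.card R) (lt_of_le_of_lt (le_of_eq_of_le ?_ h1) ?_)
    · ring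
    · calc _ = Nat.card ↥⁅V, R⁆ * Nat.card ↥(R ⊓ centralizer (V : Set G)) *
            Nat.card ↥(R ⊓ centralizer (V : Set G)) := by ring
        _ < Nat.card ↥⁅V, R⁆ * Nat.card ↥(R ⊓ centralizer (V : Set G)) * Nat.card R :=
            Nat.mul_lt_mul_of_pos_left h2 (by positivity)
        _ = _ := by ring

/-- `J_e(S)` and `Ĵ(S)` centralize reduced elementary abelian normal subgroups -/
theorem reduced_le (h : Hyp G) (S : Subgroup G) {V : Subgroup G} [V.Normal] (hVS : V ≤ S)
    (hV : Cfsg.IsElementaryAbelian 2 V) (hO : Cfsg.pCore 2 (G ⧸ centralizer (V : Set G)) = ⊥) :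
    je S ≤ centralizer (V : Set G) ∧ jh S ≤ centralizer (V : Set G) := by
  have hn : ∀ X : Subgroup G, X ≤ normalizer (V : Set G) := fun X => by rw [normalizer_eq_top]; exact le_top
  obtain ⟨h1, h2⟩ := je_le_centralizer hVS (hn S) hV (eProp_of_reduced h hV hO S).1
  exact ⟨h1, jh_le fun U hU hUS hJ =>
    hU V (h2.trans hJ) (hn U) hV (eProp_of_reduced h hV hO U).1 (eProp_of_reduced h hV hO U).2⟩

omit [Finite G] in
theorem normalizer_je [Finite G] (T : Subgroup G) : normalizer (T : Set G) ≤ normalizer (je T : Set G) :=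
  LocalEvenB.normalizer_le_normalizer_thompsonSubgroupOf T

theorem eGrp_map {H : Type u} [Group H] (e : G ≃* H) {U : Subgroup G} (hU : EGrp U) : EGrp (U.map e.toMonoidHom) := by
  have h := (isEGroup_range_iff U.subtype U.subtype_injective).2 (by rwa [range_subtype])
  have h2 := (isEGroup_range_iff (e.toMonoidHom.comp U.subtype) (e.injective.comp U.subtype_injective)).1 h
  rwa [MonoidHom.range_comp, range_subtype] at h2

theorem maxEl_conj {T A : Subgroup G} {g : G} (hg : g ∈ normalizer (T : Set G)) (hA : MaxEl T A) :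
    MaxEl T (A.map (MulAut.conj g).toMonoidHom) := by
  have hT : T.map (MulAut.conj g).toMonoidHom = T := (mem_normalizer_iff_map_conj_eq.1 hg)
  refine ⟨(map_mono hA.1).trans hT.le, PLocal.elementary_map _ hA.2.1, fun B hB hBe => ?_⟩
  rw [card_map_of_injective (MulAut.conj g).injective]
  exact hA.2.2 B hB hBe

theorem normalizer_jh (T : Subgroup G) : normalizer (T : Set G) ≤ normalizer (jh T : Set G) := by
  refine le_normalizer_iff.2 fun g hg x hx => ?_
  have hT : T.map (MulAut.conj g).toMonoidHom = T := (mem_normalizer_iff_map_conj_eq.1 hg)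
  have hJ : (je T).map (MulAut.conj g).toMonoidHom = je T := mem_normalizer_iff_map_conj_eq.1 (normalizer_je T hg)
  suffices hle : jh T ≤ (jh T).comap (MulAut.conj g).toMonoidHom from hle hx
  refine jh_le fun U hU hUT hJU => map_le_iff_le_comap.1 (le_jh (eGrp_map (MulAut.conj g) hU) ?_ ?_)
  · exact (map_mono hUT).trans hT.le
  · exact hJ.symm.le.trans (map_mono hJU)

/-- a Sylow subgroup meets a normal subgroup in a Sylow subgroup -/
theorem exists_sylow_inf (S : Sylow 2 G) (C : Subgroup G) [C.Normal] :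
    ∃ T : Sylow 2 ↥C, (T : Subgroup ↥C).map C.subtype = C ⊓ (S : Subgroup G) := by
  haveI : Fact (Nat.Prime 2) := ⟨Nat.prime_two⟩
  have hnd : ¬ 2 ∣ (S : Subgroup G).relIndex C := fun hd =>
    S.not_dvd_index (hd.trans (CfsgLib.HallGen.relIndex_dvd_index_right _ _))
  refine ⟨(S.2.comap_subtype).toSylow hnd, ?_⟩
  show ((S : Subgroup G).subgroupOf C).map C.subtype = _
  rw [subgroupOf_map_subtype, inf_comm]

/-- the Frattini argument -/
theorem exists_mul_of_normal (S : Sylow 2 G) {C : Subgroup G} [C.Normal] (g : G) :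
    ∃ c ∈ C, ∃ n ∈ normalizer ((C ⊓ (S : Subgroup G) : Subgroup G) : Set G), g = c * n := by
  haveI : Fact (Nat.Prime 2) := ⟨Nat.prime_two⟩
  obtain ⟨T, hT⟩ := exists_sylow_inf S C
  have hg : g ∈ normalizer ((C ⊓ (S : Subgroup G) : Subgroup G) : Set G) ⊔ C := by
    rw [← hT, Sylow.normalizer_sup_eq_top T]; exact mem_top g
  rw [sup_comm, mem_sup_of_normal_left] at hg
  obtain ⟨c, hc, n, hn, hcn⟩ := hg
  exact ⟨c, hc, n, hn, hcn.symm⟩

/-- the reduced module generated by `Z(S)` -/
theorem exists_reduced (h : Hyp G) (S : Sylow 2 G) :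
    ∃ V : Subgroup G, V.Normal ∧ Cfsg.IsElementaryAbelian 2 V ∧ V ≤ (S : Subgroup G) ∧
      ∃ _ : (centralizer (V : Set G)).Normal, Cfsg.pCore 2 (G ⧸ centralizer (V : Set G)) = ⊥ ∧
        centralizer (V : Set G) ≤
          centralizer (((S : Subgroup G) ⊓ centralizer ((S : Subgroup G) : Set G) : Subgroup G) : Set G) := by
  haveI : Fact (Nat.Prime 2) := ⟨Nat.prime_two⟩
  obtain ⟨Z, hZ⟩ : ∃ Z, Z = (S : Subgroup G) ⊓ centralizer ((S : Subgroup G) : Set G) := ⟨_, rfl⟩
  rw [← hZ]
  obtain ⟨Q, hQ⟩ : ∃ Q, Q = Cfsg.pCore 2 G := ⟨_, rfl⟩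
  have hQS : Q ≤ (S : Subgroup G) := hQ ▸ CfsgLib.Core.pCore_le_sylow S
  haveI hQn : Q.Normal := hQ ▸ inferInstance
  obtain ⟨W, hW⟩ : ∃ W, W = normalClosure (Z : Set G) := ⟨_, rfl⟩
  haveI hWn : W.Normal := hW ▸ inferInstance
  have hWQ : W ≤ centralizer (Q : Set G) := hW ▸ normalClosure_le_normal
    (hZ ▸ inf_le_right.trans (centralizer_le (SetLike.coe_subset_coe.2 hQS)))
  have hWQ' : W ≤ Q := hWQ.trans (hQ ▸ h.char)
  have hWab : W ≤ centralizer (W : Set G) := hWQ.trans (centralizer_le (SetLike.coe_subset_coe.2 hWQ'))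
  have hW2 : IsPGroup 2 W := (hQ ▸ CfsgLib.Core.isPGroup_pCore 2 G : IsPGroup 2 Q).to_le hWQ'
  obtain ⟨V, hV⟩ : ∃ V, V = Cfsg.omegaOne 2 W := ⟨_, rfl⟩
  have hVW : V ≤ W := hV ▸ (closure_le _).2 fun x hx => hx.1
  have hVn : V.Normal := hV ▸ ⟨fun x hx g => by
    have hle : Cfsg.omegaOne 2 W ≤ (Cfsg.omegaOne 2 W).comap (MulAut.conj g).toMonoidHom :=
      (closure_le _).2 fun y hy => subset_closure ⟨hWn.conj_mem y hy.1 g, by
        show (g * y * g⁻¹) ^ 2 = 1
        rw [conj_pow, hy.2]; group⟩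
    exact hle hx⟩
  have hVe : Cfsg.IsElementaryAbelian 2 V := by
    have hc : ∀ a ∈ V, ∀ b ∈ V, a * b = b * a := fun a ha b hb =>
      (mem_centralizer_iff.1 (hWab (hVW ha)) b (hVW hb)).symm
    refine ⟨⟨⟨fun a b => Subtype.ext (hc a a.2 b b.2)⟩⟩, fun v hv => ?_⟩
    rw [hV] at hv
    induction hv using closure_induction with
    | mem x hx => exact hx.2
    | one => exact one_pow 2
    | mul x y hx hy ihx ihy =>
      rw [(show Commute x y from hc x (hV ▸ hx) y (hV ▸ hy)).mul_pow, ihx, ihy, one_mul]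
    | inv x _ ih => rw [inv_pow, ih, inv_one]
  have hsub : ∀ N : Subgroup G, N.Normal → centralizer (W : Set G) ≤ N →
      (∀ g ∈ N, Odd (orderOf g) → g ∈ centralizer (W : Set G)) → N ≤ centralizer (W : Set G) := by
    intro N hN hWN hodd
    haveI := hN
    obtain ⟨R, hR⟩ : ∃ R, R = N ⊓ centralizer (Z : Set G) := ⟨_, rfl⟩
    have hNZ : N ≤ centralizer (Z : Set G) := by
      intro x hx
      obtain ⟨c, hc, n, hn, rfl⟩ : ∃ c ∈ centralizer (W : Set G), ∃ n ∈ N ⊓ (S : Subgroup G), x = c * n := by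
        haveI : (centralizer (W : Set G)).Normal := inferInstance
        let f := QuotientGroup.mk' (centralizer (W : Set G))
        have hp : IsPGroup 2 ↥(N.map f) := by
          rintro ⟨_, y, hy, rfl⟩
          obtain ⟨j, m, hm, hj⟩ := Nat.exists_eq_two_pow_mul_odd (orderOf_pos y).ne'
          refine ⟨j, Subtype.ext ?_⟩
          show f y ^ 2 ^ j = 1
          rw [← map_pow]
          refine (QuotientGroup.eq_one_iff _).2 (hodd _ (pow_mem hy _) ?_)
          rw [orderOf_pow, hj, Nat.gcd_eq_right (dvd_mul_right _ _), Nat.mul_div_cancel_left _ (by positivity)]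
          exact hm
        obtain ⟨P, hP⟩ := hp.exists_le_sylow
        obtain ⟨g, hg⟩ := MulAction.exists_smul_eq (G ⧸ centralizer (W : Set G)) P
          (S.mapSurjective (f := f) (QuotientGroup.mk'_surjective _))
        haveI : (N.map f).Normal := Subgroup.Normal.map hN f (QuotientGroup.mk'_surjective _)
        have hle : N.map f ≤ (S : Subgroup G).map f := by
          intro z hz
          have h1 : g⁻¹ * z * g ∈ (P : Subgroup _) := hP ((inferInstance : (N.map f).Normal).conj_mem' z hz g)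
          have h2 : MulAut.conj g (g⁻¹ * z * g) ∈ ((g • P : Sylow 2 _) : Subgroup _) :=
            ⟨_, h1, rfl⟩
          rw [hg] at h2
          simpa [mul_assoc] using h2
        obtain ⟨s, hs, hsx⟩ := hle (mem_map_of_mem f hx)
        have hd : x * s⁻¹ ∈ centralizer (W : Set G) := by
          rw [← QuotientGroup.eq_one_iff]
          show f (x * s⁻¹) = 1
          rw [map_mul, map_inv, hsx, mul_inv_cancel]
        exact ⟨x * s⁻¹, hd, s, ⟨by simpa using mul_mem (inv_mem (hWN hd)) hx, hs⟩, (inv_mul_cancel_right x s).symm⟩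
      exact mul_mem (centralizer_le (SetLike.coe_subset_coe.2 (hW ▸ subset_normalClosure)) hc)
        ((le_centralizer_iff.1 (hZ ▸ inf_le_right : Z ≤ centralizer ((S : Subgroup G) : Set G))) hn.2)
    rw [le_centralizer_iff, hW]
    exact normalClosure_le_normal (le_centralizer_iff.1 hNZ)
  have hCV : centralizer (V : Set G) = centralizer (W : Set G) :=
    le_antisymm (hsub _ inferInstance (centralizer_le (SetLike.coe_subset_coe.2 hVW)) fun g hg ho =>
        odd_mem_centralizer hWab hW2 ho (by rw [normalizer_eq_top]; exact mem_top g)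
          fun w hw h2 => (mem_centralizer_iff.1 hg w (hV ▸ subset_closure ⟨hw, h2⟩)).symm)
      (centralizer_le (SetLike.coe_subset_coe.2 hVW))
  refine ⟨V, hVn, hVe, hVW.trans (hWQ'.trans hQS), inferInstance, ?_, ?_⟩
  · obtain ⟨D, hD⟩ : ∃ D, D = (Cfsg.pCore 2 (G ⧸ centralizer (V : Set G))).comap
        (QuotientGroup.mk' (centralizer (V : Set G))) := ⟨_, rfl⟩
    have hDle : D ≤ centralizer (W : Set G) := by
      refine hsub D (hD ▸ inferInstance) ?_ fun g hg ho => ?_
      · rw [← hCV, hD]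
        exact (QuotientGroup.ker_mk' _).symm.le.trans (ker_le_comap _ _)
      · rw [← hCV, ← QuotientGroup.eq_one_iff]
        rw [hD, mem_comap] at hg
        obtain ⟨k, hk⟩ := CfsgLib.Core.isPGroup_pCore 2 (G ⧸ centralizer (V : Set G)) ⟨_, hg⟩
        refine orderOf_eq_one_iff.1 (Nat.eq_one_of_dvd_coprimes (Nat.Coprime.pow_left k (Nat.coprime_two_left.2 ho))
          (orderOf_dvd_of_pow_eq_one (congrArg Subtype.val hk)) (orderOf_map_dvd (QuotientGroup.mk' (centralizer (V : Set G))) g))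
    rw [← hCV, hD] at hDle
    refine (eq_bot_iff_forall _).2 fun z hz => ?_
    obtain ⟨x, rfl⟩ := QuotientGroup.mk'_surjective (centralizer (V : Set G)) z
    exact (QuotientGroup.eq_one_iff x).2 (hDle hz)
  · rw [hCV, hW]
    exact centralizer_le subset_normalClosure

/-- the first two factorizations -/
theorem factorization_two (h : Hyp G) (S : Sylow 2 G) (g : G) :
    (∃ c ∈ centralizer (((S : Subgroup G) ⊓ centralizer ((S : Subgroup G) : Set G) : Subgroup G) : Set G),
        ∃ n ∈ normalizer (je (S : Subgroup G) : Set G), g = c * n) ∧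
      ∃ c ∈ centralizer (((S : Subgroup G) ⊓ centralizer ((S : Subgroup G) : Set G) : Subgroup G) : Set G),
        ∃ n ∈ normalizer (jh (S : Subgroup G) : Set G), g = c * n := by
  obtain ⟨V, hVn, hVe, hVS, hCn, hO, hCZ⟩ := exists_reduced h S
  obtain ⟨hJ, hH⟩ := reduced_le h (S : Subgroup G) hVS hVe hO
  obtain ⟨T, hT⟩ : ∃ T, T = centralizer (V : Set G) ⊓ (S : Subgroup G) := ⟨_, rfl⟩
  obtain ⟨c, hc, n, hn, rfl⟩ := exists_mul_of_normal S (C := centralizer (V : Set G)) g
  rw [← hT] at hn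
  have hTS : T ≤ (S : Subgroup G) := hT ▸ inf_le_right
  have hje : je T = je (S : Subgroup G) := je_mono_eq hTS (hT ▸ le_inf hJ (je_le_self _))
  have hjh : jh T = jh (S : Subgroup G) :=
    le_antisymm (jh_le fun U hU hUT hJU => le_jh hU (hUT.trans hTS) (hje ▸ hJU))
      (jh_le fun U hU hUS hJU => le_jh hU (hT ▸ le_inf ((le_jh hU hUS hJU).trans hH) hUS) (hje.symm ▸ hJU))
  exact ⟨⟨c, hCZ hc, n, hje ▸ normalizer_je T hn, rfl⟩, ⟨c, hCZ hc, n, hjh ▸ normalizer_jh T hn, rfl⟩⟩

end CfsgLib.LocalEven.Factor
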