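import Cfsg.Agent.Lib.LocalEven.Factor.Sections
import Cfsg.Prelude.Def_TwoFusion

/-!
# A strongly closed elementary abelian subgroup controls strong fusion

* `elem_le_of_step`, `controls_of_stronglyClosed`
-/

set_option autoImplicit false
set_option linter.all false

namespace CfsgLib.LocalEven.Factor

open Subgroup
open scoped commutatorElement

universe u

variable {G : Type u} [Group G] [Finite G]

/-- a `2`-subgroup `H` centric in `S` with `O_{2',2}(N(H)) = H C(H)` contains `B` -/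
theorem elem_le_of_step (S : Sylow 2 G) {B H : Subgroup G} (hBS : B ≤ (S : Subgroup G))
    (hB : Cfsg.IsElementaryAbelian 2 B)
    (hcl : ∀ (g : G), ∀ b ∈ B, g * b * g⁻¹ ∈ (S : Subgroup G) → g * b * g⁻¹ ∈ B)
    (hHS : H ≤ (S : Subgroup G)) (hc : (S : Subgroup G) ⊓ centralizer (H : Set G) ≤ H)
    (hO : (Cfsg.pPrimePCore 2 ↥(normalizer (H : Set G))).map (normalizer (H : Set G)).subtype =
      H ⊔ centralizer (H : Set G)) : B ≤ H := by
  haveI : Fact (Nat.Prime 2) := ⟨Nat.prime_two⟩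
  obtain ⟨N, hN⟩ : ∃ N, N = normalizer (H : Set G) := ⟨_, rfl⟩
  rw [← hN] at hO
  have hHN : H ≤ N := hN ▸ le_normalizer
  have hnH : ∀ {x h : G}, x ∈ N → h ∈ H → x * h * x⁻¹ ∈ H := fun hx hh =>
    (mem_normalizer_iff.1 (hN ▸ hx) _).1 hh
  have hBH : ∀ {x b : G}, x ∈ N → b ∈ B ⊓ H → x * b * x⁻¹ ∈ B ⊓ H := fun {x b} hx hb =>
    mem_inf.2 ⟨hcl x b hb.1 (hHS (hnH hx hb.2)), hnH hx hb.2⟩
  -- the stabilizer of `H ≥ B ∩ H ≥ 1`
  let D : Subgroup ↥N :=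
    { carrier := {x | (∀ b ∈ B ⊓ H, (x : G) * b * (x : G)⁻¹ = b) ∧ ∀ h ∈ H, h⁻¹ * ((x : G) * h * (x : G)⁻¹) ∈ B ⊓ H}
      one_mem' := ⟨fun b _ => by simp, fun h _ => by simp⟩
      mul_mem' := fun {x y} hx hy => ⟨fun b hb => by
          show (x : G) * y * b * ((x : G) * y)⁻¹ = b
          rw [show (x : G) * y * b * ((x : G) * y)⁻¹ = x * (y * b * (y : G)⁻¹) * (x : G)⁻¹ by group, hy.1 b hb, hx.1 b hb],
        fun h hh => by
          show h⁻¹ * ((x : G) * y * h * ((x : G) * y)⁻¹) ∈ B ⊓ H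
          rw [show h⁻¹ * ((x : G) * y * h * ((x : G) * y)⁻¹) =
              h⁻¹ * (x * h * (x : G)⁻¹) * (x * (h⁻¹ * (y * h * (y : G)⁻¹)) * (x : G)⁻¹) by group,
            hx.1 _ (hy.2 h hh)]
          exact mul_mem (hx.2 h hh) (hy.2 h hh)⟩
      inv_mem' := fun {x} hx => ⟨fun b hb => by
          show (x : G)⁻¹ * b * ((x : G)⁻¹)⁻¹ = b
          conv_lhs => rw [← hx.1 b hb]
          group, fun h hh => by
          show h⁻¹ * ((x : G)⁻¹ * h * ((x : G)⁻¹)⁻¹) ∈ B ⊓ H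
          have h2 := hx.2 h hh
          have h3 : (x : G)⁻¹ * (h⁻¹ * (x * h * (x : G)⁻¹)) * x = h⁻¹ * (x * h * (x : G)⁻¹) := by
            conv_lhs => rw [← hx.1 _ h2]
            group
          have h4 : h⁻¹ * ((x : G)⁻¹ * h * ((x : G)⁻¹)⁻¹) = ((x : G)⁻¹ * (h⁻¹ * (x * h * (x : G)⁻¹)) * x)⁻¹ *
              (((x : G)⁻¹ * (h⁻¹ * (x * h * (x : G)⁻¹)) * x) * (h⁻¹ * ((x : G)⁻¹ * h * x))) := by group
          rw [h4, h3]
          refine mul_mem (inv_mem h2) ?_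
          have h5 := hx.2 ((x : G)⁻¹ * h * x) (by simpa using hnH (inv_mem x.2) hh)
          have h6 : (h⁻¹ * (x * h * (x : G)⁻¹)) * (h⁻¹ * ((x : G)⁻¹ * h * x)) =
              h⁻¹ * (x * h * (x : G)⁻¹) * (((x : G)⁻¹ * h * x)⁻¹ * (x * ((x : G)⁻¹ * h * x) * (x : G)⁻¹))⁻¹ := by group
          rw [h6]
          exact mul_mem h2 (inv_mem h5)⟩ }
  have hDn : D.Normal := ⟨fun x hx n => ⟨fun b hb => by
      show (n : G) * x * (n : G)⁻¹ * b * ((n : G) * x * (n : G)⁻¹)⁻¹ = b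
      have h1 := hx.1 ((n : G)⁻¹ * b * n) (by simpa using hBH (inv_mem n.2) hb)
      calc _ = (n : G) * ((x : G) * ((n : G)⁻¹ * b * n) * (x : G)⁻¹) * (n : G)⁻¹ := by group
        _ = b := by rw [h1]; group,
    fun h hh => by
      show h⁻¹ * ((n : G) * x * (n : G)⁻¹ * h * ((n : G) * x * (n : G)⁻¹)⁻¹) ∈ B ⊓ H
      have h1 := hBH n.2 (hx.2 ((n : G)⁻¹ * h * n) (by simpa using hnH (inv_mem n.2) hh))
      rw [show h⁻¹ * ((n : G) * x * (n : G)⁻¹ * h * ((n : G) * x * (n : G)⁻¹)⁻¹) =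
        (n : G) * (((n : G)⁻¹ * h * n)⁻¹ * ((x : G) * ((n : G)⁻¹ * h * n) * (x : G)⁻¹)) * (n : G)⁻¹ by group]
      exact h1⟩⟩
  have hsq : ∀ x ∈ D, ((x * x : ↥N) : G) ∈ centralizer (H : Set G) := by
    intro x hx
    refine mem_centralizer_iff.2 fun h hh => ?_
    have h2 := hx.2 h hh
    have h3 : h⁻¹ * ((x : G) * h * (x : G)⁻¹) * (h⁻¹ * ((x : G) * h * (x : G)⁻¹)) = 1 := by
      rw [← sq]; exact hB.2 _ h2.1
    have h4 : (x : G) * ((x : G) * h * (x : G)⁻¹) * (x : G)⁻¹ = h := by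
      calc _ = (x : G) * h * (x : G)⁻¹ * ((x : G) * (h⁻¹ * ((x : G) * h * (x : G)⁻¹)) * (x : G)⁻¹) := by group
        _ = h * (h⁻¹ * ((x : G) * h * (x : G)⁻¹) * (h⁻¹ * ((x : G) * h * (x : G)⁻¹))) := by rw [hx.1 _ h2]; group
        _ = h := by rw [h3, mul_one]
    show h * ((x : G) * x) = (x : G) * x * h
    conv_lhs => rw [← h4]
    group
  haveI := CfsgLib.Core.normal_pPrimeCore 2 ↥N
  have hDle : D ≤ Cfsg.pPrimePCore 2 ↥N := by
    intro x hx
    obtain ⟨q, hq⟩ : ∃ q, q = QuotientGroup.mk' (Cfsg.pPrimeCore 2 ↥N) := ⟨_, rfl⟩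
    have h2 : IsPGroup 2 (D.map q) := by
      rintro ⟨_, y, hy, rfl⟩
      have h3 : y * y ∈ Cfsg.pPrimePCore 2 ↥N := by
        have h4 : ((y * y : ↥N) : G) ∈ (Cfsg.pPrimePCore 2 ↥N).map N.subtype := hO ▸ mem_sup_right (hsq y hy)
        obtain ⟨w, hw, hwe⟩ := h4
        rwa [← Subtype.ext hwe]
      have h5 : q (y * y) ∈ Cfsg.pCore 2 (↥N ⧸ Cfsg.pPrimeCore 2 ↥N) := hq ▸ h3
      obtain ⟨k, hk⟩ := CfsgLib.Core.isPGroup_pCore 2 _ ⟨_, h5⟩
      refine ⟨k + 1, Subtype.ext ?_⟩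
      have hk' := congrArg Subtype.val hk
      simp only [SubmonoidClass.coe_pow, OneMemClass.coe_one] at hk' ⊢
      rw [pow_succ', pow_mul, sq, ← map_mul]
      exact hk'
    haveI : (D.map q).Normal := Subgroup.Normal.map hDn q (hq ▸ QuotientGroup.mk'_surjective _)
    have h6 := CfsgLib.Core.le_pCore h2 (mem_map_of_mem q hx)
    rw [hq] at h6
    exact h6
  -- `N_B(H) ≤ H`
  have hRH : B ⊓ N ≤ H := by
    intro r hr
    have hrN : r ∈ N := hr.2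
    have h1 : (⟨r, hrN⟩ : ↥N) ∈ D := ⟨fun b hb => by
        show r * b * r⁻¹ = b
        rw [elem_comm hB hr.1 hb.1, mul_inv_cancel_right],
      fun h hh => mem_inf.2 ⟨by
        show h⁻¹ * (r * h * r⁻¹) ∈ B
        rw [show h⁻¹ * (r * h * r⁻¹) = h⁻¹ * r * h⁻¹⁻¹ * r⁻¹ by group]
        exact mul_mem (hcl h⁻¹ r hr.1 (mul_mem (mul_mem (inv_mem (hHS hh)) (hBS hr.1))
          (inv_mem (inv_mem (hHS hh))))) (inv_mem hr.1), mul_mem (inv_mem hh) (hnH hrN hh)⟩⟩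
    have h2 : r ∈ H ⊔ centralizer (H : Set G) := hO ▸ mem_map_of_mem N.subtype (hDle h1)
    rw [← SetLike.mem_coe, coe_mul_of_right_le_normalizer_left _ _ (centralizer_le_normalizer _)] at h2
    obtain ⟨h, hh, c, hcc, rfl⟩ := Set.mem_mul.1 h2
    refine mul_mem hh (hc ⟨?_, hcc⟩)
    have := mul_mem (inv_mem (hHS hh)) (hBS hr.1)
    rwa [inv_mul_cancel_left] at this
  -- a proper subgroup of `B H` grows in its normalizer
  by_contra hne
  have hSB : H ≤ normalizer (B : Set G) := le_normalizer_iff.2 fun h hh b hb =>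
    hcl h b hb (mul_mem (mul_mem (hHS hh) (hBS hb)) (inv_mem (hHS hh)))
  have hlt : H < B ⊔ H := lt_of_le_not_ge le_sup_right fun h => hne (le_sup_left.trans h)
  obtain ⟨x, hx, hxH⟩ := SetLike.exists_of_lt (CfsgLib.Transfer.lt_inf_normalizer (S.2.to_le (sup_le hBS hHS)) hlt)
  obtain ⟨hxBH, hxN⟩ := mem_inf.1 hx
  rw [← SetLike.mem_coe, coe_mul_of_right_le_normalizer_left _ _ hSB] at hxBH
  obtain ⟨b, hb, h, hh, rfl⟩ := Set.mem_mul.1 hxBH
  refine hxH (mul_mem (hRH ⟨hb, ?_⟩) hh)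
  have := mul_mem (hN.ge hxN) (inv_mem (hHN hh) : h⁻¹ ∈ N)
  rwa [mul_inv_cancel_right] at this

/-- strongly closed elementary abelian subgroups control strong fusion -/
theorem controls_of_stronglyClosed (S : Sylow 2 G) {B : Subgroup G} (hBS : B ≤ (S : Subgroup G))
    (hB : Cfsg.IsElementaryAbelian 2 B)
    (hcl : ∀ (g : G), ∀ b ∈ B, g * b * g⁻¹ ∈ (S : Subgroup G) → g * b * g⁻¹ ∈ B) :
    Cfsg.ControlsStrongFusion 2 B := by
  haveI : Fact (Nat.Prime 2) := ⟨Nat.prime_two⟩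
  have hnorm : ∀ x : G, (∀ b ∈ B, x * b * x⁻¹ ∈ B) → x ∈ normalizer (B : Set G) := fun x hx =>
    mem_normalizer_iff_map_conj_eq.2 (eq_of_le_of_card_ge (by rintro _ ⟨b, hb, rfl⟩; exact hx b hb)
      (card_map_of_injective (MulAut.conj x).injective).ge)
  refine ⟨S, hBS, fun X hX => ⟨hX, fun g hg => ?_⟩⟩
  obtain ⟨c, g', y, hc, hy, hp, he⟩ := LocalEvenB.exists_strong_alperin_path S hX (g := g⁻¹) (by
    rintro _ ⟨a, ha, rfl⟩
    have := hg ⟨a, ha, rfl⟩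
    simpa using this)
  have hy' : y ∈ normalizer (B : Set G) := hnorm y fun b hb => hcl y b hb ((mem_normalizer_iff.1 hy b).1 (hBS hb))
  have key : ∀ {A : Set G} {k : G}, CfsgLib.Techniques.RelPath (LocalEvenB.AlperinStep 2 (S : Subgroup G)) A k →
      k ∈ normalizer (B : Set G) := by
    intro A k h
    induction h with
    | one A => exact one_mem _
    | step A H x k hR hA _ ih =>
      refine mul_mem (hnorm x fun b hb => ?_) ih
      obtain ⟨hHS, -, hcH, hO, -, Y, ⟨-, hYN, -⟩, hxY⟩ := hR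
      have hxN : x ∈ normalizer (H : Set G) := hYN ((map_subtype_le _) hxY)
      have hbH := elem_le_of_step S hBS hB hcl hHS hcH hO hb
      exact hcl x b hb (hHS ((mem_normalizer_iff.1 hxN b).1 hbH))
  refine ⟨(g' * y)⁻¹, inv_mem (mul_mem (key hp) hy'), fun a ha => ?_⟩
  have h1 : c⁻¹ * a * c = a := by
    rw [mul_assoc, mem_centralizer_iff.1 hc a ha, inv_mul_cancel_left]
  rw [show g = (c * g' * y)⁻¹ by rw [← he, inv_inv]]
  calc _ = (g' * y)⁻¹ * (c⁻¹ * a * c) * (g' * y) := by group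
    _ = _ := by rw [h1]; group

end CfsgLib.LocalEven.Factor
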