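import Cfsg.Agent.Lib.LocalEven.Factor.Two
import Cfsg.Agent.Lib.OddLocal.Coprime
import Cfsg.Agent.Lib.Techniques.CriticalDegree

/-!
# A chief factor which is not centralized by an element of odd order

* `odd_two_step`: coprime action on a series of length two
* `pCore_eq_bot_of_minimal`: minimal normal `2`-subgroups are reduced
* `exists_chief`, `dich`
-/

set_option autoImplicit false
set_option linter.all false

namespace CfsgLib.LocalEven.Factor

open Subgroup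
open scoped commutatorElement

universe u

variable {G : Type u} [Group G] [Finite G]

/-- an element of odd order stabilizing a series of length two in a `2`-group centralizes it -/
theorem odd_two_step {W W₀ : Subgroup G} (h₀ : W₀ ≤ W) (hW : IsPGroup 2 W) {g : G} (hg : Odd (orderOf g))
    (h1 : ∀ w ∈ W, w⁻¹ * (g * w * g⁻¹) ∈ W₀) (h2 : g ∈ centralizer (W₀ : Set G)) : g ∈ centralizer (W : Set G) := by
  haveI : Fact (Nat.Prime 2) := ⟨Nat.prime_two⟩
  obtain ⟨k, hk⟩ := IsPGroup.iff_card.1 hW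
  refine CfsgLib.OddLocal.centralizes_of_stabilizes_series (n := orderOf g) (pow_orderOf_eq_one g)
    (by rw [hk]; exact (Nat.coprime_two_right.2 hg).pow_right k) ![W, W₀, ⊥] rfl rfl ?_ ?_
  · intro i; fin_cases i <;> simp [h₀]
  · intro i h hh
    fin_cases i
    · exact h1 h hh
    · show h⁻¹ * (g * h * g⁻¹) ∈ (⊥ : Subgroup G)
      rw [mem_bot, ← mem_centralizer_iff.1 h2 h hh, mul_inv_cancel_right, inv_mul_cancel]

/-- a minimal normal `2`-subgroup is elementary abelian and reduced -/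
theorem pCore_eq_bot_of_minimal {W : Subgroup G} [W.Normal] (hW2 : IsPGroup 2 W) (hW1 : W ≠ ⊥)
    (hmin : ∀ X : Subgroup G, X.Normal → X ≤ W → X = ⊥ ∨ X = W) :
    Cfsg.IsElementaryAbelian 2 W ∧ Cfsg.pCore 2 (G ⧸ centralizer (W : Set G)) = ⊥ := by
  haveI : Fact (Nat.Prime 2) := ⟨Nat.prime_two⟩
  haveI : Nontrivial ↥W := (nontrivial_iff_ne_bot W).2 hW1
  have heven : 2 ∣ Nat.card W := by
    obtain ⟨n, hn⟩ := IsPGroup.iff_card.1 hW2
    rcases n with _ | n
    · rw [pow_zero] at hn; exact absurd (eq_bot_of_card_eq W hn) hW1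
    · rw [hn, pow_succ]; exact dvd_mul_left _ _
  have hlt := CfsgLib.Techniques.commutator_lt_of_isPGroup hW2 le_rfl hW1 ‹_›
  have hab : ∀ a ∈ W, ∀ b ∈ W, a * b = b * a := by
    rcases hmin ⁅W, W⁆ inferInstance hlt.le with h | h
    · intro a ha b hb
      rw [← commutatorElement_eq_one_iff_mul_comm, ← mem_bot, ← h]
      exact commutator_mem_commutator ha hb
    · exact absurd h hlt.ne
  refine ⟨⟨⟨⟨fun a b => Subtype.ext (hab a a.2 b b.2)⟩⟩, ?_⟩, ?_⟩
  · let Ω : Subgroup G :=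
      { carrier := {w | w ∈ W ∧ w ^ 2 = 1}
        one_mem' := ⟨one_mem W, one_pow 2⟩
        mul_mem' := fun {a b} ha hb => ⟨mul_mem ha.1 hb.1, by
          rw [(show Commute a b from hab a ha.1 b hb.1).mul_pow, ha.2, hb.2, one_mul]⟩
        inv_mem' := fun {a} ha => ⟨inv_mem ha.1, by rw [inv_pow, ha.2, inv_one]⟩ }
    have hΩn : Ω.Normal := ⟨fun w hw g => ⟨(inferInstance : W.Normal).conj_mem w hw.1 g, by
      rw [conj_pow, hw.2, mul_one, mul_inv_cancel]⟩⟩
    rcases hmin Ω hΩn (fun w hw => hw.1) with h | h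
    · exfalso
      obtain ⟨w, hw⟩ := exists_prime_orderOf_dvd_card' 2 heven
      have h1 : (w : G) ∈ Ω := ⟨w.2, by rw [← SubmonoidClass.coe_pow, ← hw, pow_orderOf_eq_one]; rfl⟩
      rw [h, mem_bot, OneMemClass.coe_eq_one] at h1
      rw [h1, orderOf_one] at hw
      norm_num at hw
    · intro w hw
      exact (h.ge hw).2
  · obtain ⟨R, hR⟩ : ∃ R, R = (Cfsg.pCore 2 (G ⧸ centralizer (W : Set G))).comap
        (QuotientGroup.mk' (centralizer (W : Set G))) := ⟨_, rfl⟩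
    have hRn : R.Normal := hR ▸ inferInstance
    suffices hRC : R ≤ centralizer (W : Set G) by
      refine (eq_bot_iff_forall _).2 fun x hx => ?_
      obtain ⟨r, rfl⟩ := QuotientGroup.mk'_surjective _ x
      exact (QuotientGroup.eq_one_iff r).2 (hRC (hR ▸ hx))
    obtain ⟨P, hP⟩ : ∃ P : Subgroup (MulAut ↥W), P = R.map (MulAut.conjNormal : G →* MulAut ↥W) := ⟨_, rfl⟩
    have hP2 : IsPGroup 2 P := by
      intro z
      obtain ⟨r, hr, hrz⟩ := (show (z : MulAut ↥W) ∈ R.map MulAut.conjNormal from hP ▸ z.2)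
      rw [hR] at hr
      obtain ⟨k, hk⟩ := CfsgLib.Core.isPGroup_pCore 2 (G ⧸ centralizer (W : Set G)) ⟨_, hr⟩
      have hk' : r ^ 2 ^ k ∈ centralizer (W : Set G) := (QuotientGroup.eq_one_iff _).1 (congrArg Subtype.val hk)
      refine ⟨k, Subtype.ext (MulEquiv.ext fun w => Subtype.ext ?_)⟩
      rw [SubmonoidClass.coe_pow, ← hrz, ← map_pow, MulAut.conjNormal_apply,
        ← mem_centralizer_iff.1 hk' w w.2, mul_inv_cancel_right]
      rfl
    haveI : Fintype ↥W := Fintype.ofFinite _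
    obtain ⟨F, hF⟩ : ∃ F, F = W ⊓ centralizer (R : Set G) := ⟨_, rfl⟩
    rcases hmin F (hF ▸ inferInstance) (hF ▸ inf_le_left) with h | h
    · exfalso
      have hmod := hP2.card_modEq_card_fixedPoints (α := ↥W)
      have h2 : 2 ∣ Nat.card (MulAction.fixedPoints ↥P ↥W) :=
        (Nat.modEq_zero_iff_dvd).1 (hmod.symm.trans (Nat.modEq_zero_iff_dvd.2 heven))
      have hone : (1 : ↥W) ∈ MulAction.fixedPoints ↥P ↥W := fun z => map_one (z : MulAut ↥W)
      have hsub : ∀ w ∈ MulAction.fixedPoints ↥P ↥W, w = 1 := fun w hw => by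
        have h1 : (w : G) ∈ F := hF ▸ mem_inf.2 ⟨w.2, mem_centralizer_iff.2 fun r hr => by
          have h3 := congrArg Subtype.val (hw ⟨MulAut.conjNormal r, hP ▸ mem_map_of_mem _ hr⟩)
          change ((MulAut.conjNormal r w : ↥W) : G) = w at h3
          rw [MulAut.conjNormal_apply, mul_inv_eq_iff_eq_mul] at h3
          exact h3⟩
        rw [h, mem_bot] at h1
        exact Subtype.ext h1
      haveI : Subsingleton (MulAction.fixedPoints ↥P ↥W) := ⟨fun a b => Subtype.ext (by rw [hsub a a.2, hsub b b.2])⟩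
      haveI : Nonempty (MulAction.fixedPoints ↥P ↥W) := ⟨⟨1, hone⟩⟩
      rw [Nat.card_of_subsingleton (⟨1, hone⟩ : MulAction.fixedPoints ↥P ↥W)] at h2
      norm_num at h2
    · intro r hr
      refine mem_centralizer_iff.2 fun w hw => ?_
      have h1 : w ∈ F := h.ge hw
      rw [hF] at h1
      exact (mem_centralizer_iff.1 h1.2 r hr).symm

/-- a chief factor not centralized by an element of odd order -/
theorem exists_chief {M : Subgroup G} [M.Normal] (hM : IsPGroup 2 M)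
    (hg : ∃ g : G, Odd (orderOf g) ∧ g ∉ centralizer (M : Set G)) :
    ∃ (W W₀ : Subgroup G) (_ : W.Normal) (_ : W₀.Normal), W₀ ≤ W ∧ W ≤ M ∧
      ∃ _ : (W.map (QuotientGroup.mk' W₀)).Normal,
        Cfsg.IsElementaryAbelian 2 (W.map (QuotientGroup.mk' W₀)) ∧
        Cfsg.pCore 2 ((G ⧸ W₀) ⧸ centralizer ((W.map (QuotientGroup.mk' W₀) : Subgroup (G ⧸ W₀)) : Set (G ⧸ W₀))) = ⊥ ∧
        ∃ g : G, Odd (orderOf g) ∧
          QuotientGroup.mk' W₀ g ∉ centralizer ((W.map (QuotientGroup.mk' W₀) : Subgroup (G ⧸ W₀)) : Set (G ⧸ W₀)) := by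
  haveI : Fact (Nat.Prime 2) := ⟨Nat.prime_two⟩
  obtain ⟨W, ⟨hWn, hWM, g, hg, hgW⟩, hWmin⟩ := (Set.toFinite {W : Subgroup G | W.Normal ∧ W ≤ M ∧
      ∃ g : G, Odd (orderOf g) ∧ g ∉ centralizer (W : Set G)}).exists_minimal ⟨M, ‹_›, le_rfl, hg⟩
  have hW1 : W ≠ ⊥ := fun h => hgW (by
    subst h; exact mem_centralizer_iff.2 fun x hx => by rw [mem_bot.1 hx, one_mul, mul_one])
  obtain ⟨W₀, ⟨hW₀n, hW₀lt⟩, hW₀max⟩ := (Set.toFinite {X : Subgroup G | X.Normal ∧ X < W}).exists_maximal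
    ⟨⊥, inferInstance, bot_lt_iff_ne_bot.2 hW1⟩
  haveI := hWn
  haveI := hW₀n
  obtain ⟨π, hπ⟩ : ∃ π, π = QuotientGroup.mk' W₀ := ⟨_, rfl⟩
  have hπs : Function.Surjective π := hπ ▸ QuotientGroup.mk'_surjective W₀
  have hker : π.ker = W₀ := by rw [hπ, QuotientGroup.ker_mk']
  haveI hVn : (W.map π).Normal := hWn.map π hπs
  have hV1 : W.map π ≠ ⊥ := fun h => hW₀lt.not_ge (by rwa [Subgroup.map_eq_bot_iff, hker] at h)
  have hV := pCore_eq_bot_of_minimal ((hM.to_le hWM).map π) hV1 fun X hX hXW => by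
    haveI := hX
    have h1 : X.comap π ≤ W := by
      refine (comap_mono hXW).trans (le_of_eq ?_)
      rw [comap_map_eq, hker, sup_eq_left.2 hW₀lt.le]
    rcases h1.lt_or_eq with h2 | h2
    · left
      have h3 : X.comap π ≤ W₀ := hW₀max ⟨inferInstance, h2⟩ (hker.ge.trans (ker_le_comap π X))
      rw [← map_comap_eq_self_of_surjective hπs X, Subgroup.map_eq_bot_iff, hker]
      exact h3
    · exact Or.inr (by rw [← h2, map_comap_eq_self_of_surjective hπs])
  have hgW₀ : g ∈ centralizer (W₀ : Set G) := by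
    by_contra h
    exact hW₀lt.not_ge (hWmin ⟨hW₀n, hW₀lt.le.trans hWM, g, hg, h⟩ hW₀lt.le)
  subst hπ
  refine ⟨W, W₀, hWn, hW₀n, hW₀lt.le, hWM, hVn, hV.1, hV.2, g, hg, fun hc => hgW (odd_two_step hW₀lt.le
    (hM.to_le hWM) hg (fun w hw => ?_) hgW₀)⟩
  rw [← QuotientGroup.eq_one_iff]
  show QuotientGroup.mk' W₀ (w⁻¹ * (g * w * g⁻¹)) = 1
  rw [map_mul, map_inv, map_mul, map_mul, map_inv, ← mem_centralizer_iff.1 hc _ (mem_map_of_mem _ hw),
    mul_inv_cancel_right, inv_mul_cancel]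

theorem relIndex_map_le {H : Type*} [Group H] (f : G →* H) (C W : Subgroup G) :
    (C.map f).relIndex (W.map f) ≤ C.relIndex W := by
  rw [← relIndex_comap, comap_map_eq]
  exact relIndex_le_of_le_left le_sup_left index_ne_zero_of_finite

/-- either the elements of odd order centralize the module, or both bounds hold -/
theorem dich (h : Hyp G) {H : Type u} [Group H] [Finite H] (f : G →* H) (hf : Function.Surjective f)
    {M : Subgroup H} [M.Normal] (hM : IsPGroup 2 M) {A : Subgroup G} (hA : Cfsg.IsElementaryAbelian 2 A)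
    (hK : ∀ K : Subgroup G, K.Normal → (∀ g : G, Odd (orderOf g) → g ∈ K) ∨ A ⊓ K ≤ Cfsg.pCore 2 G) :
    (∀ g : G, Odd (orderOf g) → f g ∈ centralizer (M : Set H)) ∨
      Nat.card A ^ 2 ≤ (centralizer ((A.map f : Subgroup H) : Set H)).relIndex M *
          Nat.card ↥(A ⊓ Cfsg.pCore 2 G) ^ 2 ∧
        Nat.card A ^ 2 ≤ Nat.card ↥⁅M, A.map f⁆ * Nat.card ↥(A ⊓ Cfsg.pCore 2 G) ^ 2 := by
  by_cases hall : ∀ g : G, Odd (orderOf g) → f g ∈ centralizer (M : Set H)
  · exact Or.inl hall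
  push Not at hall
  obtain ⟨g, hg, hgM⟩ := hall
  have hodd : Odd (orderOf (f g)) := hg.of_dvd_nat (orderOf_map_dvd f g)
  obtain ⟨W, W₀, hWn, hW₀n, hW₀W, hWM, hVn, hV, hO, x, hx, hxV⟩ := exists_chief hM ⟨f g, hodd, hgM⟩
  haveI := hW₀n
  haveI := hVn
  obtain ⟨q, hq⟩ : ∃ q : G →* H ⧸ W₀, q = (QuotientGroup.mk' W₀).comp f := ⟨_, rfl⟩
  have hqs : Function.Surjective q := hq ▸ (QuotientGroup.mk'_surjective W₀).comp hf
  obtain ⟨V, hVdef⟩ : ∃ V, V = W.map (QuotientGroup.mk' W₀) := ⟨_, rfl⟩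
  have hab : ⁅A.map q, A.map q⁆ ≤ centralizer (V : Set (H ⧸ W₀)) := by
    rw [← map_commutator, map_le_iff_le_comap, commutator_le]
    intro a ha b hb
    rw [commutatorElement_eq_one_iff_mul_comm.2 (elem_comm hA ha hb)]
    exact one_mem _
  have hsq : ∀ r ∈ A.map q, r ^ 2 ∈ centralizer (V : Set (H ⧸ W₀)) := by
    rintro _ ⟨a, ha, rfl⟩
    rw [← map_pow, hA.2 a ha, map_one]; exact one_mem _
  subst hVdef
  obtain ⟨h1, h2⟩ := offender_quot _ (free_of_surjective q hqs h.free) (good_of_surjective q hqs h.good) hV hO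
    (A.map q) hab hsq
  obtain ⟨V, hVdef⟩ : ∃ V, V = W.map (QuotientGroup.mk' W₀) := ⟨_, rfl⟩
  rw [← hVdef] at h1 h2 hxV
  obtain ⟨C, hC⟩ : ∃ C, C = centralizer (V : Set (H ⧸ W₀)) := ⟨_, rfl⟩
  haveI : V.Normal := hVdef ▸ hVn
  haveI : C.Normal := hC ▸ inferInstance
  rw [← hC] at h1 h2 hxV
  have hKQ : A ⊓ C.comap q ≤ Cfsg.pCore 2 G := by
    refine (hK (C.comap q) inferInstance).resolve_left fun hK' => hxV ?_
    obtain ⟨x₀, rfl⟩ := hf x
    obtain ⟨v, m, hm, hvm⟩ := Nat.exists_eq_pow_mul_and_not_dvd (orderOf_pos x₀).ne' 2 (by norm_num)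
    have hox : Odd (orderOf (x₀ ^ 2 ^ v)) := by
      rw [orderOf_pow_of_dvd (by positivity) (hvm ▸ dvd_mul_right _ _), hvm, Nat.mul_div_cancel_left _ (by positivity)]
      rw [← Nat.not_even_iff_odd, even_iff_two_dvd]; exact hm
    have h3 : (q x₀) ^ 2 ^ v ∈ C := by rw [← map_pow]; exact hK' _ hox
    have h4 : (q x₀) ^ orderOf (f x₀) ∈ C := by
      rw [hq, MonoidHom.comp_apply, ← map_pow, pow_orderOf_eq_one, map_one]; exact one_mem _
    have h5 := Int.gcd_eq_gcd_ab (2 ^ v : ℕ) (orderOf (f x₀) : ℕ)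
    rw [Int.gcd_natCast_natCast, ((Nat.coprime_two_left.2 hx).pow_left v).gcd_eq_one] at h5
    have h6 : (q x₀) ^ ((1 : ℕ) : ℤ) ∈ C := by
      rw [h5, zpow_add, zpow_mul, zpow_mul, zpow_natCast, zpow_natCast]
      exact mul_mem (zpow_mem h3 _) (zpow_mem h4 _)
    rw [zpow_natCast, pow_one, hq] at h6
    exact h6
  have hmul : ∀ {K : Type u} [Group K] [Finite K] (X Y : Subgroup K), Nat.card ↥(X ⊓ Y) * Y.relIndex X = Nat.card X :=
    fun X Y => by
      rw [← inf_relIndex_left, inf_comm, ← relIndex_bot_left, ← relIndex_bot_left,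
        relIndex_mul_relIndex _ _ _ bot_le inf_le_right]
  obtain ⟨c, hc⟩ : ∃ c, c = Nat.card ↥(A.map q ⊓ C) := ⟨_, rfl⟩
  have hcpos : 0 < c := hc ▸ Nat.card_pos
  have hac : Nat.card A * c ≤ Nat.card ↥(A.map q) * Nat.card ↥(A ⊓ Cfsg.pCore 2 G) := by
    rw [← hmul A (C.comap q), relIndex_comap, ← hmul (A.map q) C, ← hc]
    calc _ = Nat.card ↥(A ⊓ C.comap q) * (c * C.relIndex (A.map q)) := by ring
      _ ≤ Nat.card ↥(A ⊓ Cfsg.pCore 2 G) * (c * C.relIndex (A.map q)) :=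
        Nat.mul_le_mul_right _ (card_le_of_le (le_inf inf_le_left hKQ))
      _ = _ := by ring
  rw [← hc] at h1 h2
  refine Or.inr ⟨?_, ?_⟩
  · obtain ⟨i, hi⟩ : ∃ i, i = (centralizer ((A.map q : Subgroup (H ⧸ W₀)) : Set (H ⧸ W₀))).relIndex V := ⟨_, rfl⟩
    have h3 : Nat.card ↥(A.map q) ^ 2 ≤ i * c ^ 2 := by
      refine Nat.le_of_mul_le_mul_right ?_ (Nat.card_pos (α := ↥(V ⊓ centralizer ((A.map q : Subgroup (H ⧸ W₀)) : Set (H ⧸ W₀)))))
      refine h1.trans (le_of_eq ?_)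
      rw [← hmul V (centralizer ((A.map q : Subgroup (H ⧸ W₀)) : Set (H ⧸ W₀))), hi]
      ring
    have h4 : i ≤ (centralizer ((A.map f : Subgroup H) : Set H)).relIndex M := by
      refine le_trans ?_ (relIndex_le_of_le_right hWM index_ne_zero_of_finite)
      refine le_trans ?_ (relIndex_map_le (QuotientGroup.mk' W₀) _ W)
      rw [hi, ← hVdef]
      refine relIndex_le_of_le_left ?_ index_ne_zero_of_finite
      rintro _ ⟨z, hz, rfl⟩
      refine mem_centralizer_iff.2 ?_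
      rintro _ ⟨w, hw, rfl⟩
      rw [hq, MonoidHom.comp_apply, ← map_mul, ← map_mul, mem_centralizer_iff.1 hz _ (mem_map_of_mem f hw)]
    refine le_trans ?_ (Nat.mul_le_mul_right _ h4)
    refine Nat.le_of_mul_le_mul_right ?_ (pow_pos hcpos 2)
    calc Nat.card A ^ 2 * c ^ 2 = (Nat.card A * c) ^ 2 := by ring
      _ ≤ (Nat.card ↥(A.map q) * Nat.card ↥(A ⊓ Cfsg.pCore 2 G)) ^ 2 := Nat.pow_le_pow_left hac 2
      _ ≤ i * c ^ 2 * Nat.card ↥(A ⊓ Cfsg.pCore 2 G) ^ 2 := by rw [mul_pow]; exact Nat.mul_le_mul_right _ h3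
      _ = _ := by ring
  · have h4 : Nat.card ↥⁅V, A.map q⁆ ≤ Nat.card ↥⁅M, A.map f⁆ := by
      refine le_trans (card_le_of_le ?_) (Nat.le_of_dvd Nat.card_pos (card_map_dvd ⁅M, A.map f⁆ (QuotientGroup.mk' W₀)))
      rw [hVdef, hq, ← Subgroup.map_map, ← map_commutator]
      exact map_mono (commutator_mono hWM le_rfl)
    refine le_trans ?_ (Nat.mul_le_mul_right _ h4)
    refine Nat.le_of_mul_le_mul_right ?_ (pow_pos hcpos 2)
    calc Nat.card A ^ 2 * c ^ 2 = (Nat.card A * c) ^ 2 := by ring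
      _ ≤ (Nat.card ↥(A.map q) * Nat.card ↥(A ⊓ Cfsg.pCore 2 G)) ^ 2 := Nat.pow_le_pow_left hac 2
      _ ≤ Nat.card ↥⁅V, A.map q⁆ * c ^ 2 * Nat.card ↥(A ⊓ Cfsg.pCore 2 G) ^ 2 := by
        rw [mul_pow]; exact Nat.mul_le_mul_right _ h2
      _ = _ := by ring

end CfsgLib.LocalEven.Factor
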