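import Cfsg.Agent.Lib.LocalEven.OffenderCommutator
import Cfsg.Agent.Lib.LocalEven.OffenderComponents
import Cfsg.Agent.Lib.PLocal.ActionModel
import Cfsg.Agent.Lib.LocalEven.SFour
import Cfsg.Prelude.Def_Local

/-!
# The offender bound for groups without section `S₄`

* `Good`: every non-abelian composition factor is `Sz(q)` or `PSL₂(3 ^ (2 n + 1))`; closure properties
* `not_involves_three_action`: the group induced on an elementary abelian normal `2`-subgroup has no section `S₃`
* `offender_quot`: the bounds `|V : C_V(R)| ≥ |R̄|²`, `|[V, R]| ≥ |R̄|²` when `O₂(G / C(V)) = 1`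
-/

set_option autoImplicit false
set_option linter.all false

namespace CfsgLib.LocalEven.Factor

open Subgroup
open scoped commutatorElement

universe u

/-- every non-abelian composition factor is in the small family -/
abbrev Good (G : Type u) [Group G] : Prop :=
  Cfsg.IsCompositionKGroupWith Cfsg.IsSuzukiOrPSL2OddPowerThree G

theorem small_congr {X Y : Type u} [Group X] [Group Y] (e : X ≃* Y)
    (h : Cfsg.IsSuzukiOrPSL2OddPowerThree Y) : Cfsg.IsSuzukiOrPSL2OddPowerThree X := by
  rcases h with ⟨F, i1, i2, m, hm, hF, ⟨f⟩⟩ | ⟨F, i1, i2, n, hF, ⟨f⟩⟩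
  · exact Or.inl ⟨F, i1, i2, m, hm, hF, ⟨e.trans f⟩⟩
  · exact Or.inr ⟨F, i1, i2, n, hF, ⟨e.trans f⟩⟩

variable {G : Type u} [Group G]

/-- a composition factor seen through a homomorphism -/
theorem small_of_surjective {H : Type u} [Group H] (hc : Good G) {K : Subgroup G} (hK : K.IsSubnormal)
    (f : ↥K →* H) (hf : Function.Surjective f) [IsSimpleGroup H] (hna : ¬ IsMulCommutative H) :
    Cfsg.IsSuzukiOrPSL2OddPowerThree H := by
  let e := QuotientGroup.quotientKerEquivOfSurjective f hf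
  haveI : IsSimpleGroup (↥K ⧸ f.ker) := e.isSimpleGroup
  refine small_congr e.symm (hc K hK f.ker inferInstance fun h => hna ⟨⟨fun x y => ?_⟩⟩)
  apply e.symm.injective
  rw [map_mul, map_mul]
  exact h.is_comm.comm _ _

theorem good_of_surjective {Q : Type u} [Group Q] (f : G →* Q) (hf : Function.Surjective f) (hc : Good G) :
    Good Q := by
  intro H hH N _ hs hna
  haveI := hs
  exact small_of_surjective hc (hH.comap f) ((QuotientGroup.mk' N).comp (f.subgroupComap H))
    ((QuotientGroup.mk'_surjective N).comp (f.subgroupComap_surjective_of_surjective H hf)) hna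

theorem good_of_normal {M : Subgroup G} (hM : M.Normal) (hc : Good G) : Good ↥M := by
  intro H hH N _ hs hna
  haveI := hs
  exact small_of_surjective hc (CfsgLib.Components.isSubnormal_map_subtype_iff hM.isSubnormal |>.2 hH)
    ((QuotientGroup.mk' N).comp (H.equivMapOfInjective M.subtype M.subtype_injective).symm.toMonoidHom)
    ((QuotientGroup.mk'_surjective N).comp (MulEquiv.surjective _)) hna

theorem good_of_isSolvable [Group.IsSolvable G] : Good G := by
  intro H hH N _ hs hna
  haveI := hs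
  exact absurd ⟨⟨fun a b => IsSimpleGroup.comm_iff_isSolvable.2 inferInstance a b⟩⟩ hna

theorem good_of_extension (N : Subgroup G) [N.Normal] (h1 : Good ↥N) (h2 : Good (G ⧸ N)) : Good G := by
  intro H hH N₀ _ hs hna
  haveI := hs
  obtain ⟨M, hM⟩ : ∃ M, M = (N.subgroupOf H).map (QuotientGroup.mk' N₀) := ⟨_, rfl⟩
  have hMn : M.Normal := hM ▸ Subgroup.Normal.map inferInstance _ (QuotientGroup.mk'_surjective _)
  rcases hMn.eq_bot_or_eq_top with h | h
  · rw [hM, Subgroup.map_eq_bot_iff, QuotientGroup.ker_mk'] at h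
    let g := (QuotientGroup.mk' N).subgroupMap H
    have hg : Function.Surjective g := (QuotientGroup.mk' N).subgroupMap_surjective H
    have hk : g.ker ≤ N₀ := fun x hx => h (by
      rw [mem_subgroupOf, ← QuotientGroup.eq_one_iff]
      exact congrArg Subtype.val (MonoidHom.mem_ker.1 hx))
    let fq := g.liftOfSurjective hg ⟨QuotientGroup.mk' N₀, by rwa [QuotientGroup.ker_mk']⟩
    refine small_of_surjective h2 (hH.quotient (K := N)) fq ?_ hna
    intro z
    obtain ⟨x, rfl⟩ := QuotientGroup.mk'_surjective N₀ z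
    exact ⟨g x, g.liftOfRightInverse_comp_apply _ (Function.rightInverse_surjInv hg) _ x⟩
  · let g : ↥(H.subgroupOf N) →* ↥H ⧸ N₀ := (QuotientGroup.mk' N₀).comp
      { toFun := fun x => ⟨((x : ↥N) : G), x.2⟩, map_one' := rfl, map_mul' := fun _ _ => rfl }
    refine small_of_surjective h1 (hH.subgroupOf) g ?_ hna
    intro z
    obtain ⟨x, hx, rfl⟩ : z ∈ (N.subgroupOf H).map (QuotientGroup.mk' N₀) := hM ▸ h ▸ mem_top z
    exact ⟨⟨⟨(x : G), hx⟩, x.2⟩, rfl⟩

variable [Finite G]

/-- no section `S₃` in the group induced on an elementary abelian normal `2`-subgroup -/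
theorem not_involves_three_action {Q : Type u} [Group Q] (f : G →* Q) (hf : Function.Surjective f)
    (hfree : ¬ Cfsg.Involves (Equiv.Perm (Fin 4)) G) {V : Subgroup G} [V.Normal]
    (hV : Cfsg.IsElementaryAbelian 2 V) (hker : f.ker = centralizer (V : Set G)) :
    ¬ Cfsg.Involves (Equiv.Perm (Fin 3)) Q := by
  rintro ⟨K, R, hR, ⟨e⟩⟩
  haveI := hR
  haveI : Fact (Nat.Prime 3) := ⟨Nat.prime_three⟩
  let q : ↥(K.comap f) →* Equiv.Perm (Fin 3) :=
    e.toMonoidHom.comp ((QuotientGroup.mk' (R.subgroupOf K)).comp (f.subgroupComap K))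
  have hq : Function.Surjective q :=
    e.surjective.comp ((QuotientGroup.mk'_surjective _).comp (f.subgroupComap_surjective_of_surjective K hf))
  obtain ⟨tt, htt⟩ := hq (Equiv.swap 0 1)
  obtain ⟨zz, hzz⟩ := hq (Equiv.swap 0 1 * Equiv.swap 1 2)
  have hord : orderOf (q zz) = 3 ^ 1 := by
    rw [pow_one]
    exact orderOf_eq_prime (by rw [hzz]; decide) (by rw [hzz]; decide)
  have hinv : q tt * q zz * (q tt)⁻¹ = (q zz)⁻¹ := by rw [hzz, htt]; decide
  obtain ⟨t, z, ⟨k, hk⟩, ⟨j, hj⟩, htz, hz⟩ :=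
    LocalEven.exists_inverting_lift q hq (p := 3) (by decide) ⟨1, hord⟩
      (fun h => by rw [h, orderOf_one] at hord; norm_num at hord) hinv
  have hzc : (z : G) ∉ centralizer (V : Set G) := fun h => hz (by
    rw [← hker, MonoidHom.mem_ker] at h
    have : f.subgroupComap K z = 1 := Subtype.ext h
    show e (QuotientGroup.mk' (R.subgroupOf K) (f.subgroupComap K z)) = 1
    rw [this, map_one, map_one])
  have hex : ∃ i, ((z : G) ^ 3 ^ i) ∈ centralizer (V : Set G) :=
    ⟨j, by rw [← SubmonoidClass.coe_pow, ← hj, pow_orderOf_eq_one]; exact one_mem _⟩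
  classical
  obtain ⟨i, hi⟩ := Nat.exists_eq_succ_of_ne_zero (n := Nat.find hex) fun h0 => hzc (by
    have := Nat.find_spec hex
    rwa [h0, pow_zero, pow_one] at this)
  have hmin := Nat.find_min hex (show i < Nat.find hex by omega)
  obtain ⟨v, hv, hvz⟩ : ∃ v ∈ V, (z : G) ^ 3 ^ i * v ≠ v * (z : G) ^ 3 ^ i := by
    by_contra hcon
    push Not at hcon
    exact hmin (mem_centralizer_iff.2 fun v hv => (hcon v hv).symm)
  have hN : ∀ x : G, x ∈ normalizer (V : Set G) := fun x => by rw [normalizer_eq_top]; exact mem_top x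
  refine hfree (LocalEven.involves_four_of_elementary V (fun v hv => by rw [← pow_two, hV.2 v hv])
    (fun v hv w hw => congrArg Subtype.val (hV.1.is_comm.comm ⟨v, hv⟩ ⟨w, hw⟩))
    (x := (t : G)) (y := (z : G) ^ 3 ^ i) (hN _) (hN _)
    ⟨k, by rw [← SubmonoidClass.coe_pow, ← hk, pow_orderOf_eq_one]; rfl⟩ ?_ (fun w hw => ?_) ⟨v, hv, hvz⟩)
  · rw [← conj_pow, ← inv_pow]
    exact congrArg (fun g : G => g ^ 3 ^ i) (congrArg Subtype.val htz)
  · have h : ((z : G) ^ 3 ^ i) ^ 3 ∈ centralizer (V : Set G) := by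
      rw [← pow_mul, ← pow_succ, ← Nat.succ_eq_add_one, ← hi]
      exact Nat.find_spec hex
    exact (mem_centralizer_iff.1 h w hw).symm

variable (V : Subgroup G) [V.Normal]

theorem range_facts (hfree : ¬ Cfsg.Involves (Equiv.Perm (Fin 4)) G) (hc : Good G)
    (hV : Cfsg.IsElementaryAbelian 2 V) (hO : Cfsg.pCore 2 (G ⧸ centralizer (V : Set G)) = ⊥) :
    Cfsg.pCore 2 ↥(PLocal.toHol V).range = ⊥ ∧
      ¬ Cfsg.Involves (Equiv.Perm (Fin 3)) ↥(PLocal.toHol V).range ∧ Good ↥(PLocal.toHol V).range := by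
  refine ⟨?_, ?_, ?_⟩
  · have h := CfsgLib.Core.map_equiv_pCore (p := 2)
      ((QuotientGroup.quotientMulEquivOfEq (PLocal.ker_toHol V).symm).trans
        (QuotientGroup.quotientKerEquivRange (PLocal.toHol V)))
    rw [hO, Subgroup.map_bot] at h
    exact h.symm
  · exact not_involves_three_action (PLocal.toHol V).rangeRestrict (MonoidHom.rangeRestrict_surjective _) hfree hV
      (by rw [MonoidHom.ker_rangeRestrict, PLocal.ker_toHol])
  · exact good_of_surjective _ (MonoidHom.rangeRestrict_surjective (PLocal.toHol V)) hc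

omit [Finite G] in
theorem commutator_modV_le (R : Subgroup G) :
    ⁅PLocal.modV V, R.map (PLocal.toHol V)⁆ ≤ ((⁅V, R⁆).subgroupOf V).map SemidirectProduct.inl := by
  rw [commutator_le]
  rintro _ ⟨w, rfl⟩ _ ⟨r, hr, rfl⟩
  refine ⟨w * MulAut.conjNormal r w⁻¹, ?_, ?_⟩
  · show (w : G) * (MulAut.conjNormal r w⁻¹ : ↥V) ∈ ⁅V, R⁆
    rw [MulAut.conjNormal_apply, coe_inv, show (w : G) * (r * (w : G)⁻¹ * r⁻¹) = ⁅(w : G), r⁆ by
      rw [commutatorElement_def]; group]
    exact commutator_mem_commutator w.2 hr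
  · rw [map_mul, ← PLocal.conj_inl, commutatorElement_def, map_inv]
    group

theorem isElementary_map_of_mod {H : Type*} [Group H] (f : G →* H) {R : Subgroup G}
    (hab : ⁅R, R⁆ ≤ f.ker) (hsq : ∀ r ∈ R, r ^ 2 ∈ f.ker) : Cfsg.IsElementaryAbelian 2 (R.map f) := by
  refine ⟨⟨⟨?_⟩⟩, ?_⟩
  · rintro ⟨_, a, ha, rfl⟩ ⟨_, b, hb, rfl⟩
    refine Subtype.ext ?_
    show f a * f b = f b * f a
    rw [← commutatorElement_eq_one_iff_mul_comm, ← map_commutatorElement]
    exact hab (commutator_mem_commutator ha hb)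
  · rintro _ ⟨a, ha, rfl⟩
    rw [← map_pow]
    exact hsq a ha

/-- the two bounds for a subgroup acting as an elementary abelian group -/
theorem offender_quot (hfree : ¬ Cfsg.Involves (Equiv.Perm (Fin 4)) G) (hc : Good G)
    (hV : Cfsg.IsElementaryAbelian 2 V) (hO : Cfsg.pCore 2 (G ⧸ centralizer (V : Set G)) = ⊥) (R : Subgroup G)
    (hab : ⁅R, R⁆ ≤ centralizer (V : Set G)) (hsq : ∀ r ∈ R, r ^ 2 ∈ centralizer (V : Set G)) :
    Nat.card R ^ 2 * Nat.card ↥(V ⊓ centralizer (R : Set G)) ≤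
        Nat.card V * Nat.card ↥(R ⊓ centralizer (V : Set G)) ^ 2 ∧
      Nat.card R ^ 2 ≤ Nat.card ↥⁅V, R⁆ * Nat.card ↥(R ⊓ centralizer (V : Set G)) ^ 2 := by
  obtain ⟨ha, hb, hcH⟩ := range_facts V hfree hc hV hO
  rw [← PLocal.ker_toHol V] at hab hsq
  let π := PLocal.toHol V
  obtain ⟨A, hA⟩ : ∃ A, A = R.map π.rangeRestrict := ⟨_, rfl⟩
  have hAe : Cfsg.IsElementaryAbelian 2 A := hA ▸ isElementary_map_of_mod _
    (by rwa [MonoidHom.ker_rangeRestrict]) (by rwa [MonoidHom.ker_rangeRestrict])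
  have hmap : A.map π.range.subtype = R.map π := by
    rw [hA, Subgroup.map_map, MonoidHom.subtype_comp_rangeRestrict]
  have hcard : Nat.card A * Nat.card ↥(R ⊓ centralizer (V : Set G)) = Nat.card R := by
    rw [← card_map_of_injective (K := A) π.range.subtype_injective, hmap]
    exact PLocal.card_map_toHol V R
  have hstep := fun B hB hB1 => SFreeOffender.exists_step ha hb hcH B hB hB1
  have h1 := SFreeOffender.offender_bound_of_steps (PLocal.modV V) π.range (PLocal.elementary_modV V hV)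
    (PLocal.range_le_normalizer V) (PLocal.range_faithful V) hstep A hAe
  have h2 := SFreeOffender.commutator_bound_of_steps (PLocal.modV V) π.range (PLocal.elementary_modV V hV)
    (PLocal.range_le_normalizer V) (PLocal.range_faithful V) hstep A hAe
  rw [hmap] at h1 h2
  rw [PLocal.card_cent_map, PLocal.card_modV] at h1
  have h3 : Nat.card ↥⁅PLocal.modV V, R.map π⁆ ≤ Nat.card ↥⁅V, R⁆ := by
    refine (Subgroup.card_le_of_le (commutator_modV_le V R)).trans (le_of_eq ?_)
    rw [card_map_of_injective SemidirectProduct.inl_injective]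
    exact Nat.card_congr (subgroupOfEquivOfLe (commutator_le_left V R)).toEquiv
  rw [← hcard]
  constructor
  · calc _ = (Nat.card A ^ 2 * Nat.card ↥(V ⊓ centralizer (R : Set G))) *
          Nat.card ↥(R ⊓ centralizer (V : Set G)) ^ 2 := by ring
      _ ≤ _ := Nat.mul_le_mul_right _ h1
  · calc _ = Nat.card A ^ 2 * Nat.card ↥(R ⊓ centralizer (V : Set G)) ^ 2 := by ring
      _ ≤ _ := Nat.mul_le_mul_right _ (h2.trans h3)

end CfsgLib.LocalEven.Factor
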