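import Cfsg.Agent.Lib.LocalEven.OffenderStep
import Cfsg.Agent.Lib.LocalEven.Factor.Quot

/-!
# Detecting a module from a commutator with a conjugate

* `Fam A`: a generating family of `A` with inverted elements centralized by the other members
* `detect`: some conjugate `A^w` has `|[M, A^w] : C(A)| ≥ |A|²`
* `detect_quot`: the same in a group acting on an elementary abelian normal subgroup
-/

set_option autoImplicit false
set_option linter.all false

namespace CfsgLib.LocalEven.Factor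

open Subgroup
open scoped commutatorElement

universe u

/-- the conditions on one inverted element -/
def GoodPair {G : Type*} [Group G] (a y : G) (r e : ℕ) : Prop :=
  0 < e ∧ r.Prime ∧ r ≠ 2 ∧ orderOf y = r ∧ a * y * a⁻¹ = y⁻¹ ∧
    ∀ k, 0 < k → k + 1 < 4 * e → ¬ r ∣ 2 ^ k - 1

/-- a family generating enough of `A`, each member inverting an element centralized by the others -/
def Fam {G : Type*} [Group G] (A : Subgroup G) : Prop :=
  ∃ (n : ℕ) (a y : Fin n → G) (r e : Fin n → ℕ), (∀ i, a i ∈ A) ∧ Nat.card A ≤ 2 ^ (∑ i, e i) ∧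
    (∀ i, GoodPair (a i) (y i) (r i) (e i)) ∧ ∀ i j, j ≠ i → a j * y i = y i * a j

variable {L : Type u} [Group L] [Finite L]

/-- commutators with `y` in an abelian normalized subgroup -/
theorem exists_moved {V : Subgroup L} (hVc : ∀ u ∈ V, ∀ v ∈ V, u * v = v * u) {y : L}
    (hy : y ∈ normalizer (V : Set L)) :
    ∃ F : Subgroup L, ∀ d, d ∈ F ↔ ∃ v ∈ V, d = y * v * y⁻¹ * v⁻¹ := by
  refine ⟨{ carrier := {d | ∃ v ∈ V, d = y * v * y⁻¹ * v⁻¹}, one_mem' := ⟨1, one_mem V, by group⟩,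
            mul_mem' := ?_, inv_mem' := ?_ }, fun d => Iff.rfl⟩
  · rintro _ _ ⟨u, hu, rfl⟩ ⟨v, hv, rfl⟩
    refine ⟨u * v, mul_mem hu hv, ?_⟩
    have hyv : y * v * y⁻¹ * v⁻¹ ∈ V := mul_mem ((mem_normalizer_iff.1 hy v).1 hv) (inv_mem hv)
    calc y * u * y⁻¹ * u⁻¹ * (y * v * y⁻¹ * v⁻¹) = y * u * y⁻¹ * (u⁻¹ * (y * v * y⁻¹ * v⁻¹)) := by group
      _ = y * u * y⁻¹ * ((y * v * y⁻¹ * v⁻¹) * u⁻¹) := by rw [hVc _ (inv_mem hu) _ hyv]
      _ = _ := by group
  · rintro _ ⟨v, hv, rfl⟩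
    refine ⟨v⁻¹, Subgroup.inv_mem V hv, ?_⟩
    have hyv : y * v * y⁻¹ ∈ V := (mem_normalizer_iff.1 hy v).1 hv
    calc (y * v * y⁻¹ * v⁻¹)⁻¹ = v * (y * v * y⁻¹)⁻¹ := by group
      _ = (y * v * y⁻¹)⁻¹ * v := hVc _ hv _ (inv_mem hyv)
      _ = _ := by group

/-- the gain from one inverted element -/
theorem gain {M G : Subgroup L} (hM : Cfsg.IsElementaryAbelian 2 M) (hGM : G ≤ normalizer (M : Set L))
    (hf : G ⊓ centralizer (M : Set L) = ⊥) {B : Subgroup L} (hBG : B ≤ G) (hB2 : IsPGroup 2 B) {a y : L} {r e : ℕ}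
    (ha : a ∈ G) (hy : y ∈ G) (ha2 : a * a = 1) (haB : a ∈ centralizer (B : Set L)) (hyB : y ∈ centralizer (B : Set L))
    (hp : GoodPair a y r e) :
    ∃ I : Subgroup L, I ≤ M ⊓ centralizer (B : Set L) ∧ I ⊓ centralizer ({a} : Set L) = ⊥ ∧
      2 ^ (2 * e) ≤ Nat.card I ∧
      ∀ d ∈ I, ∃ m ∈ M, d = m * (y * a * y⁻¹) * m⁻¹ * (y * a * y⁻¹)⁻¹ := by
  haveI : Fact (Nat.Prime 2) := ⟨Nat.prime_two⟩
  obtain ⟨he, hr, hr2, hord, hinv, hppd⟩ := hp
  obtain ⟨V, hV⟩ : ∃ V, V = M ⊓ centralizer (B : Set L) := ⟨_, rfl⟩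
  have hVM : V ≤ M := hV ▸ inf_le_left
  have hVc : ∀ u ∈ V, ∀ v ∈ V, u * v = v * u := fun u hu v hv =>
    congrArg Subtype.val (hM.1.is_comm.comm ⟨u, hVM hu⟩ ⟨v, hVM hv⟩)
  have hnV : ∀ g : L, g ∈ G → g ∈ centralizer (B : Set L) → g ∈ normalizer (V : Set L) := by
    intro g hg hgB
    have key : ∀ g : L, g ∈ G → g ∈ centralizer (B : Set L) → ∀ v ∈ V, g * v * g⁻¹ ∈ V := fun g hg hgB v hv => by
      rw [hV] at hv ⊢
      exact mem_inf.2 ⟨(mem_normalizer_iff.1 (hGM hg) v).1 hv.1, mul_mem (mul_mem hgB hv.2) (inv_mem hgB)⟩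
    exact mem_normalizer_iff.2 fun v => ⟨key g hg hgB v, fun h => by
      simpa [mul_assoc] using key g⁻¹ (inv_mem hg) (inv_mem hgB) _ h⟩
  have hyV := hnV y hy hyB
  have haV := hnV a ha haB
  obtain ⟨F, hF⟩ := exists_moved hVc hyV
  have hFV : F ≤ V := fun d hd => by
    obtain ⟨v, hv, rfl⟩ := (hF d).1 hd
    exact mul_mem ((mem_normalizer_iff.1 hyV v).1 hv) (inv_mem hv)
  have hFy : ∀ d ∈ F, y * d * y⁻¹ = d → d = 1 := by
    intro d hd hfix
    obtain ⟨v, hv, hdv⟩ := (hF d).1 hd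
    have hj : ∀ j : ℕ, y ^ j * v * (y ^ j)⁻¹ = d ^ j * v := by
      intro j
      induction j with
      | zero => simp
      | succ j ihj =>
        calc y ^ (j + 1) * v * (y ^ (j + 1))⁻¹ = y * (y ^ j * v * (y ^ j)⁻¹) * y⁻¹ := by rw [pow_succ']; group
          _ = y * d ^ j * y⁻¹ * (y * v * y⁻¹ * v⁻¹) * v := by rw [ihj]; group
          _ = d ^ (j + 1) * v := by rw [← conj_pow, hfix, ← hdv, pow_succ]
    have h1 := hj r
    rw [← hord, pow_orderOf_eq_one, one_mul, inv_one, mul_one, right_eq_mul, hord] at h1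
    obtain ⟨k, hk⟩ := hr.odd_of_ne_two hr2
    rwa [hk, pow_succ, pow_mul, hM.2 d (hVM (hFV hd)), one_pow, one_mul] at h1
  have hyF : y ∈ normalizer (F : Set L) := by
    have key : ∀ g : L, g * y * g⁻¹ = y → g ∈ normalizer (V : Set L) → ∀ d ∈ F, g * d * g⁻¹ ∈ F := by
      intro g hg hgV d hd
      obtain ⟨v, hv, rfl⟩ := (hF d).1 hd
      refine (hF _).2 ⟨g * v * g⁻¹, (mem_normalizer_iff.1 hgV v).1 hv, ?_⟩
      calc g * (y * v * y⁻¹ * v⁻¹) * g⁻¹
          = (g * y * g⁻¹) * (g * v * g⁻¹) * (g * y * g⁻¹)⁻¹ * (g * v * g⁻¹)⁻¹ := by group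
        _ = _ := by rw [hg]
    exact mem_normalizer_iff.2 fun d => ⟨key y (by group) hyV d, fun h => by
      simpa [mul_assoc] using key y⁻¹ (by group) (inv_mem hyV) _ h⟩
  have haF : a ∈ normalizer (F : Set L) := by
    have hai : a⁻¹ = a := inv_eq_of_mul_eq_one_right ha2
    have key : ∀ d ∈ F, a * d * a⁻¹ ∈ F := by
      intro d hd
      obtain ⟨v, hv, rfl⟩ := (hF d).1 hd
      have hu : a * v * a⁻¹ ∈ V := (mem_normalizer_iff.1 haV v).1 hv
      refine (hF _).2 ⟨(y⁻¹ * (a * v * a⁻¹) * y)⁻¹,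
        inv_mem (by simpa using (mem_normalizer_iff.1 (inv_mem hyV) _).1 hu), ?_⟩
      calc a * (y * v * y⁻¹ * v⁻¹) * a⁻¹
          = (a * y * a⁻¹) * (a * v * a⁻¹) * (a * y * a⁻¹)⁻¹ * (a * v * a⁻¹)⁻¹ := by group
        _ = y⁻¹ * (a * v * a⁻¹) * y * (a * v * a⁻¹)⁻¹ := by rw [hinv, inv_inv]
        _ = (a * v * a⁻¹)⁻¹ * (y⁻¹ * (a * v * a⁻¹) * y) :=
            hVc _ (by simpa using (mem_normalizer_iff.1 (inv_mem hyV) _).1 hu) _ (inv_mem hu)
        _ = _ := by group
    exact mem_normalizer_iff.2 fun d => ⟨key d, fun h => by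
      have := key _ h
      rwa [show a * (a * d * a⁻¹) * a⁻¹ = (a * a) * d * (a * a)⁻¹ by group, ha2, inv_one, one_mul, mul_one] at this⟩
  obtain ⟨a', ha'⟩ : ∃ a', a' = y * a * y⁻¹ := ⟨_, rfl⟩
  rw [← ha']
  have ha'2 : a' * a' = 1 := by
    rw [ha', show y * a * y⁻¹ * (y * a * y⁻¹) = y * (a * a) * y⁻¹ by group, ha2, mul_one, mul_inv_cancel]
  have ha'F : a' ∈ normalizer (F : Set L) := ha' ▸ mul_mem (mul_mem hyF haF) (inv_mem hyF)
  have hgy : a * a' = (y ^ 2)⁻¹ := by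
    rw [ha', pow_two, mul_inv_rev]
    calc a * (y * a * y⁻¹) = (a * y * a⁻¹) * (a * a) * y⁻¹ := by group
      _ = _ := by rw [hinv, ha2, mul_one]
  -- commutators with `a'`
  have hFc : ∀ u ∈ F, ∀ v ∈ F, u * v = v * u := fun u hu v hv => hVc u (hFV hu) v (hFV hv)
  let ψ : ↥F →* ↥F :=
    { toFun := fun m => ⟨(m : L) * a' * (m : L)⁻¹ * a'⁻¹, by
        have h := mul_mem m.2 ((mem_normalizer_iff.1 ha'F _).1 (inv_mem m.2))
        rwa [← mul_assoc, ← mul_assoc] at h⟩
      map_one' := Subtype.ext (by simp)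
      map_mul' := fun u v => Subtype.ext (by
        show (u : L) * v * a' * ((u : L) * v)⁻¹ * a'⁻¹ = (u * a' * (u : L)⁻¹ * a'⁻¹) * (v * a' * (v : L)⁻¹ * a'⁻¹)
        have hu' : (v : L) * a' * (v : L)⁻¹ * a'⁻¹ ∈ F := by
          have h := mul_mem v.2 ((mem_normalizer_iff.1 ha'F _).1 (inv_mem v.2))
          rwa [← mul_assoc, ← mul_assoc] at h
        have hu'' : a' * (u : L)⁻¹ * a'⁻¹ ∈ F := (mem_normalizer_iff.1 ha'F _).1 (inv_mem u.2)
        calc (u : L) * v * a' * ((u : L) * v)⁻¹ * a'⁻¹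
            = u * ((v * a' * (v : L)⁻¹ * a'⁻¹) * (a' * (u : L)⁻¹ * a'⁻¹)) := by group
          _ = u * ((a' * (u : L)⁻¹ * a'⁻¹) * (v * a' * (v : L)⁻¹ * a'⁻¹)) := by rw [hFc _ hu' _ hu'']
          _ = _ := by group) }
  obtain ⟨I, hI⟩ : ∃ I, I = ψ.range.map F.subtype := ⟨_, rfl⟩
  have hIF : I ≤ F := hI ▸ map_subtype_le _
  refine ⟨I, hIF.trans (hV ▸ hFV), ?_, ?_, ?_⟩
  · refine (eq_bot_iff_forall _).2 fun d hd => ?_
    obtain ⟨hdI, hda⟩ := mem_inf.1 hd
    rw [hI] at hdI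
    obtain ⟨_, ⟨m, rfl⟩, rfl⟩ := hdI
    obtain ⟨d, hd'⟩ : ∃ d, d = (m : L) * a' * (m : L)⁻¹ * a'⁻¹ := ⟨_, rfl⟩
    show (m : L) * a' * (m : L)⁻¹ * a'⁻¹ = 1
    rw [← hd']
    have hda' : a * d * a⁻¹ = d := by
      rw [mul_inv_eq_iff_eq_mul, hd']; exact (mem_centralizer_singleton_iff.1 hda).symm
    have hdF : d ∈ F := hd' ▸ (ψ m).2
    have hd2 : d⁻¹ = d := inv_eq_of_mul_eq_one_right (by rw [← pow_two]; exact hM.2 d (hVM (hFV hdF)))
    have hda'' : a' * d * a'⁻¹ = d := by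
      nth_rewrite 2 [← hd2]
      rw [hd']
      have hai : a'⁻¹ = a' := inv_eq_of_mul_eq_one_right ha'2
      calc a' * ((m : L) * a' * (m : L)⁻¹ * a'⁻¹) * a'⁻¹
          = a' * (m : L) * a' * (m : L)⁻¹ * (a'⁻¹ * a'⁻¹) := by group
        _ = a' * (m : L) * a'⁻¹ * (m : L)⁻¹ := by rw [← mul_inv_rev, ha'2, inv_one, mul_one, hai]
        _ = _ := by group
    have h2 : (y ^ 2)⁻¹ * d * (y ^ 2) = d := by
      have : (a * a') * d * (a * a')⁻¹ = d := by
        rw [show (a * a') * d * (a * a')⁻¹ = a * (a' * d * a'⁻¹) * a⁻¹ by group, hda'', hda']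
      rwa [hgy, inv_inv] at this
    have h3 : y ^ 2 ∈ centralizer ({d} : Set L) := mem_centralizer_singleton_iff.2 (by
      nth_rewrite 1 [← h2]; group)
    have h4 : y ∈ centralizer ({d} : Set L) := by
      obtain ⟨k, hk⟩ := hr.odd_of_ne_two hr2
      have hy1 : y ^ (2 * k + 1) = 1 := by rw [← hk, ← hord, pow_orderOf_eq_one]
      have : y = (y ^ (2 * k))⁻¹ := eq_inv_of_mul_eq_one_left (by rwa [← pow_succ'])
      rw [this, pow_mul]
      exact inv_mem (pow_mem h3 k)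
    exact hFy d hdF (mul_inv_eq_iff_eq_mul.2 (mem_centralizer_singleton_iff.1 h4))
  · have hFp : IsPGroup 2 F := fun v => ⟨1, Subtype.ext (by simpa using hM.2 _ (hVM (hFV v.2)))⟩
    have hmove : y ∉ centralizer (F : Set L) := by
      intro hc
      have hyVc : y ∈ centralizer (V : Set L) := mem_centralizer_iff.2 fun v hv => by
        have h1 : y * v * y⁻¹ * v⁻¹ ∈ F := (hF _).2 ⟨v, hv, rfl⟩
        have h2 := hFy _ h1 (by rw [← mem_centralizer_iff.1 hc _ h1, mul_inv_cancel_right])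
        rw [mul_inv_eq_one, mul_inv_eq_iff_eq_mul] at h2
        exact h2.symm
      have := CfsgLib.LocalEvenB.mem_centralizer_of_axb (p := 2)
        (by rw [hord]; exact (Nat.coprime_primes hr Nat.prime_two).2 hr2)
        (fun v => ⟨1, Subtype.ext (by simpa using hM.2 _ v.2)⟩) hB2 (hBG.trans hGM) (hGM hy) hyB (hV ▸ hyVc)
      have h1 : y ∈ G ⊓ centralizer (M : Set L) := ⟨hy, this⟩
      rw [hf, mem_bot] at h1
      rw [h1, orderOf_one] at hord
      exact hr.one_lt.ne hord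
    have h1 : 2 ^ (4 * e - 1) ≤ Ppd.fixIndex F y := by
      have := Ppd.pow_le_fixIndex_of_orderOf (p := 2) hFp hyF (e := 0) (N := 4 * e - 1) hr hr2
        (by rw [hord, pow_one]) (by rw [pow_zero, pow_one]; exact hmove)
        (fun j hj hjN => by rw [pow_one]; exact hppd j hj (by omega))
      rwa [pow_zero, pow_one] at this
    have h2 : Ppd.fixIndex F y ≤ Ppd.fixIndex F a' * Ppd.fixIndex F a' := by
      obtain ⟨k, hk⟩ := hr.odd_of_ne_two hr2
      have hy1 : y ^ (2 * k + 1) = 1 := by rw [← hk, ← hord, pow_orderOf_eq_one]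
      have hyk : y = (a * a') ^ k := by
        rw [hgy, inv_pow, ← pow_mul]
        exact eq_inv_of_mul_eq_one_left (by rwa [← pow_succ'])
      calc Ppd.fixIndex F y ≤ Ppd.fixIndex F (a * a') := by
            nth_rewrite 1 [hyk]; exact Ppd.fixIndex_pow_le F _ k
        _ ≤ Ppd.fixIndex F a * Ppd.fixIndex F a' := Ppd.fixIndex_mul_le F _ _
        _ = _ := by rw [ha', Ppd.fixIndex_conj hyF]
    have hIcard : Nat.card I = Ppd.fixIndex F a' := by
      have hk : ψ.ker = (F ⊓ centralizer ({a'} : Set L)).subgroupOf F := by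
        ext m
        rw [MonoidHom.mem_ker, mem_subgroupOf, mem_inf, mem_centralizer_singleton_iff]
        refine ⟨fun h => ⟨m.2, ?_⟩, fun h => Subtype.ext ?_⟩
        · have := congrArg Subtype.val h
          change (m : L) * a' * (m : L)⁻¹ * a'⁻¹ = 1 at this
          rwa [mul_inv_eq_one, mul_inv_eq_iff_eq_mul] at this
        · show (m : L) * a' * (m : L)⁻¹ * a'⁻¹ = 1
          rw [mul_inv_eq_one, mul_inv_eq_iff_eq_mul]; exact h.2
      rw [hI, card_map_of_injective F.subtype_injective,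
        ← Nat.card_congr (QuotientGroup.quotientKerEquivRange ψ).toEquiv, Ppd.fixIndex, relIndex, ← hk]
      rfl
    obtain ⟨k, hk⟩ := IsPGroup.iff_card.1 hFp
    obtain ⟨j, -, hj⟩ := (Nat.dvd_prime_pow Nat.prime_two).1
      (hk ▸ relIndex_dvd_card (F ⊓ centralizer ({a'} : Set L)) F)
    rw [hIcard]
    have h3 : 2 ^ (4 * e - 1) ≤ 2 ^ (j + j) := by
      rw [pow_add]
      refine h1.trans (h2.trans (le_of_eq ?_))
      rw [Ppd.fixIndex, hj]
    have := (Nat.pow_le_pow_iff_right (by norm_num : 1 < 2)).1 h3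
    rw [Ppd.fixIndex, hj]
    exact Nat.pow_le_pow_right two_pos (by omega)
  · intro d hd
    rw [hI] at hd
    obtain ⟨_, ⟨m, rfl⟩, rfl⟩ := hd
    exact ⟨m, hVM (hFV m.2), rfl⟩

/-- some conjugate of the commutator detects the square -/
theorem detect {M G : Subgroup L} (hM : Cfsg.IsElementaryAbelian 2 M) (hGM : G ≤ normalizer (M : Set L))
    (hf : G ⊓ centralizer (M : Set L) = ⊥) :
    ∀ (n : ℕ) (a y : Fin n → L) (r e : Fin n → ℕ), (∀ i, a i ∈ G) → (∀ i, y i ∈ G) → (∀ i, a i * a i = 1) →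
      (∀ i j, a i * a j = a j * a i) → (∀ i, GoodPair (a i) (y i) (r i) (e i)) →
      (∀ i j, j ≠ i → a j * y i = y i * a j) →
      ∃ w ∈ closure (Set.range y), ∀ R : Subgroup L,
        R = ⁅M, (closure (Set.range a)).map (MulAut.conj w).toMonoidHom⁆ →
        2 ^ (2 * ∑ i, e i) * Nat.card ↥(R ⊓ centralizer (Set.range a)) ≤ Nat.card R := by
  haveI : Fact (Nat.Prime 2) := ⟨Nat.prime_two⟩
  intro n
  induction n with
  | zero =>
    intro a y r e _ _ _ _ _ _
    refine ⟨1, one_mem _, fun R _ => ?_⟩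
    rw [Finset.univ_eq_empty, Finset.sum_empty, mul_zero, pow_zero, one_mul]
    exact card_le_of_le inf_le_left
  | succ n ih =>
    intro a y r e haG hyG ha2 hac hp hcom
    obtain ⟨w', hw', hrec⟩ := ih (a ∘ Fin.succ) (y ∘ Fin.succ) (r ∘ Fin.succ) (e ∘ Fin.succ) (fun i => haG _)
      (fun i => hyG _) (fun i => ha2 _) (fun i j => hac _ _) (fun i => hp _)
      (fun i j hij => hcom _ _ (fun h => hij (Fin.succ_injective _ h)))
    obtain ⟨A', hA'⟩ : ∃ A', A' = closure (Set.range (a ∘ Fin.succ)) := ⟨_, rfl⟩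
    obtain ⟨A, hA⟩ : ∃ A, A = closure (Set.range a) := ⟨_, rfl⟩
    have hA'A : A' ≤ A := hA ▸ hA' ▸ Subgroup.closure_mono (Set.range_comp_subset_range _ _)
    have haA : a 0 ∈ A := hA ▸ subset_closure ⟨0, rfl⟩
    have hA'G : A' ≤ G := hA' ▸ (closure_le _).2 (by rintro _ ⟨i, rfl⟩; exact haG _)
    have hAc : A ≤ centralizer (A : Set L) := by
      rw [hA, centralizer_closure]
      refine (closure_le _).2 ?_
      rintro _ ⟨i, rfl⟩
      exact mem_centralizer_iff.2 (by rintro _ ⟨j, rfl⟩; exact hac j i)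
    have hA'2 : IsPGroup 2 A' := by
      intro v
      refine ⟨1, Subtype.ext ?_⟩
      rw [pow_one, SubmonoidClass.coe_pow, coe_one]
      obtain ⟨v, hv⟩ := v
      show v ^ 2 = 1
      rw [hA'] at hv
      induction hv using closure_induction with
      | mem x hx => obtain ⟨i, rfl⟩ := hx; rw [pow_two]; exact ha2 _
      | one => exact one_pow 2
      | mul x z hx hz ihx ihz =>
        rw [(show Commute x z from (mem_centralizer_iff.1 (hAc (hA'A (hA' ▸ hx))) z (hA'A (hA' ▸ hz))).symm).mul_pow,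
          ihx, ihz, one_mul]
      | inv x _ ih => rw [inv_pow, ih, inv_one]
    have hy0A' : y 0 ∈ centralizer (A' : Set L) := by
      rw [hA', centralizer_closure]
      exact mem_centralizer_iff.2 (by rintro _ ⟨i, rfl⟩; exact hcom 0 i.succ (Fin.succ_ne_zero i))
    have hw'0 : a 0 * w' = w' * a 0 := by
      have : closure (Set.range (y ∘ Fin.succ)) ≤ centralizer ({a 0} : Set L) := (closure_le _).2 (by
        rintro _ ⟨i, rfl⟩
        exact mem_centralizer_singleton_iff.2 (hcom i.succ 0 (Fin.succ_ne_zero i).symm).symm)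
      exact (mem_centralizer_singleton_iff.1 (this hw')).symm
    refine ⟨y 0 * w', mul_mem (subset_closure ⟨0, rfl⟩)
      ((Subgroup.closure_mono (Set.range_comp_subset_range _ _)) hw'), fun R hR => ?_⟩
    rw [← hA] at hR
    obtain ⟨R', hR'⟩ : ∃ R', R' = ⁅M, A'.map (MulAut.conj w').toMonoidHom⁆ := ⟨_, rfl⟩
    have hrec' := hrec R' (hA' ▸ hR')
    rw [← centralizer_closure, ← hA'] at hrec'
    rw [← centralizer_closure, ← hA]
    obtain ⟨c, hc⟩ : ∃ c, c = (MulAut.conj (y 0)).toMonoidHom := ⟨_, rfl⟩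
    have hcinj : Function.Injective c := hc ▸ (MulAut.conj (y 0)).injective
    have hMc : M.map c = M := hc ▸ mem_normalizer_iff_map_conj_eq.1 (hGM (hyG 0))
    have hsub : R'.map c ≤ R := by
      rw [hR', map_commutator, hMc, hR, hc, Subgroup.map_map]
      refine commutator_mono le_rfl (le_of_le_of_eq (map_mono hA'A) ?_)
      congr 1
      ext x
      simp [mul_assoc]
    have hA'c : A'.map c = A' := by
      rw [hc]
      exact mem_normalizer_iff_map_conj_eq.1 (centralizer_le_normalizer _ hy0A')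
    have hcardC : Nat.card ↥(R'.map c ⊓ centralizer (A' : Set L)) = Nat.card ↥(R' ⊓ centralizer (A' : Set L)) := by
      have : (R' ⊓ centralizer (A' : Set L)).map c = R'.map c ⊓ centralizer (A' : Set L) := by
        rw [map_inf _ _ _ hcinj]
        congr 1
        nth_rewrite 2 [← hA'c]
        rw [hc]
        exact CfsgLib.LocalEvenB.map_centralizer_equiv (MulAut.conj (y 0)) A'
      rw [← this, card_map_of_injective hcinj]
    -- index in the larger group
    have hmul1 : ∀ X : Subgroup L, Nat.card ↥(X ⊓ centralizer (A' : Set L)) * (centralizer (A' : Set L)).relIndex X =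
        Nat.card X := fun X => by
      rw [← inf_relIndex_left, inf_comm, ← relIndex_bot_left, ← relIndex_bot_left,
        relIndex_mul_relIndex _ _ _ bot_le inf_le_right]
    have hidx : 2 ^ (2 * ∑ i : Fin n, e i.succ) ≤ (centralizer (A' : Set L)).relIndex R := by
      refine le_trans ?_ (relIndex_le_of_le_right (H := centralizer (A' : Set L)) hsub index_ne_zero_of_finite)
      have hm := hmul1 (R'.map c)
      rw [hcardC, card_map_of_injective hcinj] at hm
      refine Nat.le_of_mul_le_mul_left ?_ (Nat.card_pos (α := ↥(R' ⊓ centralizer (A' : Set L))))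
      rw [hm, mul_comm]
      exact hrec'
    obtain ⟨I, hIV, hIa, hIcard, hIM⟩ := gain hM hGM hf hA'G hA'2 (haG 0) (hyG 0) (ha2 0)
      (centralizer_le (SetLike.coe_subset_coe.2 hA'A) (hAc haA)) hy0A' (hp 0)
    have hIR : I ≤ R := by
      intro d hd
      obtain ⟨m, hm, rfl⟩ := hIM d hd
      have hconj : y 0 * a 0 * (y 0)⁻¹ = (MulAut.conj (y 0 * w')).toMonoidHom (a 0) := by
        show _ = y 0 * w' * a 0 * (y 0 * w')⁻¹
        rw [mul_assoc (y 0) w', ← hw'0]
        group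
      rw [hconj, hR]
      exact commutator_mem_commutator hm (mem_map_of_mem _ haA)
    have hRM : R ≤ M := by
      rw [hR, commutator_le]
      intro m hm x hx
      obtain ⟨b, hb, rfl⟩ := hx
      have hbG : (MulAut.conj (y 0 * w')).toMonoidHom b ∈ G := by
        have hwG : y 0 * w' ∈ G := mul_mem (hyG 0) ((closure_le G).2 (by rintro _ ⟨i, rfl⟩; exact hyG _) hw')
        have hbG' : b ∈ G := (closure_le G).2 (by rintro _ ⟨i, rfl⟩; exact haG i) (hA ▸ hb)
        exact mul_mem (mul_mem hwG hbG') (inv_mem hwG)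
      have h := mul_mem hm ((mem_normalizer_iff.1 (hGM hbG) _).1 (inv_mem hm))
      rwa [← mul_assoc, ← mul_assoc, ← commutatorElement_def] at h
    have hgain : 2 ^ (2 * e 0) * Nat.card ↥(R ⊓ centralizer (A : Set L)) ≤
        Nat.card ↥(R ⊓ centralizer (A' : Set L)) := by
      refine (Nat.mul_le_mul_right _ hIcard).trans ?_
      rw [← Nat.card_prod]
      refine Nat.card_le_card_of_injective (fun z : ↥I × ↥(R ⊓ centralizer (A : Set L)) =>
        (⟨(z.1 : L) * z.2, mul_mem (mem_inf.2 ⟨hIR z.1.2, (hIV z.1.2).2⟩)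
          (mem_inf.2 ⟨z.2.2.1, centralizer_le (SetLike.coe_subset_coe.2 hA'A) z.2.2.2⟩)⟩ :
          ↥(R ⊓ centralizer (A' : Set L)))) ?_
      rintro ⟨u, v⟩ ⟨u', v'⟩ h
      have h' : (u : L) * v = u' * v' := congrArg Subtype.val h
      have h4 : (u' : L)⁻¹ * u = v' * (v : L)⁻¹ := by
        rw [inv_mul_eq_iff_eq_mul, ← mul_assoc, eq_mul_inv_iff_mul_eq, h']
      have h5 : (u' : L)⁻¹ * u ∈ I ⊓ centralizer ({a 0} : Set L) :=
        mem_inf.2 ⟨mul_mem (inv_mem u'.2) u.2, h4 ▸ centralizer_le (Set.singleton_subset_iff.2 haA)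
          (mul_mem v'.2.2 (inv_mem v.2.2))⟩
      rw [hIa, mem_bot] at h5
      rw [h5] at h4
      exact Prod.ext (Subtype.ext (inv_mul_eq_one.1 h5).symm) (Subtype.ext (mul_inv_eq_one.1 h4.symm).symm)
    rw [Fin.sum_univ_succ, mul_add, pow_add, ← hmul1 R]
    calc 2 ^ (2 * e 0) * 2 ^ (2 * ∑ i : Fin n, e i.succ) * Nat.card ↥(R ⊓ centralizer (A : Set L))
        = 2 ^ (2 * e 0) * Nat.card ↥(R ⊓ centralizer (A : Set L)) * 2 ^ (2 * ∑ i : Fin n, e i.succ) := by ring
      _ ≤ _ := Nat.mul_le_mul hgain hidx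

/-- detection inside a group acting on an elementary abelian normal subgroup -/
theorem detect_quot {G : Type u} [Group G] [Finite G] (U : Subgroup G) [U.Normal]
    (hU : Cfsg.IsElementaryAbelian 2 U) {A₀ : Subgroup G}
    (hA : Cfsg.IsElementaryAbelian 2 (A₀.map (PLocal.toHol U).rangeRestrict))
    (hfam : Fam (A₀.map (PLocal.toHol U).rangeRestrict)) :
    ∃ (s : ℕ) (g : G), Nat.card A₀ ≤ s * Nat.card ↥(A₀ ⊓ centralizer (U : Set G)) ∧
      ∀ R : Subgroup G, R ≤ U → ⁅U, A₀.map (MulAut.conj g).toMonoidHom⁆ ≤ R →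
        s ^ 2 * Nat.card ↥(R ⊓ centralizer (A₀ : Set G)) ≤ Nat.card R := by
  obtain ⟨n, a, y, r, e, haA, hle, hp, hcom⟩ := hfam
  let π := PLocal.toHol U
  have hga : ∀ i, ∃ x ∈ A₀, π.rangeRestrict x = a i := fun i => haA i
  choose x hx hxa using hga
  obtain ⟨w, hw, hdet⟩ := detect (PLocal.elementary_modV U hU) (PLocal.range_le_normalizer U)
    (PLocal.range_faithful U) n (fun i => (a i : PLocal.Hol U)) (fun i => (y i : PLocal.Hol U)) r e
    (fun i => (a i).2) (fun i => (y i).2) (fun i => by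
      rw [← pow_two, ← SubmonoidClass.coe_pow, hA.2 _ (haA i), coe_one])
    (fun i j => congrArg Subtype.val (congrArg Subtype.val (hA.1.is_comm.comm ⟨a i, haA i⟩ ⟨a j, haA j⟩)))
    (fun i => by
      obtain ⟨he, hr, hr2, hord, hinv, hppd⟩ := hp i
      exact ⟨he, hr, hr2, by rw [Subgroup.orderOf_coe, hord], by
        have := congrArg Subtype.val hinv
        simpa using this, hppd⟩)
    (fun i j hij => congrArg Subtype.val (hcom i j hij))
  obtain ⟨g, rfl⟩ : w ∈ π.range := (closure_le π.range).2 (by rintro _ ⟨i, rfl⟩; exact (y i).2) hw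
  refine ⟨2 ^ ∑ i, e i, g, ?_, fun R hRU hR => ?_⟩
  · rw [← PLocal.card_map_toHol U A₀]
    refine Nat.mul_le_mul_right _ (le_trans (le_of_eq ?_) hle)
    rw [← card_map_of_injective (K := A₀.map π.rangeRestrict) π.range.subtype_injective, Subgroup.map_map,
      MonoidHom.subtype_comp_rangeRestrict]
  · obtain ⟨R₁, hR₁⟩ : ∃ R₁, R₁ = ⁅PLocal.modV U,
        (Subgroup.closure (G := PLocal.Hol U) (Set.range fun i => ((a i : π.range) : PLocal.Hol U))).map
          (MulAut.conj (π g)).toMonoidHom⁆ := ⟨_, rfl⟩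
    have h := hdet R₁ hR₁
    obtain ⟨R₂, hR₂⟩ : ∃ R₂ : Subgroup (PLocal.Hol U), R₂ = (R.subgroupOf U).map SemidirectProduct.inl := ⟨_, rfl⟩
    have hR12 : R₁ ≤ R₂ := by
      refine le_trans ?_ (hR₂ ▸ le_trans (commutator_modV_le U _) (map_mono (comap_mono hR)))
      rw [hR₁]
      refine commutator_mono le_rfl ?_
      rw [map_le_iff_le_comap, closure_le]
      rintro _ ⟨i, rfl⟩
      refine ⟨g * x i * g⁻¹, mem_map_of_mem _ (hx i), ?_⟩
      show π (g * x i * g⁻¹) = π g * (a i : PLocal.Hol U) * (π g)⁻¹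
      rw [map_mul, map_mul, map_inv, ← hxa i]
      rfl
    obtain ⟨C, hC⟩ : ∃ C, C = centralizer (Set.range fun i => (a i : PLocal.Hol U)) := ⟨_, rfl⟩
    rw [← hC, pow_mul'] at h
    have hmul : ∀ X : Subgroup (PLocal.Hol U), Nat.card ↥(X ⊓ C) * C.relIndex X = Nat.card X := fun X => by
      rw [← inf_relIndex_left, inf_comm, ← relIndex_bot_left, ← relIndex_bot_left,
        relIndex_mul_relIndex _ _ _ bot_le inf_le_right]
    have hidx : (2 ^ ∑ i, e i) ^ 2 ≤ C.relIndex R₂ := by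
      refine le_trans ?_ (relIndex_le_of_le_right (H := C) hR12 index_ne_zero_of_finite)
      refine Nat.le_of_mul_le_mul_left ?_ (Nat.card_pos (α := ↥(R₁ ⊓ C)))
      rw [hmul, mul_comm]
      exact h
    have hc : Nat.card ↥(R ⊓ centralizer (A₀ : Set G)) ≤ Nat.card ↥(R₂ ⊓ C) := by
      refine le_trans (le_of_eq ?_) (card_le_of_le (H := ((R ⊓ centralizer (A₀ : Set G)).subgroupOf U).map
        SemidirectProduct.inl) ?_)
      · rw [card_map_of_injective SemidirectProduct.inl_injective]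
        exact (Nat.card_congr (subgroupOfEquivOfLe (inf_le_left.trans hRU)).toEquiv).symm
      · rintro _ ⟨v, hv, rfl⟩
        refine ⟨hR₂ ▸ mem_map_of_mem _ hv.1, ?_⟩
        rw [hC]
        refine mem_centralizer_iff.2 ?_
        rintro _ ⟨i, rfl⟩
        have h1 := (PLocal.inl_mem_centralizer_map U A₀ v).2 hv.2
        exact mem_centralizer_iff.1 h1 _ ⟨x i, hx i, congrArg Subtype.val (hxa i)⟩
    calc (2 ^ ∑ i, e i) ^ 2 * Nat.card ↥(R ⊓ centralizer (A₀ : Set G))
        ≤ C.relIndex R₂ * Nat.card ↥(R₂ ⊓ C) := Nat.mul_le_mul hidx hc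
      _ = Nat.card R := by
        rw [mul_comm, hmul, hR₂, card_map_of_injective SemidirectProduct.inl_injective]
        exact Nat.card_congr (subgroupOfEquivOfLe hRU).toEquiv

end CfsgLib.LocalEven.Factor
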