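import Cfsg.Agent.Lib.LocalEven.OffenderComponents
import Cfsg.Agent.Lib.LocalEven.Factor.Detect

/-!
# Generating families with inverted elements

* `Avoid A h`: a hyperplane of `A` avoiding `h` centralizing an element inverted by `h`
* `fam_of_avoid`, `fam_of_even`
-/

set_option autoImplicit false
set_option linter.all false

namespace CfsgLib.LocalEven.Factor

open Subgroup CfsgLib.Components CfsgLib.LocalEven.SFreeOffender

universe u

variable {G : Type u} [Group G] [Finite G]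

/-- a hyperplane of `A` avoiding `h` which centralizes an element of odd prime order inverted by `h` -/
def Avoid (A : Subgroup G) (h : G) : Prop :=
  ∃ (B : Subgroup G) (y : G) (r : ℕ), B ≤ A ∧ h ∉ B ∧ (∀ x ∈ A, x ∈ B ∨ h * x ∈ B) ∧ y ∈ centralizer (B : Set G) ∧
    r.Prime ∧ r ≠ 2 ∧ orderOf y = r ∧ h * y * h⁻¹ = y⁻¹

theorem eq_top_of_odd_sylow (S : Sylow 2 G) {M : Subgroup G} (hS : ↑S ≤ M)
    (h : ∀ g : G, Odd (orderOf g) → g ∈ M) : M = ⊤ := by
  refine eq_top_of_le_card M (Nat.le_of_dvd Nat.card_pos ((Nat.dvd_iff_prime_pow_dvd_dvd _ _).2 fun p k hp hpk => ?_))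
  haveI : Fact p.Prime := ⟨hp⟩
  rcases eq_or_ne p 2 with rfl | hp2
  · refine dvd_trans ?_ (card_dvd_of_le hS)
    rw [S.card_eq_multiplicity]
    exact pow_dvd_pow 2 ((hp.pow_dvd_iff_le_factorization Nat.card_pos.ne').1 hpk)
  · obtain ⟨P, hP⟩ := Sylow.exists_subgroup_card_pow_prime p hpk
    rw [← hP]
    refine card_dvd_of_le fun g hg => h g ?_
    obtain ⟨j, -, hj⟩ := (Nat.dvd_prime_pow hp).1 (hP ▸ P.orderOf_dvd_natCard hg)
    rw [hj]
    exact (hp.odd_of_ne_two hp2).pow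

theorem hyper_or {A B : Subgroup G} (hBA : B ≤ A) (hidx : Nat.card A ≤ 2 * Nat.card B) {h : G} (hh : h ∈ A)
    (hhB : h ∉ B) : ∀ x ∈ A, x ∈ B ∨ h * x ∈ B := by
  intro x hx
  have h1 : (B.subgroupOf A).index = 2 := by
    have h2 := card_mul_index (B.subgroupOf A)
    rw [Nat.card_congr (subgroupOfEquivOfLe hBA).toEquiv] at h2
    have h3 : (B.subgroupOf A).index ≠ 1 := fun h1 => hhB (by
      rw [index_eq_one, subgroupOf_eq_top] at h1; exact h1 hh)
    have h4 : 0 < Nat.card B := Nat.card_pos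
    have h5 : (B.subgroupOf A).index ≠ 0 := index_ne_zero_of_finite
    have h6 : (B.subgroupOf A).index ≤ 2 := Nat.le_of_mul_le_mul_left (by rw [h2]; linarith) h4
    omega
  by_cases hxB : x ∈ B
  · exact Or.inl hxB
  · have := (mul_mem_iff_of_index_two h1 (a := ⟨h, hh⟩) (b := ⟨x, hx⟩)).2 (by
      simp [mem_subgroupOf, hhB, hxB])
    exact Or.inr (by simpa [mem_subgroupOf] using this)

theorem avoid_of_commutator {A B : Subgroup G} (hA : Cfsg.IsElementaryAbelian 2 A) (hBA : B ≤ A)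
    (hidx : Nat.card A ≤ 2 * Nat.card B) {a h x : G} (ha : a ∈ A) (hh : h ∈ A) (hha : h * a ∈ B)
    (hx : x ∈ centralizer (B : Set G)) {r : ℕ} (hr : r.Prime) (hr2 : r ≠ 2)
    (hd : r ∣ orderOf (x⁻¹ * (a * x * a⁻¹))) : Avoid A h := by
  obtain ⟨y, hy, hyB, hyi⟩ := exists_inverted_of_dvd hA hBA ha hx hr hd
  have haB : a ∉ B := fun h1 => by
    rw [mem_centralizer_iff.1 hx a h1, mul_inv_cancel_right, inv_mul_cancel, orderOf_one] at hd
    exact hr.one_lt.not_ge (Nat.le_of_dvd one_pos hd)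
  have hhB : h ∉ B := fun h1 => haB (by
    have := mul_mem (inv_mem h1) hha; rwa [inv_mul_cancel_left] at this)
  refine ⟨B, y, r, hBA, hhB, hyper_or hBA hidx hh hhB, hyB, hr, hr2, hy, ?_⟩
  have hhe : h = (h * a) * a := by rw [mul_assoc, ← pow_two, hA.2 a ha, mul_one]
  rw [hhe, show h * a * a * y * (h * a * a)⁻¹ = (h * a) * (a * y * a⁻¹) * (h * a)⁻¹ by group, hyi,
    mem_centralizer_iff.1 (inv_mem hyB) _ hha, mul_inv_cancel_right]

/-- a family from hyperplanes avoiding each element -/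
theorem fam_of_avoid (hfree : ¬ Cfsg.Involves (Equiv.Perm (Fin 3)) G) {A : Subgroup G}
    (hA : Cfsg.IsElementaryAbelian 2 A) (hav : ∀ h ∈ A, h ≠ 1 → Avoid A h) : Fam A := by
  suffices key : ∀ (m : ℕ) (C : Subgroup G), C ≤ A → Nat.card C ≤ m →
      ∃ (n : ℕ) (a y : Fin n → G) (r : Fin n → ℕ) (B : Fin n → Subgroup G), (∀ i, a i ∈ C) ∧
        Nat.card C ≤ 2 ^ n ∧ (∀ i, a i ∉ B i ∧ (∀ x ∈ A, x ∈ B i ∨ a i * x ∈ B i) ∧
          y i ∈ centralizer (B i : Set G) ∧ (r i).Prime ∧ r i ≠ 2 ∧ orderOf (y i) = r i ∧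
          a i * y i * (a i)⁻¹ = (y i)⁻¹) ∧ ∀ i j, j ≠ i → a j ∈ B i by
    obtain ⟨n, a, y, r, B, haA, hle, hp, hcom⟩ := key _ A le_rfl le_rfl
    refine ⟨n, a, y, r, fun _ => 1, haA, by simpa using hle, fun i => ?_, fun i j hij =>
      mem_centralizer_iff.1 (hp i).2.2.1 _ (hcom i j hij)⟩
    obtain ⟨-, -, -, hr, hr2, hord, hinv⟩ := hp i
    refine ⟨one_pos, hr, hr2, hord, hinv, fun k hk hk4 hdvd => ?_⟩
    rcases (by simp only at hk4; omega : k = 1 ∨ k = 2) with rfl | rfl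
    · exact hr.one_lt.not_ge (Nat.le_of_dvd one_pos hdvd)
    · have h3 : r i = 3 := (Nat.prime_dvd_prime_iff_eq hr Nat.prime_three).1 hdvd
      refine hfree (involves_three_of_inverted (by rw [← pow_two]; exact hA.2 _ (haA i)) hinv ?_ ?_)
      · rw [← h3, ← hord, pow_orderOf_eq_one]
      · intro h; rw [h, orderOf_one] at hord; exact hr.one_lt.ne hord
  intro m
  induction m with
  | zero =>
    intro C _ h
    exact absurd h (not_le.2 Nat.card_pos)
  | succ m ih =>
    intro C hCA hm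
    rcases eq_or_ne C ⊥ with rfl | hC1
    · exact ⟨0, Fin.elim0, Fin.elim0, Fin.elim0, Fin.elim0, fun i => i.elim0, by simp, fun i => i.elim0,
        fun i => i.elim0⟩
    obtain ⟨⟨h, hh⟩, hh1⟩ := (ne_bot_iff_exists_ne_one).1 hC1
    obtain ⟨B, y₀, r₀, hBA, hhB, hor, hyB, hr, hr2, hord, hinv⟩ := hav h (hCA hh) (fun h1 => hh1 (Subtype.ext h1))
    have hlt : Nat.card ↥(C ⊓ B) < Nat.card C := (card_le_of_le inf_le_left).lt_of_ne fun he =>
      hhB (((eq_of_le_of_card_ge inf_le_left he.ge).symm ▸ hh : h ∈ C ⊓ B).2)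
    obtain ⟨n, a, y, r, Bs, haC, hle, hp, hcom⟩ := ih (C ⊓ B) (inf_le_left.trans hCA) (by omega)
    -- an element of `C ∖ B` in all the other hyperplanes
    have hfix : ∀ k ≤ n, ∃ c ∈ C, c ∉ B ∧ ∀ i : Fin n, (i : ℕ) < k → c ∈ Bs i := by
      intro k
      induction k with
      | zero => exact fun _ => ⟨h, hh, hhB, fun i hi => absurd hi (Nat.not_lt_zero _)⟩
      | succ k ihk =>
        intro hk
        obtain ⟨c, hcC, hcB, hc⟩ := ihk (by omega)
        rcases (hp ⟨k, hk⟩).2.1 c (hCA hcC) with h' | h'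
        · refine ⟨c, hcC, hcB, fun i hi => ?_⟩
          rcases Nat.lt_succ_iff_lt_or_eq.1 hi with hi | hi
          · exact hc i hi
          · rwa [show i = ⟨k, hk⟩ from Fin.ext hi]
        · refine ⟨_, mul_mem (haC ⟨k, hk⟩).1 hcC, fun hB' => hcB ?_, fun i hi => ?_⟩
          · have := mul_mem (B.inv_mem (haC ⟨k, hk⟩).2) hB'
            rwa [inv_mul_cancel_left] at this
          · rcases Nat.lt_succ_iff_lt_or_eq.1 hi with hi | hi
            · exact mul_mem (hcom i ⟨k, hk⟩ (fun he => by rw [← he] at hi; simp at hi)) (hc i hi)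
            · rwa [show i = ⟨k, hk⟩ from Fin.ext hi]
    obtain ⟨c, hcC, hcB, hc⟩ := hfix n le_rfl
    have hhh : h * h = 1 := by rw [← pow_two]; exact hA.2 h (hCA hh)
    have hhc : h * c ∈ B := (hor c (hCA hcC)).resolve_left hcB
    have hcx : ∀ x ∈ A, x ∈ B ∨ c * x ∈ B := fun x hx => (hor x hx).imp id fun hx' => by
      have h1 := mul_mem hhc hx'
      rwa [comm_of_elementary hA (hCA hh) (hCA hcC), ← mul_assoc, mul_assoc c h h, hhh, mul_one] at h1
    have hcy : c * y₀ * c⁻¹ = y₀⁻¹ := by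
      rw [show c = h * (h * c) by rw [← mul_assoc, hhh, one_mul],
        show h * (h * c) * y₀ * (h * (h * c))⁻¹ = h * ((h * c) * y₀ * (h * c)⁻¹) * h⁻¹ by group,
        mem_centralizer_iff.1 hyB _ hhc, mul_inv_cancel_right, hinv]
    refine ⟨n + 1, Fin.cons c a, Fin.cons y₀ y, Fin.cons r₀ r, Fin.cons B Bs, ?_, ?_, ?_, ?_⟩
    · exact Fin.cases hcC fun i => (haC i).1
    · calc Nat.card C ≤ Nat.card (Bool × ↥(C ⊓ B)) := by
            refine Nat.card_le_card_of_surjective (fun z : Bool × ↥(C ⊓ B) => (⟨(if z.1 then h else 1) * (z.2 : G),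
              mul_mem (by cases z.1 <;> simp [hh, one_mem]) z.2.2.1⟩ : ↥C)) fun x => ?_
            rcases hor x (hCA x.2) with h' | h'
            · exact ⟨(false, ⟨x, x.2, h'⟩), Subtype.ext (one_mul _)⟩
            · exact ⟨(true, ⟨h * x, mul_mem hh x.2, h'⟩), Subtype.ext (by
                show h * (h * (x : G)) = x
                rw [← mul_assoc, hhh, one_mul])⟩
        _ = 2 * Nat.card ↥(C ⊓ B) := by rw [Nat.card_prod, Nat.card_eq_fintype_card, Fintype.card_bool]
        _ ≤ 2 ^ (n + 1) := by rw [pow_succ']; exact Nat.mul_le_mul_left _ hle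
    · exact Fin.cases ⟨hcB, hcx, hyB, hr, hr2, hord, hcy⟩ hp
    · refine Fin.cases (Fin.cases (fun h' => absurd rfl h') fun j _ => (haC j).2) fun i => ?_
      exact Fin.cases (fun _ => hc i i.2) fun j h' => hcom i j fun he => h' (by rw [he])

/-- the step at a given involution in the automorphism group of a simple group of the list -/
theorem simple_step_at {S : Type u} [Group S] [Finite S] [IsSimpleGroup S] (hna : ¬ IsMulCommutative S)
    (hS : Cfsg.IsSuzukiOrPSL2OddPowerThree S) (A : Subgroup (MulAut S)) (hA : Cfsg.IsElementaryAbelian 2 A)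
    {a : MulAut S} (ha : a ∈ A) (ha1 : a ≠ 1) :
    (∃ h ∈ A, ∃ (x : S) (r : ℕ), h x = x ∧ Nat.card A ≤ 2 * orderOf h ∧ r.Prime ∧ r ≠ 2 ∧
        r ∣ orderOf (x⁻¹ * a x)) ∨
      (∃ s : S, s ^ 4 = 1 ∧ s ^ 2 ≠ 1) ∧ ∃ a' ∈ A, ∃ (x : S) (r e : ℕ), 0 < e ∧ Nat.card A ≤ 2 ^ e ∧ r.Prime ∧
        r ≠ 2 ∧ r ∣ orderOf (x⁻¹ * a' x) ∧ ∀ i, 0 < i → i + 1 < 4 * e → ¬ r ∣ 2 ^ i - 1 := by
  haveI : Finite (MulAut S) := Finite.of_injective (fun e : MulAut S => (e : S → S)) DFunLike.coe_injective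
  have transport : ∀ {T : Type} [Group T] (e : S ≃* T),
      Cfsg.IsElementaryAbelian 2 (A.map (MulAut.congr e).toMonoidHom) ∧ MulAut.congr e a ≠ 1 ∧
        Nat.card ↥(A.map (MulAut.congr e).toMonoidHom) = Nat.card A := by
    intro T _ e
    refine ⟨PLocal.elementary_map _ hA, ?_, card_map_of_injective (MulAut.congr e).injective⟩
    exact fun h => ha1 ((MulEquiv.map_eq_one_iff _).1 h)
  have back : ∀ {T : Type} [Group T] (e : S ≃* T) (b : MulAut S) (x : T),
      orderOf (x⁻¹ * MulAut.congr e b x) = orderOf ((e.symm x)⁻¹ * b (e.symm x)) := by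
    intro T _ e b x
    rw [← e.orderOf_eq ((e.symm x)⁻¹ * b (e.symm x)), map_mul, map_inv, ← congr_apply', e.apply_symm_apply]
  rcases hS with ⟨F, iF, iF', m, hm, hF, ⟨e⟩⟩ | ⟨F, iF, iF', n, hF, ⟨e⟩⟩
  · refine Or.inr ?_
    haveI := CfsgLib.Lie.Suzuki.charTwo_of_card hF
    let e' := e.trans (CfsgLib.Lie.Suzuki.equivLie hm hF).symm
    obtain ⟨hA', ha1', hcard⟩ := transport e'
    refine ⟨?_, ?_⟩
    · refine ⟨e'.symm (CfsgLib.Lie.Suzuki.uS hF 1 0), ?_, ?_⟩
      · rw [← map_pow, MulEquiv.map_eq_one_iff, pow_mul _ 2 2, CfsgLib.Lie.Suzuki.uS_sq, CfsgLib.Lie.Suzuki.uS_sq,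
          CfsgLib.Lie.Suzuki.uS_eq_one_iff]
        simp
      · rw [← map_pow, Ne, MulEquiv.map_eq_one_iff, CfsgLib.Lie.Suzuki.uS_sq, CfsgLib.Lie.Suzuki.uS_eq_one_iff]
        simp
    · obtain ⟨_, ⟨b, hb, rfl⟩, x, r, hr, hr2, hle, hd, hppd⟩ := SuzukiInvolutionAut.exists_step hF hm hA'
        (ne_bot_iff_exists_ne_one.2 ⟨⟨_, mem_map_of_mem _ ha⟩, fun h => ha1' (congrArg Subtype.val h)⟩)
      exact ⟨b, hb, e'.symm x, r, 2 * m + 1, by omega, hcard ▸ hle, hr, hr2, back e' b x ▸ hd,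
        fun i hi hi4 => hppd i hi (by omega)⟩
  · refine Or.inl ?_
    have hn : 1 ≤ n := by
      by_contra hn
      obtain rfl : n = 0 := by omega
      obtain ⟨f⟩ := Cfsg.Agent.S0251.result (F := F) (by rw [hF]; rfl)
      let g := e.trans f
      haveI : IsSimpleGroup (alternatingGroup (Fin 4)) := IsSimpleGroup.isSimpleGroup_of_surjective g.toMonoidHom g.surjective
      have h4 : Nat.card (Fin 4) = 4 := by simp
      have hc := alternatingGroup.kleinFour_card_of_card_eq_four (α := Fin 4) h4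
      have h12 : Nat.card (alternatingGroup (Fin 4)) = 12 := by
        rw [nat_card_alternatingGroup, h4]; rfl
      rcases (alternatingGroup.normal_kleinFour (α := Fin 4) h4).eq_bot_or_eq_top with h | h <;> rw [h] at hc
      · simp at hc
      · rw [card_top, h12] at hc; omega
    obtain ⟨hA', ha1', hcard⟩ := transport e
    obtain ⟨_, ⟨h, hh, rfl⟩, x, r, hx, hle, hr, hr2, hd⟩ :=
      PSLFourAut.exists_step_at hF hn hA' (mem_map_of_mem _ ha) ha1'
    refine ⟨h, hh, e.symm x, r, ?_, ?_, hr, hr2, back e a x ▸ hd⟩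
    · refine e.injective ?_
      rw [← congr_apply', e.apply_symm_apply]
      exact hx
    · rw [← hcard]
      refine hle.trans (le_of_eq ?_)
      rw [MulEquiv.toMonoidHom_eq_coe, MonoidHom.coe_coe, MulEquiv.orderOf_eq]


/-- a fixed element of the central quotient lifts -/
theorem exists_fixed_lift (ha : Cfsg.pCore 2 G = ⊥) {L : Subgroup G} (hL : Cfsg.IsComponent L) {ψ : MulAut ↥L}
    (hψ2 : ∀ z, ψ (ψ z) = z) {x₀ : ↥L} (hfix : barAut ↥L ψ (x₀ : ↥L ⧸ center ↥L) = x₀) :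
    ∃ x : ↥L, (x : ↥L ⧸ center ↥L) = x₀ ∧ ψ x = x := by
  haveI : Fintype G := Fintype.ofFinite G
  obtain ⟨z, hz⟩ : ∃ z, z = x₀⁻¹ * ψ x₀ := ⟨_, rfl⟩
  have hzc : z ∈ center ↥L := hz ▸ QuotientGroup.eq.1 (by rw [← barAut_mk]; exact hfix.symm)
  have hψz : ψ z = z⁻¹ := by rw [hz, map_mul, map_inv, hψ2, mul_inv_rev, inv_inv]
  have hzo : Odd (orderOf z) := by
    rw [← Nat.not_even_iff_odd, even_iff_two_dvd]
    intro h
    refine CfsgLib.CharDegree.not_dvd_card_fittingSubgroup (G := G) Nat.prime_two ha ?_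
    have hle' : (center ↥L).map L.subtype ≤ Cfsg.fittingSubgroup G := by
      refine subnormal_nilpotent_le_fitting ?_ ((Group.isNilpotent_congr
        ((center ↥L).equivMapOfInjective L.subtype L.subtype_injective)).1 (by
          letI : CommGroup ↥(center ↥L) := { (inferInstance : Group ↥(center ↥L)) with mul_comm := fun u v => mul_comm' u v }
          exact CommGroup.isNilpotent))
      exact (isSubnormal_map_subtype_iff hL.1).2 (Subgroup.Normal.isSubnormal inferInstance)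
    have h' : 2 ∣ orderOf (⟨(z : G), hle' (mem_map_of_mem L.subtype hzc)⟩ : ↥(Cfsg.fittingSubgroup G)) := by
      rw [Subgroup.orderOf_mk, Subgroup.orderOf_coe]; exact h
    exact h'.trans (orderOf_dvd_natCard _)
  obtain ⟨k, hk⟩ := hzo
  refine ⟨x₀ * z ^ (k + 1), ?_, ?_⟩
  · rw [QuotientGroup.mk_mul, (QuotientGroup.eq_one_iff _).2 (pow_mem hzc _), mul_one]
  · have hx0 : ψ x₀ = x₀ * z := by rw [hz, mul_inv_cancel_left]
    rw [map_mul, map_pow, hψz, hx0, mul_assoc]
    congr 1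
    have h1 : z ^ (k + 1) * z ^ (k + 1) = z := by
      rw [← pow_add, show k + 1 + (k + 1) = (2 * k + 1) + 1 by ring, pow_succ, ← hk, pow_orderOf_eq_one, one_mul]
    rw [inv_pow, mul_inv_eq_iff_eq_mul]
    exact h1.symm

set_option maxHeartbeats 1000000 in
/-- for each involution: a hyperplane, or the whole group is one step -/
theorem avoid_or_fam (ha : Cfsg.pCore 2 G = ⊥) (hb : ¬ Cfsg.Involves (Equiv.Perm (Fin 3)) G) (hc : Good G)
    {A : Subgroup G} (hA : Cfsg.IsElementaryAbelian 2 A) (S : Sylow 2 G) (hAS : ↑S ≤ normalizer (A : Set G))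
    {J : Subgroup G} (hJS : J ≤ S) (hSJ : ↑S ≤ normalizer (J : Set G)) (hJA : J ≤ centralizer (A : Set G))
    (hJ : normalClosure (J : Set G) = ⊤)
    (heven : ∀ K : Subgroup G, K.Normal → 2 ∣ Nat.card K → ∀ g : G, Odd (orderOf g) → g ∈ K)
    {h : G} (hh : h ∈ A) (hh1 : h ≠ 1) : Avoid A h ∨ Fam A := by
  classical
  haveI : Fact (Nat.Prime 2) := ⟨Nat.prime_two⟩
  haveI : Fintype G := Fintype.ofFinite G
  by_cases hF : Cfsg.fittingSubgroup G ≤ centralizer ({h} : Set G)
  swap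
  · refine Or.inl ?_
    by_contra hno
    refine hF ?_
    have hodd := CfsgLib.CharDegree.not_dvd_card_fittingSubgroup (G := G) Nat.prime_two ha
    haveI := fitting_normal (G := G)
    refine CfsgLib.Signalizer.le_of_hyperplanes_le (p := 2) hA hodd le_normalizer_of_normal fun B hBA hB x hx => ?_
    rw [mem_centralizer_singleton_iff]
    by_contra hne
    refine hno ?_
    obtain ⟨w, hw⟩ : ∃ w, w = x⁻¹ * (h * x * h⁻¹) := ⟨_, rfl⟩
    have hwF : w ∈ Cfsg.fittingSubgroup G := by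
      rw [hw]; exact mul_mem (inv_mem hx.1) ((fitting_normal (G := G)).conj_mem x hx.1 h)
    have hw1 : orderOf w ≠ 1 := fun h => hne (by
      rw [orderOf_eq_one_iff, hw, inv_mul_eq_one, eq_mul_inv_iff_mul_eq] at h
      exact h)
    obtain ⟨r, hr, hrd⟩ := Nat.exists_prime_and_dvd hw1
    have hr2 : r ≠ 2 := by
      rintro rfl
      exact hodd (hrd.trans (by rw [← Subgroup.orderOf_mk w hwF]; exact orderOf_dvd_natCard _))
    refine avoid_of_commutator hA hBA ?_ hh hh (by rw [← pow_two, hA.2 h hh]; exact one_mem B) hx.2 hr hr2 (hw ▸ hrd)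
    rw [← relIndex_bot_left A, ← relIndex_mul_relIndex ⊥ B A bot_le hBA, relIndex_bot_left, mul_comm]
    exact Nat.mul_le_mul_right _ hB
  -- a component moved by `h`
  obtain ⟨L, hL, hAL⟩ : ∃ L : Subgroup G, Cfsg.IsComponent L ∧ ¬ L ≤ centralizer ({h} : Set G) := by
    by_contra hall
    push Not at hall
    have h1 : Cfsg.generalizedFittingSubgroup G ≤ centralizer ({h} : Set G) := sup_le (sSup_le hall) hF
    have hh' : h ∈ centralizer (Cfsg.generalizedFittingSubgroup G : Set G) :=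
      mem_centralizer_iff.2 fun x hx => mem_centralizer_singleton_iff.1 (h1 hx)
    obtain ⟨Z, hZ⟩ : ∃ Z, Z = Cfsg.generalizedFittingSubgroup G ⊓ centralizer (Cfsg.generalizedFittingSubgroup G : Set G) :=
      ⟨_, rfl⟩
    haveI := gFitting_normal (G := G)
    have hZn : Z.Normal := hZ ▸ inferInstance
    haveI : IsMulCommutative ↥Z := ⟨⟨fun u v => by
      have hu := (SetLike.ext_iff.1 hZ (u : G)).1 u.2
      have hv := (SetLike.ext_iff.1 hZ (v : G)).1 v.2
      exact Subtype.ext (mem_centralizer_iff.1 hv.2 _ hu.1)⟩⟩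
    have hZF : Z ≤ Cfsg.fittingSubgroup G := le_fitting hZn
      (by letI : CommGroup ↥Z := { (inferInstance : Group ↥Z) with mul_comm := fun u v => mul_comm' u v }
          exact CommGroup.isNilpotent)
    have hhF : h ∈ Cfsg.fittingSubgroup G := hZF (hZ ▸ mem_inf.2 ⟨centralizer_gFitting_le hh', hh'⟩)
    have ho : orderOf h = 2 := orderOf_eq_prime (hA.2 h hh) hh1
    exact CfsgLib.CharDegree.not_dvd_card_fittingSubgroup (G := G) Nat.prime_two ha (by
      rw [← ho, ← Subgroup.orderOf_mk h hhF]; exact orderOf_dvd_natCard _)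
  haveI : IsSimpleGroup (↥L ⧸ center ↥L) := hL.2.2
  haveI : Group.IsPerfect ↥L := hL.2.1
  have hna : ¬ IsMulCommutative (↥L ⧸ center ↥L) := by
    intro h
    refine IsQuasisimple.center_ne_top hL.2 (top_le_iff.1 ?_)
    rw [← Group.IsPerfect.commutator_eq_top (G := ↥L), _root_.commutator_def, Subgroup.commutator_le]
    intro u _ v _
    rw [← QuotientGroup.eq_one_iff, commutatorElement_def]
    rw [QuotientGroup.mk_mul, QuotientGroup.mk_mul, QuotientGroup.mk_mul, QuotientGroup.mk_inv, QuotientGroup.mk_inv,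
      h.is_comm.comm (u : ↥L ⧸ center ↥L) v, mul_inv_cancel_right, mul_inv_cancel]
  have hS := hc L hL.1 (center ↥L) inferInstance hna
  obtain ⟨AL, hALdef⟩ : ∃ AL, AL = A ⊓ normalizer (L : Set G) := ⟨_, rfl⟩
  have hALA : AL ≤ A := hALdef ▸ inf_le_left
  have hALN : AL ≤ normalizer (L : Set G) := hALdef ▸ inf_le_right
  let θ : ↥AL →* MulAut (↥L ⧸ center ↥L) :=
    (barAut ↥L).comp ((normalizerMonoidHom L).comp (inclusion hALN))
  have hcen : ∀ b : ↥AL, θ b = 1 → ∀ x : G, x ∈ L → (b : G) * x * (b : G)⁻¹ = x := fun b hb x hx => by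
    have := congrArg Subtype.val (DFunLike.congr_fun (eq_one_of_barAut hb) ⟨x, hx⟩)
    exact this
  by_cases hθ : θ.range = ⊥
  · -- `h` moves `L`
    have hcen' : ∀ b ∈ AL, ∀ x : G, x ∈ L → b * x * b⁻¹ = x := fun b hb => hcen ⟨b, hb⟩ (by
      have : θ ⟨b, hb⟩ ∈ θ.range := ⟨_, rfl⟩
      rwa [hθ, mem_bot] at this)
    have haN : h ∉ AL := fun hmem => hAL fun x hx =>
      mem_centralizer_singleton_iff.2 (mul_inv_eq_iff_eq_mul.1 (hcen' h hmem x hx)).symm
    obtain ⟨H, ⟨hHA, hALH, haH⟩, hmax⟩ := (Set.toFinite {H : Subgroup G | H ≤ A ∧ AL ≤ H ∧ h ∉ H}).exists_maximal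
      ⟨AL, hALA, le_rfl, haN⟩
    have hidx : Nat.card A ≤ 2 * Nat.card H := by
      obtain ⟨D, hDA, hDH, hdec⟩ := exists_complement hA hHA
      have hd : ∀ d ∈ D, d ≠ 1 → h ∈ H ⊔ zpowers d := fun d hd hd1 => by
        by_contra hcon
        have h1 : H ⊔ zpowers d ≤ H := hmax ⟨sup_le hHA (zpowers_le.2 (hDA hd)), hALH.trans le_sup_left, hcon⟩
          le_sup_left
        have h2 : d ∈ D ⊓ H := ⟨hd, h1 (mem_sup_right (mem_zpowers d))⟩
        rw [hDH, mem_bot] at h2
        exact hd1 h2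
      obtain ⟨d₀, hd₀, c₀, hc₀, hhe⟩ := hdec h hh
      have huniq : ∀ d ∈ D, d = 1 ∨ d = d₀ := fun d hd' => or_iff_not_imp_left.2 fun hd1 => by
        have hn : zpowers d ≤ normalizer (H : Set G) := zpowers_le.2 (centralizer_le_normalizer _
          (mem_centralizer_iff.2 fun x hx => comm_of_elementary hA (hHA hx) (hDA hd')))
        obtain ⟨c, hc', w, hw, hcw⟩ := (Set.ext_iff.1 (coe_mul_of_right_le_normalizer_left H (zpowers d) hn) h).1
          (hd d hd' hd1)
        obtain ⟨i, rfl⟩ := mem_zpowers_iff.1 hw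
        have hd2 : d ^ (2 : ℤ) = 1 := by rw [zpow_ofNat]; exact hA.2 d (hDA hd')
        rcases Int.even_or_odd i with ⟨j, rfl⟩ | ⟨j, rfl⟩
        · exfalso
          refine haH ?_
          simp only [← two_mul, zpow_mul, hd2, one_zpow, mul_one] at hcw
          exact hcw ▸ hc'
        · have hdi : d ^ (2 * j + 1) = d := by rw [zpow_add, zpow_mul, hd2, one_zpow, one_mul, zpow_one]
          simp only [hdi] at hcw
          have h2 : d * d₀⁻¹ = c⁻¹ * c₀ := by
            rw [eq_inv_mul_iff_mul_eq, ← mul_assoc, hcw, hhe, comm_of_elementary hA (hDA hd₀) (hHA hc₀),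
              mul_inv_cancel_right]
          have h1 : d * d₀⁻¹ ∈ D ⊓ H := ⟨mul_mem hd' (D.inv_mem hd₀), h2 ▸ mul_mem (H.inv_mem hc') hc₀⟩
          rw [hDH, mem_bot, mul_inv_eq_one] at h1
          exact h1
      calc Nat.card A ≤ Nat.card (Bool × ↥H) := by
            refine Nat.card_le_card_of_surjective (fun z : Bool × ↥H => (⟨(if z.1 then d₀ else 1) * (z.2 : G),
              mul_mem (by cases z.1 <;> simp [hDA hd₀, one_mem]) (hHA z.2.2)⟩ : ↥A)) fun x => ?_
            obtain ⟨d, hd', c, hc', he⟩ := hdec x x.2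
            rcases huniq d hd' with rfl | rfl
            · exact ⟨(false, ⟨c, hc'⟩), Subtype.ext he.symm⟩
            · exact ⟨(true, ⟨c, hc'⟩), Subtype.ext he.symm⟩
        _ = 2 * Nat.card H := by rw [Nat.card_prod, Nat.card_eq_fintype_card, Fintype.card_bool]
    obtain ⟨A₁, hA₁H, hA₁, hdec'⟩ := exists_complement hA (hALA : AL ≤ A)
    obtain ⟨A₂, hA₂⟩ : ∃ A₂, A₂ = A₁ ⊓ H := ⟨_, rfl⟩
    have hA₁n : ∀ c ∈ A₁, c ∈ normalizer (L : Set G) → c = 1 := fun c hc hcN => by
      have : c ∈ A₁ ⊓ AL := ⟨hc, hALdef ▸ mem_inf.2 ⟨hA₁H hc, hcN⟩⟩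
      rwa [hA₁, mem_bot] at this
    obtain ⟨φ, hφ1, hφ2, hφ3, hφ4⟩ := exists_diag hA (A₁ := A₂) (hA₂ ▸ inf_le_left.trans hA₁H) hL
      (fun c hc => hA₁n c (hA₂ ▸ hc : c ∈ A₁ ⊓ H).1)
    obtain ⟨xb, r, hr, hr2, hxb⟩ := exists_odd_prime_order hna
    obtain ⟨x, rfl⟩ := QuotientGroup.mk_surjective xb
    refine Or.inl (avoid_of_commutator hA hHA hidx hh hh (by rw [← pow_two, hA.2 h hh]; exact one_mem H)
      (x := φ x) ?_ hr hr2 ?_)
    · rw [mem_centralizer_iff]
      intro b hbH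
      obtain ⟨d, hd, c, hc, rfl⟩ := hdec' b (hHA hbH)
      have hdH : d ∈ A₂ := hA₂ ▸ mem_inf.2 ⟨hd, by
        have := mul_mem (SetLike.mem_coe.1 hbH) (inv_mem (hALH hc))
        rwa [mul_inv_cancel_right] at this⟩
      have e1 : c * φ x = φ x * c := by
        have := hφ2 c (hALA hc) (hALN hc) x
        rw [show normalizerMonoidHom L ⟨c, hALN hc⟩ x = x from Subtype.ext (hcen' c hc x x.2)] at this
        exact mul_inv_eq_iff_eq_mul.1 this
      rw [mul_assoc, e1, ← mul_assoc, mul_inv_eq_iff_eq_mul.1 (hφ1 d hdH x), mul_assoc]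
    · have hout : h * φ x * h⁻¹ ∈ centralizer (L : Set G) := hφ4 h hh (fun c hc hN => haH (by
        have hcA : c ∈ A₁ ⊓ H := hA₂ ▸ hc
        have := mul_mem (hALH (hALdef ▸ mem_inf.2 ⟨mul_mem hh (hA₁H hcA.1), hN⟩ : h * c ∈ AL)) (inv_mem hcA.2)
        rwa [mul_inv_cancel_right] at this)) x
      obtain ⟨t, ht⟩ : ∃ t, t = (φ x)⁻¹ * (h * φ x * h⁻¹) := ⟨_, rfl⟩
      rw [← ht]
      have hr' : r ∣ orderOf ((x : ↥L ⧸ center ↥L)⁻¹) := by rw [orderOf_inv, hxb]
      refine hr'.trans (orderOf_dvd_of_pow_eq_one ?_)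
      rw [← QuotientGroup.mk_inv, ← QuotientGroup.mk_pow, QuotientGroup.eq_one_iff, mem_center_iff]
      intro z
      obtain ⟨rest, hrest⟩ : ∃ rest, rest = (x : G)⁻¹ * φ x := ⟨_, rfl⟩
      have hrC : rest ∈ centralizer (L : Set G) := hrest ▸ hφ3 x
      obtain ⟨u, hu⟩ : ∃ u, u = rest⁻¹ * (h * φ x * h⁻¹) := ⟨_, rfl⟩
      have huC : u ∈ centralizer (L : Set G) := hu ▸ mul_mem (inv_mem hrC) hout
      have hcx : Commute u (x : G)⁻¹ := Commute.inv_right (show Commute u (x : G) from (mem_centralizer_iff.1 huC x x.2).symm)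
      have htu : t = (x : G)⁻¹ * u := by
        rw [ht, show φ x = (x : G) * rest by rw [hrest, mul_inv_cancel_left], mul_inv_rev, hu, hrest, mul_inv_cancel_left]
        have h3 : rest⁻¹ * (x : G)⁻¹ = (x : G)⁻¹ * rest⁻¹ := by
          have h4 : Commute rest (x : G) := (mem_centralizer_iff.1 hrC x x.2).symm
          exact (h4.inv_inv).eq
        rw [← hrest, h3, mul_assoc]
      have h1 := pow_orderOf_eq_one t
      nth_rewrite 1 [htu] at h1
      rw [hcx.symm.mul_pow] at h1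
      have hmem : ((x : G)⁻¹) ^ orderOf t ∈ centralizer (L : Set G) := by
        rw [eq_inv_of_mul_eq_one_left h1]; exact inv_mem (pow_mem huC _)
      exact Subtype.ext (by push_cast; exact mem_centralizer_iff.1 hmem z z.2)
  haveI : Finite (MulAut (↥L ⧸ center ↥L)) :=
    Finite.of_injective (fun e : MulAut (↥L ⧸ center ↥L) => ((e : (↥L ⧸ center ↥L) → (↥L ⧸ center ↥L)))) DFunLike.coe_injective
  have hre : Cfsg.IsElementaryAbelian 2 θ.range := by
    refine ⟨⟨⟨?_⟩⟩, ?_⟩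
    · rintro ⟨_, u, rfl⟩ ⟨_, v, rfl⟩
      refine Subtype.ext ?_
      show θ u * θ v = θ v * θ u
      rw [← map_mul, ← map_mul, show u * v = v * u from Subtype.ext (comm_of_elementary hA (hALA u.2) (hALA v.2))]
    · rintro _ ⟨u, rfl⟩
      rw [← map_pow, show u ^ 2 = 1 from Subtype.ext (hA.2 u (hALA u.2)), map_one]
  -- the element avoided and the one inverting
  obtain ⟨a₀, ha₀θ, ha₀h⟩ : ∃ a₀ : ↥AL, θ a₀ ≠ 1 ∧ (h ∈ AL → (a₀ : G) = h) := by
    by_cases hhAL : h ∈ AL
    · refine ⟨⟨h, hhAL⟩, fun h1 => hAL fun x hx => ?_, fun _ => rfl⟩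
      exact mem_centralizer_singleton_iff.2 (mul_inv_eq_iff_eq_mul.1 (hcen ⟨h, hhAL⟩ h1 x hx)).symm
    · obtain ⟨⟨_, ⟨a₀, rfl⟩⟩, ha⟩ := (ne_bot_iff_exists_ne_one).1 hθ
      exact ⟨a₀, fun h1 => ha (Subtype.ext h1), fun h' => absurd h' hhAL⟩
  rcases simple_step_at hna hS θ.range hre ⟨a₀, rfl⟩ ha₀θ with hpsl | ⟨⟨s, hs4, hs2⟩, hstep⟩
  · -- a hyperplane
    obtain ⟨_, ⟨h0, rfl⟩, xb, r, hfix, hle, hr, hr2, hd⟩ := hpsl
    obtain ⟨x0, rfl⟩ := QuotientGroup.mk_surjective xb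
    obtain ⟨ψ, hψ⟩ : ∃ ψ : MulAut ↥L, ψ = normalizerMonoidHom L (inclusion hALN h0) := ⟨_, rfl⟩
    have hθψ : θ h0 = barAut ↥L ψ := hψ ▸ rfl
    have hψ2 : ∀ z, ψ (ψ z) = z := fun z => by
      rw [← MulAut.mul_apply, hψ, ← map_mul, ← map_mul, show h0 * h0 = 1 from Subtype.ext (by
        show (h0 : G) * h0 = 1
        rw [← pow_two]; exact hA.2 _ (hALA h0.2)), map_one, map_one, MulAut.one_apply]
    obtain ⟨x, hx, hψx⟩ := exists_fixed_lift ha hL hψ2 (x₀ := x0) (by rw [← hθψ]; exact hfix)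
    obtain ⟨A₁, hA₁A, hmemA₁, hA₁, hdec⟩ := exists_complement_ge (D₀ := zpowers (h * (a₀ : G))) hA
      (hALA : AL ≤ A) (zpowers_le.2 (mul_mem hh (hALA a₀.2))) ((eq_bot_iff_forall _).2 (by
        rintro z ⟨hz, hzAL⟩
        obtain ⟨i, rfl⟩ := mem_zpowers_iff.1 hz
        have h2 : (h * (a₀ : G)) ^ (2 : ℤ) = 1 := by
          rw [zpow_ofNat]; exact hA.2 _ (mul_mem hh (hALA a₀.2))
        rcases Int.even_or_odd i with ⟨j, rfl⟩ | ⟨j, rfl⟩
        · rw [← two_mul, zpow_mul, h2, one_zpow]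
        · rw [zpow_add, zpow_mul, h2, one_zpow, one_mul, zpow_one] at hzAL ⊢
          have hhAL : h ∈ AL := by
            have := mul_mem (SetLike.mem_coe.1 hzAL) (AL.inv_mem a₀.2)
            rwa [mul_inv_cancel_right] at this
          rw [ha₀h hhAL, ← pow_two, hA.2 h hh]))
    have hA₁n : ∀ c ∈ A₁, c ∈ normalizer (L : Set G) → c = 1 := fun c hc hcN => by
      have : c ∈ A₁ ⊓ AL := ⟨hc, hALdef ▸ mem_inf.2 ⟨hA₁A hc, hcN⟩⟩
      rwa [hA₁, mem_bot] at this
    obtain ⟨φ, hφ1, hφ2, hφ3, -⟩ := exists_diag hA hA₁A hL hA₁n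
    obtain ⟨BL, hBL⟩ : ∃ BL, BL = ((zpowers (θ h0)).comap θ).map AL.subtype := ⟨_, rfl⟩
    have hBLA : BL ≤ AL := hBL ▸ map_subtype_le _
    have hBA : A₁ ⊔ BL ≤ A := sup_le hA₁A (hBLA.trans hALA)
    have hfixBL : ∀ b ∈ BL, b * φ x * b⁻¹ = φ x := by
      intro b hb
      rw [hBL] at hb
      obtain ⟨b, hb, rfl⟩ := hb
      obtain ⟨i, hi⟩ := mem_comap.1 hb
      rw [Subgroup.coe_subtype, hφ2 (b : G) (hALA b.2) (hALN b.2) x]
      congr 1
      have h1 : barAut ↥L (normalizerMonoidHom L (inclusion hALN b) * (ψ ^ i)⁻¹) = 1 := by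
        rw [map_mul, map_inv, map_zpow, ← hθψ]
        show θ b * (θ h0 ^ i)⁻¹ = 1
        rw [← hi, mul_inv_cancel]
      have h2 := eq_one_of_barAut h1
      rw [mul_inv_eq_one] at h2
      show normalizerMonoidHom L (inclusion hALN b) x = x
      rw [h2]
      have hfx : ψ ∈ MulAction.stabilizer (MulAut ↥L) x := hψx
      exact zpow_mem hfx i
    have hcard : Nat.card A ≤ 2 * Nat.card ↥(A₁ ⊔ BL) := by
      have h1 : Nat.card A ≤ Nat.card A₁ * Nat.card AL := by
        let g : ↥A₁ × ↥AL → G := fun z => (z.1 : G) * z.2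
        calc Nat.card A ≤ Nat.card ↥(Set.range g) := Nat.card_mono (Set.toFinite _) (fun u hu => by
              obtain ⟨d, hd, c, hc, rfl⟩ := hdec u hu
              exact ⟨(⟨d, hd⟩, ⟨c, hc⟩), rfl⟩)
          _ ≤ Nat.card (↥A₁ × ↥AL) := Finite.card_range_le g
          _ = _ := Nat.card_prod _ _
      have h2 : Nat.card AL ≤ 2 * Nat.card BL := by
        have hk : Nat.card ↥((zpowers (θ h0)).comap θ) = orderOf (θ h0) * Nat.card θ.ker := by
          rw [← card_mul_index (θ.ker.subgroupOf ((zpowers (θ h0)).comap θ)),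
            Nat.card_congr (subgroupOfEquivOfLe (θ.ker_le_comap _)).toEquiv, ← relIndex, mul_comm]
          congr 1
          rw [← MonoidHom.comap_bot, relIndex_comap, map_comap_eq, inf_eq_right.2 (zpowers_le.2 (MonoidHom.mem_range.2 ⟨h0, rfl⟩)),
            relIndex_bot_left, Nat.card_zpowers]
        have hAL' : Nat.card AL = Nat.card θ.range * Nat.card θ.ker := by
          rw [← Nat.card_congr (QuotientGroup.quotientKerEquivRange θ).toEquiv, mul_comm]
          exact (card_mul_index θ.ker).symm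
        rw [hBL, card_subtype, hk, hAL', ← mul_assoc]
        exact Nat.mul_le_mul_right _ hle
      have h3 : Nat.card A₁ * Nat.card BL ≤ Nat.card ↥(A₁ ⊔ BL) := by
        rw [← Nat.card_prod]
        refine Nat.card_le_card_of_injective (fun z : ↥A₁ × ↥BL => (⟨(z.1 : G) * z.2, mul_mem (mem_sup_left z.1.2) (mem_sup_right z.2.2)⟩ : ↥(A₁ ⊔ BL))) ?_
        rintro ⟨u, v⟩ ⟨u', v'⟩ he
        have h' : (u : G) * v = u' * v' := congrArg Subtype.val he
        have h4 : (u' : G)⁻¹ * u = v' * (v : G)⁻¹ := by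
          rw [inv_mul_eq_iff_eq_mul, ← mul_assoc, eq_mul_inv_iff_mul_eq, h']
        have h5 : (u' : G)⁻¹ * u ∈ A₁ ⊓ AL :=
          Subgroup.mem_inf.2 ⟨mul_mem (inv_mem u'.2) u.2, h4 ▸ mul_mem (hBLA v'.2) (inv_mem (hBLA v.2))⟩
        rw [hA₁, mem_bot] at h5
        rw [h5] at h4
        exact Prod.ext (Subtype.ext (inv_mul_eq_one.1 h5).symm) (Subtype.ext (mul_inv_eq_one.1 h4.symm).symm)
      calc Nat.card A ≤ Nat.card A₁ * (2 * Nat.card BL) := h1.trans (Nat.mul_le_mul_left _ h2)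
        _ = 2 * (Nat.card A₁ * Nat.card BL) := by ring
        _ ≤ _ := Nat.mul_le_mul_left _ h3
    have hxB : φ x ∈ centralizer ((A₁ ⊔ BL : Subgroup G) : Set G) := by
      have h1 : A₁ ⊔ BL ≤ centralizer ({φ x} : Set G) := sup_le
        (fun c hc => mem_centralizer_singleton_iff.2 (mul_inv_eq_iff_eq_mul.1 (hφ1 c hc x)))
        (fun b hb => mem_centralizer_singleton_iff.2 (mul_inv_eq_iff_eq_mul.1 (hfixBL b hb)))
      exact mem_centralizer_iff.2 fun b hb => mem_centralizer_singleton_iff.1 (h1 hb)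
    have hdvd : r ∣ orderOf ((φ x)⁻¹ * ((a₀ : G) * φ x * (a₀ : G)⁻¹)) := by
      rw [hφ2 (a₀ : G) (hALA a₀.2) (hALN a₀.2) x, ← map_inv, ← map_mul]
      refine dvd_orderOf_diag φ hφ3 ?_
      rw [QuotientGroup.mk_mul, QuotientGroup.mk_inv, ← barAut_mk, hx]
      exact hd
    exact Or.inl (avoid_of_commutator hA hBA hcard (hALA a₀.2) hh
      (mem_sup_left (hmemA₁ (mem_zpowers _))) hxB hr hr2 hdvd)
  · -- Suzuki components: all of `A` normalizes `L`
    obtain ⟨E, hE⟩ : ∃ E, E = normalClosure (L : Set G) := ⟨_, rfl⟩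
    have hEn : E.Normal := hE ▸ normalClosure_normal
    have hLE : L ≤ E := hE ▸ le_normalClosure
    obtain ⟨zb, rfl⟩ := QuotientGroup.mk_surjective s
    have hord4 : 4 ∣ orderOf (zb : G) := by
      have h1 : orderOf ((zb : ↥L ⧸ center ↥L)) = 2 ^ (1 + 1) :=
        orderOf_eq_prime_pow (p := 2) (by simpa using hs2) (by simpa using hs4)
      have h2 := orderOf_map_dvd (QuotientGroup.mk' (center ↥L)) zb
      rw [QuotientGroup.mk'_apply, h1, ← Subgroup.orderOf_coe] at h2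
      exact h2
    have hEeven : 2 ∣ Nat.card E := (dvd_trans (by norm_num) hord4).trans
      (by rw [← Subgroup.orderOf_mk (zb : G) (hLE zb.2)]; exact orderOf_dvd_natCard _)
    have hodd := heven E hEn hEeven
    have htop : E ⊔ J = ⊤ := by
      have hP : (normalizer ((E ⊔ J : Subgroup G) : Set G)) = ⊤ := by
        refine eq_top_of_odd_sylow S ?_ fun g hg => le_normalizer (mem_sup_left (hodd g hg))
        intro g hg
        refine mem_normalizer_iff_map_conj_eq.2 ?_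
        rw [Subgroup.map_sup, mem_normalizer_iff_map_conj_eq.1 (le_normalizer_of_normal (H := E) (mem_top g)),
          mem_normalizer_iff_map_conj_eq.1 (hSJ hg)]
      have hPn : (E ⊔ J).Normal := normalizer_eq_top_iff.1 hP
      exact top_le_iff.1 (hJ ▸ normalClosure_le_normal (SetLike.coe_subset_coe.2 le_sup_right))
    have hEnorm : ∀ C : Subgroup G, Cfsg.IsComponent C → E ≤ normalizer (C : Set G) := by
      intro C hC
      rw [hE, normalClosure, Subgroup.closure_le]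
      intro e he
      obtain ⟨l, hl, hconj⟩ := Group.mem_conjugatesOfSet_iff.1 he
      obtain ⟨g, rfl⟩ := isConj_iff.1 hconj
      rcases components_eq_or_commute (isComponent_map_equiv (MulAut.conj g) hL) hC with h1 | h1
      · exact le_normalizer (h1 ▸ ⟨l, hl, rfl⟩)
      · rw [commutator_eq_bot_iff_le_centralizer] at h1
        exact centralizer_le_normalizer _ (h1 ⟨l, hl, rfl⟩)
    have htrans : ∀ g : G, ∃ j ∈ J, L.map (MulAut.conj g).toMonoidHom = L.map (MulAut.conj j).toMonoidHom := by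
      intro g
      obtain ⟨e, he, j, hj, rfl⟩ := mem_sup_of_normal_left.1 (htop ▸ mem_top g : g ∈ E ⊔ J)
      refine ⟨j, hj, ?_⟩
      have h1 := mem_normalizer_iff_map_conj_eq.1 (hEnorm _ (isComponent_map_equiv (MulAut.conj j) hL) he)
      rw [Subgroup.map_map] at h1
      refine Eq.trans ?_ h1
      congr 1
      ext x
      simp [mul_assoc]
    -- elements moving `L`
    have hnorm : ∀ b ∈ A, b ∈ normalizer (L : Set G) := by
      intro b hb
      by_contra hbN
      obtain ⟨n, hn⟩ : ∃ n, orderOf (zb : G) = n := ⟨_, rfl⟩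
      obtain ⟨v, m, hm, hvm⟩ := Nat.exists_eq_pow_mul_and_not_dvd (hn ▸ (orderOf_pos (zb : G)).ne' : n ≠ 0) 2 (by norm_num)
      obtain ⟨w, hw⟩ : ∃ w, w = zb ^ m := ⟨_, rfl⟩
      have hwp : IsPGroup 2 ↥(zpowers (w : G)) := IsPGroup.of_card (n := v) (by
        rw [Nat.card_zpowers, hw, SubmonoidClass.coe_pow, orderOf_pow_of_dvd (by omega) (by rw [hn, hvm]; exact dvd_mul_left _ _),
          hn, hvm, Nat.mul_div_cancel _ (by omega)])
      obtain ⟨T, hT⟩ := hwp.exists_le_sylow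
      obtain ⟨g, hg⟩ := MulAction.exists_smul_eq G T S
      obtain ⟨j, hj, hjL⟩ := htrans g
      obtain ⟨L', hL'def⟩ : ∃ L', L' = L.map (MulAut.conj g).toMonoidHom := ⟨_, rfl⟩
      have hL' : Cfsg.IsComponent L' := hL'def ▸ isComponent_map_equiv (MulAut.conj g) hL
      obtain ⟨s', hs'⟩ : ∃ s', s' = g * (w : G) * g⁻¹ := ⟨_, rfl⟩
      have hs'L : s' ∈ L' := hL'def ▸ hs' ▸ ⟨w, w.2, rfl⟩
      have hs'S : s' ∈ (S : Subgroup G) := by
        rw [← hg, hs']
        exact ⟨w, hT (mem_zpowers _), rfl⟩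
      have hne : L' ≠ L'.map (MulAut.conj b).toMonoidHom := fun heq => hbN (by
        have hbj : b * j = j * b := mem_centralizer_iff.1 (hJA hj) b hb
        rw [mem_normalizer_iff_map_conj_eq]
        rw [hL'def, hjL, Subgroup.map_map] at heq
        refine Subgroup.map_injective (f := (MulAut.conj j).toMonoidHom) (MulAut.conj j).injective ?_
        rw [Subgroup.map_map]
        refine Eq.trans ?_ heq.symm
        congr 1
        ext x
        simp only [MonoidHom.comp_apply, MulEquiv.coe_toMonoidHom, MulAut.conj_apply]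
        show j * (b * x * b⁻¹) * j⁻¹ = _
        rw [show j * (b * x * b⁻¹) * j⁻¹ = (j * b) * x * (j * b)⁻¹ by group, ← hbj]
        group)
      have hcomm := (components_eq_or_commute hL' (isComponent_map_equiv (MulAut.conj b) hL')).resolve_left hne
      rw [commutator_eq_bot_iff_le_centralizer] at hcomm
      obtain ⟨t, ht⟩ : ∃ t, t = b * s' * b⁻¹ := ⟨_, rfl⟩
      have htL : t ∈ L'.map (MulAut.conj b).toMonoidHom := ht ▸ ⟨s', hs'L, rfl⟩
      have hst : Commute s' t := (mem_centralizer_iff.1 (hcomm hs'L) t htL).symm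
      have hbA : s'⁻¹ * t ∈ A := by
        rw [ht, show s'⁻¹ * (b * s' * b⁻¹) = (s'⁻¹ * b * s') * b⁻¹ by group]
        exact mul_mem ((mem_normalizer_iff''.1 (hAS hs'S) b).1 hb) (inv_mem hb)
      have hsq : s' ^ 2 = t ^ 2 := by
        have := hA.2 _ hbA
        rwa [(hst.inv_left).mul_pow, inv_pow, inv_mul_eq_one] at this
      -- the square is central in `L'`
      have hcL : s' ^ 2 ∈ centralizer (L' : Set G) := hsq ▸ mem_centralizer_iff.2 fun l hl =>
        (mem_centralizer_iff.1 (hcomm hl) _ (pow_mem htL 2)).symm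
      have hwc : w ^ 2 ∈ center ↥L := mem_center_iff.2 fun l => Subtype.ext (by
        have h1 := mem_centralizer_iff.1 hcL (g * l * g⁻¹) (hL'def ▸ ⟨l, l.2, rfl⟩)
        rw [hs', ← MulAut.conj_apply, ← MulAut.conj_apply, ← map_pow, ← map_mul, ← map_mul] at h1
        exact (MulAut.conj g).injective h1)
      have h1 : ((zb : ↥L ⧸ center ↥L) ^ (m * 2)) = 1 := by
        rw [← QuotientGroup.mk_pow, QuotientGroup.eq_one_iff, pow_mul, ← hw]
        exact hwc
      have h2 : orderOf ((zb : ↥L ⧸ center ↥L)) = 2 ^ (1 + 1) :=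
        orderOf_eq_prime_pow (p := 2) (by simpa using hs2) (by simpa using hs4)
      have h3 := orderOf_dvd_of_pow_eq_one h1
      rw [h2] at h3
      omega
    have hALeq : AL = A := hALdef ▸ inf_eq_left.2 hnorm
    -- nothing centralizes `L`
    have hinj : ∀ k ∈ A, k ∈ centralizer (L : Set G) → k = 1 := by
      intro k hk hkL
      by_contra hk1
      have hkE : k ∈ centralizer (E : Set G) := by
        rw [hE, normalClosure, centralizer_closure]
        refine mem_centralizer_iff.2 fun e he => ?_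
        obtain ⟨l, hl, hconj⟩ := Group.mem_conjugatesOfSet_iff.1 he
        obtain ⟨g, rfl⟩ := isConj_iff.1 hconj
        obtain ⟨j, hj, hjL⟩ := htrans g
        obtain ⟨l', hl', hl'e⟩ : g * l * g⁻¹ ∈ L.map (MulAut.conj j).toMonoidHom := hjL ▸ ⟨l, hl, rfl⟩
        rw [← hl'e]
        show j * l' * j⁻¹ * k = k * (j * l' * j⁻¹)
        have h1 : Commute k j := mem_centralizer_iff.1 (hJA hj) k hk
        have h2 : Commute k l' := (mem_centralizer_iff.1 hkL l' hl').symm
        exact ((h1.mul_right h2).mul_right h1.inv_right).eq.symm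
      have hCn : (centralizer (E : Set G)).Normal := inferInstance
      have hCeven : 2 ∣ Nat.card ↥(centralizer (E : Set G)) := by
        rw [← orderOf_eq_prime (hA.2 k hk) hk1, ← Subgroup.orderOf_mk k hkE]
        exact orderOf_dvd_natCard _
      obtain ⟨xb, r, hr, hr2, hxb⟩ := exists_odd_prime_order hna
      obtain ⟨x, rfl⟩ := QuotientGroup.mk_surjective xb
      obtain ⟨v, m, hm, hvm⟩ := Nat.exists_eq_pow_mul_and_not_dvd (orderOf_pos x).ne' 2 (by norm_num)
      have hox : Odd (orderOf ((x ^ 2 ^ v : ↥L) : G)) := by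
        rw [Subgroup.orderOf_coe, orderOf_pow_of_dvd (by positivity) (hvm ▸ dvd_mul_right _ _), hvm,
          Nat.mul_div_cancel_left _ (by positivity)]
        rw [← Nat.not_even_iff_odd, even_iff_two_dvd]; exact hm
      have hxC := heven _ hCn hCeven _ hox
      have hxc : x ^ 2 ^ v ∈ center ↥L := mem_center_iff.2 fun l => Subtype.ext
        (mem_centralizer_iff.1 hxC l (hLE l.2))
      rw [← QuotientGroup.eq_one_iff, QuotientGroup.mk_pow, ← orderOf_dvd_iff_pow_eq_one, hxb] at hxc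
      exact hr2 ((Nat.prime_dvd_prime_iff_eq hr Nat.prime_two).1 (hr.dvd_of_dvd_pow hxc))
    have hθinj : Function.Injective θ := (injective_iff_map_eq_one θ).2 fun b hb => Subtype.ext
      (hinj b (hALA b.2) (mem_centralizer_iff.2 fun l hl => (mul_inv_eq_iff_eq_mul.1 (hcen b hb l hl)).symm))
    obtain ⟨_, ⟨a', rfl⟩, xb, r, e, he, hle, hr, hr2, hd, hppd⟩ := hstep
    obtain ⟨x, rfl⟩ := QuotientGroup.mk_surjective xb
    have hd' : r ∣ orderOf (((x : G))⁻¹ * ((a' : G) * x * (a' : G)⁻¹)) := by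
      refine hd.trans ?_
      rw [← QuotientGroup.mk_inv]
      have h1 : θ a' (x : ↥L ⧸ center ↥L) = ((normalizerMonoidHom L (inclusion hALN a') x : ↥L) : ↥L ⧸ center ↥L) := rfl
      rw [h1, ← QuotientGroup.mk_mul]
      refine (orderOf_map_dvd (QuotientGroup.mk' (center ↥L)) _).trans ?_
      rw [← Subgroup.orderOf_coe]
      exact dvd_refl _
    obtain ⟨y, hy, -, hyi⟩ := exists_inverted_of_dvd hA (bot_le : ⊥ ≤ A) (hALA a'.2) (x := (x : G))
      (mem_centralizer_iff.2 fun z hz => by rw [mem_bot.1 hz, one_mul, mul_one]) hr hd'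
    refine Or.inr ⟨1, fun _ => a', fun _ => y, fun _ => r, fun _ => e, fun _ => hALA a'.2, ?_,
      fun _ => ⟨he, hr, hr2, hy, hyi, hppd⟩, fun i j hij => absurd (Subsingleton.elim j i) hij⟩
    rw [Fin.sum_univ_one]
    have hcardA : Nat.card A = Nat.card ↥AL := by rw [hALeq]
    rw [hcardA, Nat.card_congr (MonoidHom.ofInjective hθinj).toEquiv]
    exact hle

/-- the family for a group normalized by a Sylow subgroup in the situation of the even normal subgroups -/
theorem fam_of_even (ha : Cfsg.pCore 2 G = ⊥) (hb : ¬ Cfsg.Involves (Equiv.Perm (Fin 3)) G) (hc : Good G)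
    {A : Subgroup G} (hA : Cfsg.IsElementaryAbelian 2 A) (S : Sylow 2 G) (hAS : ↑S ≤ normalizer (A : Set G))
    {J : Subgroup G} (hJS : J ≤ S) (hSJ : ↑S ≤ normalizer (J : Set G)) (hJA : J ≤ centralizer (A : Set G))
    (hJ : normalClosure (J : Set G) = ⊤)
    (heven : ∀ K : Subgroup G, K.Normal → 2 ∣ Nat.card K → ∀ g : G, Odd (orderOf g) → g ∈ K) : Fam A := by
  by_contra hno
  exact hno (fam_of_avoid hb hA fun h hh hh1 =>
    (avoid_or_fam ha hb hc hA S hAS hJS hSJ hJA hJ heven hh hh1).resolve_right hno)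

end CfsgLib.LocalEven.Factor
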