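import Cfsg.Agent.Lib.LocalEven.Factor.Generate
import Cfsg.Agent.Lib.LocalEven.Factor.Fam
import Cfsg.Prelude.Def_TwoFusion

/-!
# Candidates normalized by `N(J_e(S))` are strongly closed

* `Cand S B`, `closed`
* `controls_of_stronglyClosed`: a strongly closed abelian subgroup controls strong fusion
-/

set_option autoImplicit false
set_option linter.all false

namespace CfsgLib.LocalEven.Factor

open Subgroup CfsgLib.Techniques
open scoped commutatorElement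

universe u

variable {G : Type u} [Group G]

/-- an elementary abelian normal subgroup of `S` with the first inequality, normalized by `N(J_e(S))` -/
structure Cand (S B : Subgroup G) : Prop where
  le : B ≤ S
  elem : Cfsg.IsElementaryAbelian 2 B
  norm : S ≤ normalizer (B : Set G)
  eprop : EProp S B
  jnorm : normalizer (je S : Set G) ≤ normalizer (B : Set G)

variable [Finite G]

theorem Cand.subgroup {S B : Subgroup G} (h : Cand S B) {L : Subgroup G} (hSL : S ≤ L) :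
    Cand (S.subgroupOf L) (B.subgroupOf L) := by
  have hSm : (S.subgroupOf L).map L.subtype = S := by rw [subgroupOf_map_subtype, inf_eq_left.2 hSL]
  have hBm : (B.subgroupOf L).map L.subtype = B := by rw [subgroupOf_map_subtype, inf_eq_left.2 (h.le.trans hSL)]
  refine ⟨comap_mono h.le, PLocal.elementary_comap L.subtype L.subtype_injective h.elem,
    fun s hs => mem_normalizer_iff.2 fun v => ?_, (eProp_map_iff L.subtype L.subtype_injective _ _).1
      (by rw [hSm, hBm]; exact h.eprop), fun g hg => mem_normalizer_iff.2 fun v => ?_⟩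
  · rw [mem_subgroupOf, mem_subgroupOf]
    exact mem_normalizer_iff.1 (h.norm hs) v
  · have h1 : (g : G) ∈ normalizer (je S : Set G) := by
      rw [← hSm, ← je_map L.subtype L.subtype_injective]
      exact le_normalizer_map L.subtype ⟨g, hg, rfl⟩
    rw [mem_subgroupOf, mem_subgroupOf]
    exact mem_normalizer_iff.1 (h.jnorm h1) v

theorem zS_ne_bot {T : Subgroup G} (hT : IsPGroup 2 T) (hT1 : T ≠ ⊥) : zS T ≠ ⊥ := by
  haveI : Fact (Nat.Prime 2) := ⟨Nat.prime_two⟩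
  haveI : Nontrivial ↥T := (nontrivial_iff_ne_bot T).2 hT1
  haveI := hT.center_nontrivial
  obtain ⟨k, hk⟩ := IsPGroup.iff_card.1 (hT.to_subgroup (center ↥T))
  have hdvd : 2 ∣ Nat.card ↥(center ↥T) := by
    rcases k with _ | k
    · rw [pow_zero] at hk
      exact absurd (eq_bot_of_card_eq _ hk) ((nontrivial_iff_ne_bot _).1 inferInstance)
    · rw [hk, pow_succ]; exact dvd_mul_left _ _
  obtain ⟨z, hz⟩ := exists_prime_orderOf_dvd_card' 2 hdvd
  rw [← Subgroup.orderOf_coe, ← Subgroup.orderOf_coe] at hz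
  intro h
  have h1 : ((z : ↥T) : G) ∈ zS T := CfsgLib.PGroups.mem_omegaOne (mem_inf.2 ⟨(z : ↥T).2,
    mem_centralizer_iff.2 fun t ht => congrArg Subtype.val (mem_center_iff.1 z.2 ⟨t, ht⟩)⟩)
    (by rw [← hz]; exact pow_orderOf_eq_one _)
  rw [h, mem_bot] at h1
  rw [h1, orderOf_one] at hz
  norm_num at hz

/-- candidates normalized by `N(J_e(S))` are strongly closed -/
theorem closed : ∀ (n : ℕ) (G : Type u) [Group G] [Finite G], Nat.card G ≤ n → Local G →
    ∀ (S : Sylow 2 G) (B : Subgroup G), Cand (S : Subgroup G) B →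
      ∀ (g : G), ∀ b ∈ B, g⁻¹ * b * g ∈ (S : Subgroup G) → g⁻¹ * b * g ∈ B := by
  intro n
  induction n with
  | zero => intro G _ _ h; exact absurd h (not_le.2 Nat.card_pos)
  | succ n ihn =>
  intro G _ _ hn h S B hB g b hb hgb
  haveI : Fact (Nat.Prime 2) := ⟨Nat.prime_two⟩
  -- in proper subgroups containing `S`
  have hsub : ∀ {L : Subgroup G}, L ≠ ⊤ → (S : Subgroup G) ≤ L → ∀ l ∈ L, ∀ a ∈ (S : Subgroup G),
      l⁻¹ * a * l ∈ (S : Subgroup G) → (a ∈ B ↔ l⁻¹ * a * l ∈ B) := by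
    intro L hlt hSL
    obtain ⟨P, hP⟩ : ∃ P : Sylow 2 ↥L, (P : Subgroup ↥L) = (S : Subgroup G).subgroupOf L :=
      ⟨(S.2.comap_subtype).toSylow (sylow_relIndex_not_dvd S hSL), rfl⟩
    have hcl := ihn ↥L (by
      have := (card_le_card_group L).lt_of_ne fun he => hlt (eq_top_of_card_eq L he)
      omega) (h.subgroup L) P (B.subgroupOf L) (hP ▸ hB.subgroup hSL)
    have key : ∀ l ∈ L, ∀ a ∈ B, l⁻¹ * a * l ∈ (S : Subgroup G) → l⁻¹ * a * l ∈ B := fun l hl a ha hla =>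
      hcl ⟨l, hl⟩ ⟨a, hSL (hB.le ha)⟩ ha (hP.ge hla)
    intro l hl a ha hla
    refine ⟨fun h' => key l hl a h' hla, fun h' => ?_⟩
    have := key l⁻¹ (L.inv_mem hl) _ h' (by simpa [mul_assoc] using ha)
    simpa [mul_assoc] using this
  obtain ⟨Q, hQ⟩ : ∃ Q, Q = Cfsg.pCore 2 G := ⟨_, rfl⟩
  haveI : Q.Normal := hQ ▸ inferInstance
  have hQ2 : IsPGroup 2 Q := hQ ▸ CfsgLib.Core.isPGroup_pCore 2 G
  have hQS : Q ≤ (S : Subgroup G) := hQ ▸ CfsgLib.Core.pCore_le_sylow S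
  by_cases hcQ : (S : Subgroup G) ⊓ centralizer (Q : Set G) ≤ Q
  · -- constrained modulo the odd core
    obtain ⟨O, hOn, hOc, -, hH⟩ := h.hyp_quot S hQ2 hcQ
    obtain ⟨π, hπ⟩ : ∃ π, π = QuotientGroup.mk' O := ⟨_, rfl⟩
    have hπs : Function.Surjective π := hπ ▸ QuotientGroup.mk'_surjective O
    have hSO : ∀ s ∈ (S : Subgroup G), π s = 1 → s = 1 := fun s hs h1 => by
      have h2 : Disjoint (S : Subgroup G) O := disjoint_iff.2 (inf_eq_bot_of_coprime (by
        obtain ⟨k, hk⟩ := IsPGroup.iff_card.1 S.2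
        rw [hk]; exact (hOc.pow_right k).symm))
      rw [hπ] at h1
      exact disjoint_def.1 h2 hs ((QuotientGroup.eq_one_iff s).1 h1)
    obtain ⟨f, hf⟩ : ∃ f, f = π.comp (S : Subgroup G).subtype := ⟨_, rfl⟩
    have hfinj : Function.Injective f := by
      rw [hf, injective_iff_map_eq_one]; exact fun s hs => Subtype.ext (hSO s s.2 hs)
    obtain ⟨P, hP⟩ : ∃ P : Sylow 2 (G ⧸ O), P = S.mapSurjective hπs := ⟨_, rfl⟩
    have hPf : (P : Subgroup (G ⧸ O)) = (⊤ : Subgroup ↥(S : Subgroup G)).map f := by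
      rw [hP, Sylow.coe_mapSurjective, hf, ← Subgroup.map_map, ← MonoidHom.range_eq_map, range_subtype]
    have hSf : (S : Subgroup G) = (⊤ : Subgroup ↥(S : Subgroup G)).map (S : Subgroup G).subtype := by
      rw [← MonoidHom.range_eq_map, range_subtype]
    have hBf : B.map π = (B.subgroupOf (S : Subgroup G)).map f := by
      rw [hf, ← Subgroup.map_map, subgroupOf_map_subtype, inf_eq_left.2 hB.le]
    have hje : je (P : Subgroup (G ⧸ O)) = (je (S : Subgroup G)).map π := by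
      rw [hPf, ← je_map f hfinj]
      conv_rhs => rw [hSf, ← je_map (S : Subgroup G).subtype (S : Subgroup G).subtype_injective, Subgroup.map_map, ← hf]
    have hth := theta _ (G ⧸ O) le_rfl hH P (B.map π) (by rw [hP, Sylow.coe_mapSurjective]; exact map_mono hB.le)
      (PLocal.elementary_map π hB.elem)
      (by rw [hP, Sylow.coe_mapSurjective]; exact (map_mono hB.norm).trans (le_normalizer_map π))
      (by
        rw [hPf, hBf, eProp_map_iff f hfinj]
        refine (eProp_map_iff (S : Subgroup G).subtype (S : Subgroup G).subtype_injective _ _).1 ?_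
        rw [← hSf, subgroupOf_map_subtype, inf_eq_left.2 hB.le]
        exact hB.eprop)
    obtain ⟨C, hC⟩ : ∃ C, C = (normalClosure (je (P : Subgroup (G ⧸ O)) : Set (G ⧸ O))).comap π := ⟨_, rfl⟩
    haveI : C.Normal := hC ▸ inferInstance
    have hJC : je (S : Subgroup G) ≤ C := fun j hj => hC ▸ mem_comap.2 (le_normalClosure (hje.ge (mem_map_of_mem π hj)))
    obtain ⟨c, hc, m, hm, he⟩ := exists_mul_of_normal S (C := C) g⁻¹
    rw [hC, mem_comap] at hc
    have hb' : m * b * m⁻¹ ∈ B := by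
      have h1 := normalizer_je _ hm
      rw [je_mono_eq inf_le_right (le_inf hJC (je_le_self _))] at h1
      exact (mem_normalizer_iff.1 (hB.jnorm h1) b).1 hb
    have h2 : g⁻¹ * b * g = c * (m * b * m⁻¹) * c⁻¹ := by
      rw [show g⁻¹ * b * g = g⁻¹ * b * g⁻¹⁻¹ by rw [inv_inv], he]; group
    have h3 : π (g⁻¹ * b * g) = π (m * b * m⁻¹) := by
      rw [h2, map_mul π (c * (m * b * m⁻¹)), map_mul π c, map_inv,
        ← mem_centralizer_iff.1 (hth hc) _ (mem_map_of_mem π hb'), mul_inv_cancel_right]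
    rwa [inv_mul_eq_one.1 (hSO ((g⁻¹ * b * g)⁻¹ * (m * b * m⁻¹))
      (mul_mem ((S : Subgroup G).inv_mem hgb) (hB.le hb')) (by rw [map_mul, map_inv, h3, inv_mul_cancel]))]
  obtain ⟨C, hC⟩ : ∃ C, C = centralizer (Q : Set G) := ⟨_, rfl⟩
  haveI : C.Normal := hC ▸ inferInstance
  by_cases hCS : C ⊔ (S : Subgroup G) ≠ ⊤
  · -- two proper subgroups
    obtain ⟨c, hc, m, hm, rfl, hcX⟩ := conj_adjust S C (X := {b}) (g := g)
      (by rintro x rfl; exact hB.le hb) (by rintro x rfl; exact hgb)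
    have hcb : c⁻¹ * b * c ∈ (S : Subgroup G) := hcX b rfl
    have h1 : c⁻¹ * b * c ∈ B := (hsub hCS le_sup_right c (mem_sup_left hc) b (hB.le hb) hcb).1 hb
    have hNlt : normalizer ((C ⊓ (S : Subgroup G) : Subgroup G) : Set G) ≠ ⊤ := by
      intro htop'
      rw [normalizer_eq_top_iff] at htop'
      refine hcQ ((inf_comm _ _).le.trans ?_)
      rw [← hC, hQ]
      exact CfsgLib.Core.le_pCore (S.2.to_le inf_le_right)
    have hSN : (S : Subgroup G) ≤ normalizer ((C ⊓ (S : Subgroup G) : Subgroup G) : Set G) :=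
      le_normalizer_iff.2 fun s hs x hx => mem_inf.2 ⟨(inferInstance : C.Normal).conj_mem x hx.1 s,
        mul_mem (mul_mem hs hx.2) ((S : Subgroup G).inv_mem hs)⟩
    have h2 := (hsub hNlt hSN m hm _ hcb (by simpa [mul_assoc] using hgb)).1 h1
    simpa [mul_assoc] using h2
  push Not at hCS
  -- the elements of odd order centralize `O₂(G)`
  have hodd : ∀ x : G, Odd (orderOf x) → x ∈ centralizer (Q : Set G) := fun x hx =>
    hC ▸ odd_mem_of_sup S.2 hx (hCS.symm ▸ mem_top x : x ∈ C ⊔ (S : Subgroup G))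
  obtain ⟨π, hπ⟩ : ∃ π, π = QuotientGroup.mk' Q := ⟨_, rfl⟩
  have hπs : Function.Surjective π := hπ ▸ QuotientGroup.mk'_surjective Q
  have hker : π.ker = Q := hπ ▸ QuotientGroup.ker_mk' Q
  obtain ⟨P, hP⟩ : ∃ P : Sylow 2 (G ⧸ Q), P = S.mapSurjective hπs := ⟨_, rfl⟩
  have hPm : (P : Subgroup (G ⧸ Q)) = (S : Subgroup G).map π := by rw [hP, Sylow.coe_mapSurjective]
  have hPc : ∀ x : G, π x ∈ (P : Subgroup (G ⧸ Q)) → x ∈ (S : Subgroup G) := by
    intro x hx
    rw [hPm, ← mem_comap, comap_map_eq, hker, sup_eq_left.2 hQS] at hx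
    exact hx
  have hPne : (P : Subgroup (G ⧸ Q)) ≠ ⊥ := fun h' => hcQ (inf_le_left.trans fun x hx => hker ▸ (by
    rw [MonoidHom.mem_ker, ← mem_bot, ← h', hPm]; exact mem_map_of_mem π hx))
  have hnn : ∀ W : Subgroup (G ⧸ Q), W ≤ (P : Subgroup (G ⧸ Q)) → W.Normal → W = ⊥ := by
    intro W hWP hW
    haveI := hW
    haveI : (W.comap π).Normal := Subgroup.Normal.comap hW π
    have h1 : W.comap π ≤ Q := (CfsgLib.Core.le_pCore (S.2.to_le fun x hx => hPc x (hWP hx))).trans hQ.ge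
    rw [← map_comap_eq_self_of_surjective hπs W, Subgroup.map_eq_bot_iff, hker]
    exact h1
  have hz1 : zS (P : Subgroup (G ⧸ Q)) ≠ ⊥ := zS_ne_bot P.2 hPne
  obtain ⟨L₁, hL₁⟩ : ∃ L₁, L₁ = (centralizer (zS (P : Subgroup (G ⧸ Q)) : Set (G ⧸ Q))).comap π := ⟨_, rfl⟩
  obtain ⟨L₂, hL₂⟩ : ∃ L₂, L₂ = (normalizer (je (P : Subgroup (G ⧸ Q)) : Set (G ⧸ Q))).comap π := ⟨_, rfl⟩
  have hL₁top : L₁ ≠ ⊤ := by
    intro h'
    refine hz1 (hnn _ ((CfsgLib.PGroups.omegaOne_le _).trans inf_le_left) ⟨fun w hw x => ?_⟩)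
    obtain ⟨x, rfl⟩ := hπs x
    have hx : x ∈ L₁ := h'.ge (mem_top x)
    rw [hL₁, mem_comap] at hx
    rwa [← mem_centralizer_iff.1 hx w hw, mul_inv_cancel_right]
  have hL₂top : L₂ ≠ ⊤ := by
    intro h'
    refine hz1 (le_bot_iff.1 ((zS_le_je _).trans (hnn _ (je_le_self _) (normalizer_eq_top_iff.1 (eq_top_iff.2 fun x _ => ?_))).le))
    obtain ⟨x, rfl⟩ := hπs x
    have hx : x ∈ L₂ := h'.ge (mem_top x)
    rwa [hL₂, mem_comap] at hx
  have hSL₁ : (S : Subgroup G) ≤ L₁ := fun s hs => hL₁ ▸ mem_comap.2 (mem_centralizer_iff.2 fun w hw =>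
    (mem_centralizer_iff.1 (CfsgLib.PGroups.omegaOne_le _ hw).2 (π s) (hPm ▸ mem_map_of_mem π hs)).symm)
  have hSL₂ : (S : Subgroup G) ≤ L₂ := fun s hs =>
    hL₂ ▸ mem_comap.2 ((le_normalizer.trans (normalizer_je _)) (hPm ▸ mem_map_of_mem π hs))
  -- lifting the moves
  have lift : ∀ {A : Set (G ⧸ Q)} {k : G ⧸ Q}, RelPath (GenStep (P : Subgroup (G ⧸ Q))) A k →
      ∀ a ∈ (S : Subgroup G), π a ∈ A → (∀ z ∈ A, k⁻¹ * z * k ∈ (P : Subgroup (G ⧸ Q))) →
        ∃ k₀ : G, π k₀ = k ∧ k₀⁻¹ * a * k₀ ∈ (S : Subgroup G) ∧ (a ∈ B ↔ k₀⁻¹ * a * k₀ ∈ B) := by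
    intro A k hp
    induction hp with
    | one A => exact fun a ha _ _ => ⟨1, map_one π, by simpa using ha, by simp⟩
    | step A U x k hR hA hrest ihp =>
      intro a ha haA hfin
      obtain ⟨rfl, hx⟩ := hR
      obtain ⟨x, rfl⟩ := hπs x
      have hfin' : ∀ z ∈ (fun a => (π x)⁻¹ * a * π x) '' A, k⁻¹ * z * k ∈ (P : Subgroup (G ⧸ Q)) := by
        rintro _ ⟨z, hz, rfl⟩
        have := hfin z hz
        simpa [mul_assoc] using this
      have himg := start_subset (fun _ _ hh => hh.1) hrest hfin'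
      have hmem : π (x⁻¹ * a * x) ∈ (fun a => (π x)⁻¹ * a * π x) '' A := ⟨π a, haA, by simp⟩
      have hxa : x⁻¹ * a * x ∈ (S : Subgroup G) := hPc _ (himg hmem)
      obtain ⟨k₀, rfl, hk₀, hiff⟩ := ihp _ hxa hmem hfin'
      refine ⟨x * k₀, map_mul π x k₀, by simpa [mul_assoc] using hk₀, ?_⟩
      have hstep : a ∈ B ↔ x⁻¹ * a * x ∈ B := by
        rcases hx with hx | hx
        · exact hsub hL₁top hSL₁ x (hL₁ ▸ mem_comap.2 hx) a ha hxa
        · exact hsub hL₂top hSL₂ x (hL₂ ▸ mem_comap.2 hx) a ha hxa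
      rw [hstep, hiff]
      simp [mul_assoc]
  have move : ∀ (a y : G), a ∈ (S : Subgroup G) → y⁻¹ * a * y ∈ (S : Subgroup G) →
      ∃ y₀ : G, y₀⁻¹ * a * y₀ ∈ (S : Subgroup G) ∧ π (y₀⁻¹ * a * y₀) = π (y⁻¹ * a * y) ∧
        (a ∈ B ↔ y₀⁻¹ * a * y₀ ∈ B) := by
    intro a y ha hy
    have hy' : (π y)⁻¹ * π a * π y ∈ (P : Subgroup (G ⧸ Q)) := by
      rw [← map_inv, ← map_mul, ← map_mul]; exact hPm ▸ mem_map_of_mem π hy
    obtain ⟨k, hk, hkeq⟩ := generated _ (G ⧸ Q) le_rfl (h.quotient Q) P {π a} (π y)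
      (by rintro z rfl; exact hPm ▸ mem_map_of_mem π ha) (by rintro z rfl; exact hy')
    have he := hkeq _ rfl
    obtain ⟨k₀, rfl, hk₀, hiff⟩ := lift hk a ha rfl (by rintro z rfl; exact he ▸ hy')
    refine ⟨k₀, hk₀, ?_, hiff⟩
    simp only [map_mul, map_inv]
    exact he.symm
  -- a conjugate with a Sylow centralizer modulo `O₂(G)` inside `S`
  obtain ⟨L₃, hL₃⟩ : ∃ L₃, L₃ = (centralizer ({π b} : Set (G ⧸ Q))).comap π := ⟨_, rfl⟩
  have hbL : b ∈ L₃ := hL₃ ▸ mem_comap.2 (mem_centralizer_singleton_iff.2 rfl)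
  obtain ⟨P₃, hP₃⟩ := (S.2.comap_subtype (K := L₃)).exists_le_sylow
  obtain ⟨T, hT⟩ : ∃ T, T = (P₃ : Subgroup ↥L₃).map L₃.subtype := ⟨_, rfl⟩
  have hbT : b ∈ T := hT ▸ ⟨⟨b, hbL⟩, hP₃ (hB.le hb), rfl⟩
  have hTi : ¬ 2 ∣ T.relIndex L₃ := by
    rw [hT, relIndex, subgroupOf, comap_map_eq_self_of_injective L₃.subtype_injective]
    exact P₃.not_dvd_index
  obtain ⟨d, -, hd⟩ := CfsgLib.Transfer.exists_conj_le (N := (⊤ : Subgroup G)) S.2
    (by rw [relIndex_top_right]; exact S.not_dvd_index) (le_top : T ≤ ⊤) (hT ▸ P₃.2.map _)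
  obtain ⟨k, hkS, hkπ, hkB⟩ := move b d (hB.le hb) (hd b hbT)
  obtain ⟨b', hb'⟩ : ∃ b', b' = k⁻¹ * b * k := ⟨_, rfl⟩
  rw [← hb'] at hkS hkπ hkB
  have hb'B : b' ∈ B := hkB.1 hb
  obtain ⟨M, hM⟩ : ∃ M, M = (centralizer ({π b'} : Set (G ⧸ Q))).comap π := ⟨_, rfl⟩
  have hMd : ∀ x : G, x ∈ L₃ ↔ d⁻¹ * x * d ∈ M := by
    intro x
    rw [hL₃, hM, mem_comap, mem_comap, mem_centralizer_singleton_iff, mem_centralizer_singleton_iff, hkπ]
    simp only [map_mul, map_inv]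
    constructor
    · intro h1
      calc (π d)⁻¹ * π x * π d * ((π d)⁻¹ * π b * π d) = (π d)⁻¹ * (π x * π b) * π d := by group
        _ = (π d)⁻¹ * (π b * π x) * π d := by rw [h1]
        _ = _ := by group
    · intro h1
      calc π x * π b = π d * ((π d)⁻¹ * π x * π d * ((π d)⁻¹ * π b * π d)) * (π d)⁻¹ := by group
        _ = π d * ((π d)⁻¹ * π b * π d * ((π d)⁻¹ * π x * π d)) * (π d)⁻¹ := by rw [h1]
        _ = _ := by group
  obtain ⟨T₃, hT₃⟩ : ∃ T₃, T₃ = (S : Subgroup G) ⊓ M := ⟨_, rfl⟩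
  have hT₃i : ¬ 2 ∣ T₃.relIndex M := by
    have h1 : L₃.map (MulAut.conj d⁻¹).toMonoidHom = M := by
      ext y
      constructor
      · rintro ⟨x, hx, rfl⟩
        simpa using (hMd x).1 hx
      · intro hy
        exact ⟨d * y * d⁻¹, (hMd _).2 (by simpa [mul_assoc] using hy), by simp [mul_assoc]⟩
    have h2 : T.map (MulAut.conj d⁻¹).toMonoidHom ≤ T₃ := by
      rintro _ ⟨t, ht, rfl⟩
      rw [hT₃]
      exact mem_inf.2 ⟨by simpa using hd t ht, h1 ▸ mem_map_of_mem _ ((hT ▸ map_subtype_le (P₃ : Subgroup ↥L₃)) ht)⟩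
    intro h3
    refine hTi ?_
    rw [← relIndex_conj T L₃ d⁻¹, h1]
    exact h3.trans (relIndex_dvd_of_le_left M h2)
  obtain ⟨Z, hZ⟩ : ∃ Z, Z = closure {x : G | x ∈ M ∧ Odd (orderOf x)} := ⟨_, rfl⟩
  have hZb : Z ≤ centralizer ({b'} : Set G) := by
    rw [hZ, closure_le]
    rintro x ⟨hxM, hx⟩
    rw [hM, mem_comap, mem_centralizer_singleton_iff] at hxM
    have hWS : Q ⊔ zpowers b' ≤ (S : Subgroup G) := sup_le hQS (zpowers_le.2 hkS)
    have h1 := odd_two_step (W := Q ⊔ zpowers b') (le_sup_left : Q ≤ _) (S.2.to_le hWS) hx (fun w hw => by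
      have h2 : π w ∈ centralizer ({π x} : Set (G ⧸ Q)) := by
        have h3 : Q ⊔ zpowers b' ≤ (centralizer ({π x} : Set (G ⧸ Q))).comap π := sup_le
          (fun q hq => by
            rw [mem_comap, show π q = 1 from MonoidHom.mem_ker.1 (hker.ge hq)]; exact one_mem _)
          (zpowers_le.2 (mem_comap.2 (mem_centralizer_singleton_iff.2 hxM.symm)))
        exact h3 hw
      rw [mem_centralizer_singleton_iff] at h2
      rw [← hker, MonoidHom.mem_ker, map_mul, map_inv, map_mul, map_mul, map_inv, ← h2, mul_inv_cancel_right,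
        inv_mul_cancel]) (hodd x hx)
    exact mem_centralizer_singleton_iff.2 (mem_centralizer_iff.1 h1 b' (mem_sup_right (mem_zpowers b'))).symm
  have hdec : ∀ e ∈ M, ∃ t ∈ T₃, ∃ z ∈ Z, e = z * t := by
    intro e he
    obtain ⟨T', hT'⟩ : ∃ T' : Sylow 2 ↥M, (T' : Subgroup ↥M) = T₃.subgroupOf M :=
      ⟨((S.2.to_le (hT₃ ▸ inf_le_left)).comap_subtype).toSylow hT₃i, rfl⟩
    have hZn : (Z.subgroupOf M).Normal := by
      refine normal_subgroupOf_of_le_normalizer (le_normalizer_iff.2 fun m hm z hz => ?_)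
      have h1 : Z ≤ Z.comap (MulAut.conj m).toMonoidHom := by
        nth_rewrite 1 [hZ]
        rw [closure_le]
        rintro x ⟨hxM, hx⟩
        refine mem_comap.2 (hZ ▸ subset_closure ⟨?_, ?_⟩)
        · show m * x * m⁻¹ ∈ M
          exact mul_mem (mul_mem hm hxM) (M.inv_mem hm)
        · rwa [MulEquiv.coe_toMonoidHom, MulEquiv.orderOf_eq]
      exact h1 hz
    haveI := hZn
    have htop := eq_top_of_odd_sylow T' (M := Z.subgroupOf M ⊔ (T' : Subgroup ↥M)) le_sup_right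
      fun x hx => mem_sup_left (mem_subgroupOf.2 (hZ ▸ subset_closure ⟨x.2, by rwa [Subgroup.orderOf_coe]⟩))
    obtain ⟨z, hz, t, ht, hzt⟩ := mem_sup_of_normal_left.1 (htop.ge (mem_top (⟨e, he⟩ : ↥M)))
    exact ⟨t, hT'.le ht, z, hz, (congrArg Subtype.val hzt).symm⟩
  -- the final step
  obtain ⟨a, ha⟩ : ∃ a, a = g⁻¹ * b * g := ⟨_, rfl⟩
  rw [← ha] at hgb ⊢
  have hy : (g⁻¹ * k)⁻¹ * a * (g⁻¹ * k) = b' := by rw [ha, hb']; group
  obtain ⟨y, hyS, hyπ, hyB⟩ := move a (g⁻¹ * k) hgb (hy.symm ▸ hkS)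
  rw [hy] at hyπ
  obtain ⟨e, he⟩ : ∃ e, e = (g⁻¹ * k)⁻¹ * y := ⟨_, rfl⟩
  have hae : y⁻¹ * a * y = e⁻¹ * b' * e := by rw [he, ← hy]; group
  have heM : e ∈ M := by
    rw [hM, mem_comap, mem_centralizer_singleton_iff]
    rw [hae, map_mul, map_mul, map_inv] at hyπ
    calc π e * π b' = π e * ((π e)⁻¹ * π b' * π e) := by rw [hyπ]
      _ = _ := by group
  obtain ⟨t, ht, z, hz, rfl⟩ := hdec e heM
  refine hyB.2 ?_
  rw [hae]
  have hzb : z⁻¹ * b' * z = b' := by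
    rw [mul_assoc, ← mem_centralizer_singleton_iff.1 (hZb hz), inv_mul_cancel_left]
  rw [show (z * t)⁻¹ * b' * (z * t) = t⁻¹ * (z⁻¹ * b' * z) * t by group, hzb]
  exact (mem_normalizer_iff''.1 (hB.norm (hT₃ ▸ ht : t ∈ (S : Subgroup G) ⊓ M).1) b').1 hb'B

end CfsgLib.LocalEven.Factor
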