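import Cfsg.Agent.Lib.LocalEven.Factor.Sections

/-!
# Fusion is generated by `C(Ω₁(Z(S)))` and `N(J_e(S))`

* `GenStep`, `Fus`
* `fus_of_steps`, `gen_sub`, `generated`
-/

set_option autoImplicit false
set_option linter.all false

namespace CfsgLib.LocalEven.Factor

open Subgroup CfsgLib.Techniques
open scoped commutatorElement

universe u

variable {G : Type u} [Group G]

/-- a move inside `S` by an element of one of the two generating subgroups -/
def GenStep (S : Subgroup G) : Subgroup G → G → Prop :=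
  fun T x => T = S ∧ (x ∈ centralizer (zS S : Set G) ∨ x ∈ normalizer (je S : Set G))

/-- conjugation by `g` on `X` is a composite of moves -/
def Fus (S : Subgroup G) (X : Set G) (g : G) : Prop :=
  ∃ g', RelPath (GenStep S) X g' ∧ ∀ a ∈ X, g⁻¹ * a * g = g'⁻¹ * a * g'

theorem Fus.one (S : Subgroup G) (X : Set G) : Fus S X 1 := ⟨1, .one _, fun _ _ => rfl⟩

theorem Fus.of_gen {S : Subgroup G} {X : Set G} {x : G} (hX : X ⊆ (S : Set G))
    (hx : x ∈ centralizer (zS S : Set G) ∨ x ∈ normalizer (je S : Set G)) : Fus S X x :=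
  ⟨x, RelPath.single (R := GenStep S) ⟨rfl, hx⟩ hX, fun _ _ => rfl⟩

theorem Fus.mono {S : Subgroup G} {X Y : Set G} {g : G} (h : Fus S X g) (hY : Y ⊆ X) : Fus S Y g := by
  obtain ⟨g', hp, he⟩ := h
  exact ⟨g', hp.mono _ hY, fun a ha => he a (hY ha)⟩

theorem Fus.congr {S : Subgroup G} {X : Set G} {g k : G} (h : Fus S X g)
    (he : ∀ a ∈ X, k⁻¹ * a * k = g⁻¹ * a * g) : Fus S X k := by
  obtain ⟨g', hp, he'⟩ := h
  exact ⟨g', hp, fun a ha => (he a ha).trans (he' a ha)⟩

theorem Fus.trans {S : Subgroup G} {X : Set G} {g k : G} (h : Fus S X g)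
    (h' : Fus S ((fun a => g⁻¹ * a * g) '' X) k) : Fus S X (g * k) := by
  obtain ⟨g', hp, he⟩ := h
  obtain ⟨k', hq, hk⟩ := h'
  rw [Set.image_congr he] at hq
  refine ⟨g' * k', hp.trans hq, fun a ha => ?_⟩
  calc (g * k)⁻¹ * a * (g * k) = k⁻¹ * (g⁻¹ * a * g) * k := by group
    _ = k'⁻¹ * (g⁻¹ * a * g) * k' := hk _ ⟨a, ha, rfl⟩
    _ = _ := by rw [he a ha]; group

theorem zS_map {H : Type u} [Group H] (f : H →* G) (hf : Function.Injective f) (T : Subgroup H) :
    (zS T).map f = zS (T.map f) := by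
  rw [zS, zS, CfsgLib.PGroups.omegaOne_map _ hf, map_inf_centralizer f hf]

theorem normalizer_zS (T : Subgroup G) : normalizer (T : Set G) ≤ normalizer (zS T : Set G) := by
  intro g hg
  rw [mem_normalizer_iff_map_conj_eq] at hg ⊢
  have h := zS_map (MulAut.conj g).toMonoidHom (MulAut.conj g).injective T
  rw [show T.map (MulAut.conj g).toMonoidHom = T from hg] at h
  exact h

theorem zS_le_je [Finite G] (T : Subgroup G) : zS T ≤ je T := by
  obtain ⟨A, hA⟩ := exists_maxEl T
  refine le_trans ?_ (le_je hA)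
  rw [zS, Cfsg.omegaOne, Subgroup.closure_le]
  rintro z ⟨⟨hzT, hzC⟩, hz2⟩
  have hze : Cfsg.IsElementaryAbelian 2 (zpowers z) := by
    refine ⟨inferInstance, fun w hw => ?_⟩
    obtain ⟨i, rfl⟩ := mem_zpowers_iff.1 hw
    have hz2' : z ^ (2 : ℤ) = 1 := by rw [zpow_ofNat]; exact hz2
    rw [← zpow_natCast, ← zpow_mul, mul_comm, zpow_mul]
    exact (congrArg (· ^ i) hz2').trans (one_zpow i)
  have hc : A ≤ centralizer ((zpowers z : Subgroup G) : Set G) := by
    rw [le_centralizer_iff, zpowers_le]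
    exact mem_centralizer_iff.2 fun x hx => mem_centralizer_iff.1 hzC x (hA.1 hx)
  exact (eq_of_le_of_card_ge (H := A) (K := A ⊔ zpowers z) le_sup_left
    (hA.2.2 _ (sup_le hA.1 (zpowers_le.2 hzT)) (elem_sup hA.2.1 hze hc))).ge (mem_sup_right (mem_zpowers z))

/-- the centre of `S` reaches the centre of every centric subgroup -/
theorem zS_le_zS {S T : Subgroup G} (hTS : T ≤ S) (hc : S ⊓ centralizer (T : Set G) ≤ T) : zS S ≤ zS T := by
  rw [zS, Cfsg.omegaOne, Subgroup.closure_le]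
  rintro z ⟨⟨hzS, hzC⟩, hz2⟩
  have h1 : z ∈ centralizer (T : Set G) := centralizer_le (SetLike.coe_subset_coe.2 hTS) hzC
  exact CfsgLib.PGroups.mem_omegaOne (mem_inf.2 ⟨hc ⟨hzS, h1⟩, h1⟩) hz2

variable [Finite G]

theorem card_closure_conj (X : Set G) (x : G) :
    Nat.card ↥(closure ((fun a => x⁻¹ * a * x) '' X)) = Nat.card ↥(closure X) := by
  have h : closure ((fun a => x⁻¹ * a * x) '' X) = (closure X).map (MulAut.conj x⁻¹).toMonoidHom := by
    rw [MonoidHom.map_closure]
    congr 1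
    exact Set.image_congr fun a _ => by simp
  rw [h, card_map_of_injective (MulAut.conj x⁻¹).injective]

/-- fusion from the moves inside normalizers of centric subgroups -/
theorem fus_of_steps (S : Sylow 2 G) (m : ℕ)
    (hstep : ∀ (H : Subgroup G) (x : G), H ≤ (S : Subgroup G) → (S : Subgroup G) ⊓ centralizer (H : Set G) ≤ H →
      m ≤ Nat.card H → x ∈ normalizer (H : Set G) → ∀ X : Set G, X ⊆ (H : Set G) → Fus (S : Subgroup G) X x)
    {X : Set G} {g : G} (hX : X ⊆ (S : Subgroup G)) (hg : ∀ a ∈ X, g⁻¹ * a * g ∈ (S : Subgroup G))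
    (hm : m ≤ Nat.card ↥(closure X)) : Fus (S : Subgroup G) X g := by
  haveI : Fact (Nat.Prime 2) := ⟨Nat.prime_two⟩
  obtain ⟨c, g', y, hc, hy, hp, rfl⟩ := LocalEvenB.exists_strong_alperin_path S hX (g := g) (by
    rintro _ ⟨a, ha, rfl⟩; exact hg a ha)
  have key : ∀ {A : Set G} {k : G}, RelPath (LocalEvenB.AlperinStep 2 (S : Subgroup G)) A k →
      m ≤ Nat.card ↥(closure A) → Fus (S : Subgroup G) A k := by
    intro A k h
    induction h with
    | one A => exact fun _ => Fus.one _ _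
    | step A H x k hR hA _ ih =>
      intro hm
      exact (hstep H x hR.1 hR.2.2.1 (hm.trans (card_le_of_le ((closure_le _).2 hA))) (by
        obtain ⟨Y, ⟨-, hY, -⟩, hx⟩ := hR.2.2.2.2.2
        exact hY (map_subtype_le _ hx)) A hA).trans (ih (by rwa [card_closure_conj]))
  have hagree : ∀ a ∈ X, (c * g' * y)⁻¹ * a * (c * g' * y) = (g' * y)⁻¹ * a * (g' * y) := fun a ha => by
    rw [show (c * g' * y)⁻¹ * a * (c * g' * y) = (g' * y)⁻¹ * (c⁻¹ * (a * c)) * (g' * y) by group,
      mem_centralizer_iff.1 hc a ha, inv_mul_cancel_left]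
  refine ((key hp hm).trans (Fus.of_gen ?_ (Or.inr (normalizer_je _ hy)))).congr hagree
  rintro _ ⟨a, ha, rfl⟩
  have h1 := hagree a ha ▸ hg a ha
  refine (mem_normalizer_iff''.1 hy (g'⁻¹ * a * g')).2 ?_
  simpa [mul_assoc] using h1

/-- the moves inside a proper subgroup -/
theorem gen_sub (h : Local G)
    (ih : ∀ (H : Type u) [Group H] [Finite H], Nat.card H < Nat.card G → Local H →
      ∀ (P : Sylow 2 H) (X : Set H) (g : H), X ⊆ (P : Subgroup H) → (∀ a ∈ X, g⁻¹ * a * g ∈ (P : Subgroup H)) →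
        Fus (P : Subgroup H) X g)
    {L T : Subgroup G} (hlt : L ≠ ⊤) (hTL : T ≤ L) (hT : IsPGroup 2 T) (hTi : ¬ 2 ∣ T.relIndex L)
    {X : Set G} {g : G} (hX : X ⊆ (T : Set G)) (hgL : g ∈ L) (hg : ∀ a ∈ X, g⁻¹ * a * g ∈ T) :
    ∃ g', RelPath (fun U x => U = T ∧ x ∈ L ∧ (x ∈ centralizer (zS T : Set G) ∨ x ∈ normalizer (je T : Set G))) X g' ∧
      ∀ a ∈ X, g⁻¹ * a * g = g'⁻¹ * a * g' := by
  haveI : Fact (Nat.Prime 2) := ⟨Nat.prime_two⟩
  obtain ⟨P, hP⟩ : ∃ P : Sylow 2 ↥L, (P : Subgroup ↥L) = T.subgroupOf L := ⟨(hT.comap_subtype).toSylow hTi, rfl⟩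
  have hPm : (P : Subgroup ↥L).map L.subtype = T := by rw [hP, subgroupOf_map_subtype, inf_eq_left.2 hTL]
  have hcard : Nat.card ↥L < Nat.card G := (card_le_card_group L).lt_of_ne fun he => hlt (eq_top_of_card_eq L he)
  obtain ⟨k, hk, he⟩ := ih ↥L hcard (h.subgroup L) P (L.subtype ⁻¹' X) ⟨g, hgL⟩
    (fun a ha => hP.ge (mem_subgroupOf.2 (hX ha))) (fun a ha => hP.ge (mem_subgroupOf.2 (hg (a : G) ha)))
  have key : ∀ {A : Set ↥L} {k : ↥L}, RelPath (GenStep (P : Subgroup ↥L)) A k →
      RelPath (fun U x => U = T ∧ x ∈ L ∧ (x ∈ centralizer (zS T : Set G) ∨ x ∈ normalizer (je T : Set G)))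
        (L.subtype '' A) (k : G) := by
    intro A k h
    induction h with
    | one A => exact .one _
    | step A U x k hR hA _ ihh =>
      obtain ⟨rfl, hx⟩ := hR
      refine .step _ T (x : G) (k : G) ⟨rfl, x.2, ?_⟩ ?_ ?_
      · rcases hx with hx | hx
        · refine Or.inl ?_
          rw [← hPm, ← zS_map L.subtype L.subtype_injective]
          exact (map_mem_centralizer_iff L.subtype L.subtype_injective x _).2 hx
        · refine Or.inr ?_
          rw [← hPm, ← je_map L.subtype L.subtype_injective]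
          exact le_normalizer_map L.subtype ⟨x, hx, rfl⟩
      · rintro _ ⟨a, ha, rfl⟩
        exact hPm.le ⟨a, hA ha, rfl⟩
      · rw [Set.image_image] at ihh ⊢
        exact ihh
  refine ⟨k, (key hk).mono _ ?_, fun a ha => ?_⟩
  · exact fun a ha => ⟨⟨a, hTL (hX ha)⟩, ha, rfl⟩
  · exact congrArg Subtype.val (he ⟨a, hTL (hX ha)⟩ ha)

theorem start_subset {R : Subgroup G → G → Prop} {T : Subgroup G} (hR : ∀ U x, R U x → U = T) {A : Set G} {k : G}
    (h : RelPath R A k) (hfin : ∀ a ∈ A, k⁻¹ * a * k ∈ T) : A ⊆ (T : Set G) := by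
  induction h with
  | one A => intro a ha; simpa using hfin a ha
  | step A U x g hU hA _ _ => exact hR _ _ hU ▸ hA

/-- fusion in a group whose sections are restricted is generated by the two subgroups -/
theorem generated : ∀ (n : ℕ) (G : Type u) [Group G] [Finite G], Nat.card G ≤ n → Local G →
    ∀ (S : Sylow 2 G) (X : Set G) (g : G), X ⊆ (S : Subgroup G) → (∀ a ∈ X, g⁻¹ * a * g ∈ (S : Subgroup G)) →
      Fus (S : Subgroup G) X g := by
  intro n
  induction n with
  | zero => intro G _ _ h; exact absurd h (not_le.2 Nat.card_pos)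
  | succ n ihn =>
  intro G _ _ hn h S X g hX hg
  haveI : Fact (Nat.Prime 2) := ⟨Nat.prime_two⟩
  have ih : ∀ (H : Type u) [Group H] [Finite H], Nat.card H < Nat.card G → Local H →
      ∀ (P : Sylow 2 H) (X : Set H) (g : H), X ⊆ (P : Subgroup H) → (∀ a ∈ X, g⁻¹ * a * g ∈ (P : Subgroup H)) →
        Fus (P : Subgroup H) X g := fun H _ _ hlt hH => ihn H (by omega) hH
  have htop : ∀ {L : Subgroup G}, L ≠ ⊤ → (S : Subgroup G) ≤ L → ∀ {X : Set G} {g : G}, X ⊆ (S : Subgroup G) →
      g ∈ L → (∀ a ∈ X, g⁻¹ * a * g ∈ (S : Subgroup G)) → Fus (S : Subgroup G) X g := by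
    intro L hlt hSL X g hX hgL hg
    obtain ⟨g', hp, he⟩ := gen_sub h ih hlt hSL S.2 (sylow_relIndex_not_dvd S hSL) hX hgL hg
    refine ⟨g', ?_, he⟩
    clear he hg hX
    induction hp with
    | one A => exact .one _
    | step A U x k hR hA _ ihp => exact .step _ U x k ⟨hR.1, hR.2.2⟩ hA ihp
  obtain ⟨z, hz⟩ : ∃ z, z = zS (S : Subgroup G) := ⟨_, rfl⟩
  have hzC : ∀ {H : Subgroup G}, (S : Subgroup G) ⊓ centralizer (H : Set G) ≤ H → H ≤ (S : Subgroup G) → z ≤ H := by
    intro H hc hHS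
    rw [hz]
    refine le_trans ((zS_le_zS hHS hc).trans ?_) le_rfl
    exact (CfsgLib.PGroups.omegaOne_le _).trans inf_le_left
  by_cases hzQ : z ≤ Cfsg.pCore 2 G
  · obtain ⟨Q, hQ⟩ : ∃ Q, Q = Cfsg.pCore 2 G := ⟨_, rfl⟩
    haveI : Q.Normal := hQ ▸ inferInstance
    have hQ2 : IsPGroup 2 Q := hQ ▸ CfsgLib.Core.isPGroup_pCore 2 G
    rw [← hQ] at hzQ
    have hQS : Q ≤ (S : Subgroup G) := hQ ▸ CfsgLib.Core.pCore_le_sylow S
    -- a normal subgroup centralizing `z`
    suffices main : ∃ C : Subgroup G, C.Normal ∧ C ≤ centralizer (z : Set G) ∧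
        ((normalizer ((C ⊓ (S : Subgroup G) : Subgroup G) : Set G)) ≠ ⊤ ∨
          normalizer ((C ⊓ (S : Subgroup G) : Subgroup G) : Set G) ≤ normalizer (je (S : Subgroup G) : Set G)) by
      obtain ⟨C, hCn, hCz, hN⟩ := main
      haveI := hCn
      obtain ⟨c, hc, m, hm, rfl, hcX⟩ := conj_adjust S C hX hg
      refine (Fus.of_gen hX (Or.inl (hz ▸ hCz hc))).trans ?_
      have hsub : (fun a => c⁻¹ * a * c) '' X ⊆ (S : Subgroup G) := by rintro _ ⟨a, ha, rfl⟩; exact hcX a ha
      rcases hN with hN | hN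
      · refine htop hN (le_normalizer_iff.2 fun s hs x hx => mem_inf.2 ⟨hCn.conj_mem x hx.1 s,
          mul_mem (mul_mem hs hx.2) ((S : Subgroup G).inv_mem hs)⟩) hsub hm ?_
        rintro _ ⟨a, ha, rfl⟩
        have := hg a ha
        simpa [mul_assoc] using this
      · exact Fus.of_gen hsub (Or.inr (hN hm))
    by_cases hcQ : (S : Subgroup G) ⊓ centralizer (Q : Set G) ≤ Q
    · -- constrained modulo the odd core
      obtain ⟨O, hOn, hOc, hOQ, hH⟩ := h.hyp_quot S hQ2 hcQ
      obtain ⟨π, hπ⟩ : ∃ π, π = QuotientGroup.mk' O := ⟨_, rfl⟩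
      have hπs : Function.Surjective π := hπ ▸ QuotientGroup.mk'_surjective O
      obtain ⟨V, hVn, hVe, hVS, hCn, hO, hCZ⟩ := exists_reduced hH (S.mapSurjective hπs)
      haveI := hVn
      have hJ := (reduced_le hH ((S.mapSurjective hπs : Sylow 2 (G ⧸ O)) : Subgroup (G ⧸ O)) hVS hVe hO).1
      obtain ⟨C, hC⟩ : ∃ C, C = (centralizer (V : Set (G ⧸ O))).comap π := ⟨_, rfl⟩
      haveI : C.Normal := hC ▸ inferInstance
      have hdisj : Disjoint (S : Subgroup G) π.ker := by
        rw [hπ, QuotientGroup.ker_mk', disjoint_iff]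
        obtain ⟨k, hk⟩ := IsPGroup.iff_card.1 S.2
        exact inf_eq_bot_of_coprime (by rw [hk]; exact (hOc.pow_right k).symm)
      refine ⟨C, inferInstance, ?_, Or.inr ?_⟩
      · intro c hc
        rw [hC, mem_comap] at hc
        rw [hz]
        refine mem_centralizer_iff.2 fun w hw => ?_
        have hwS : w ∈ (S : Subgroup G) ⊓ centralizer ((S : Subgroup G) : Set G) := CfsgLib.PGroups.omegaOne_le _ hw
        have h1 := mem_centralizer_iff.1 (hCZ hc) (π w) (by
          refine mem_inf.2 ⟨Sylow.coe_mapSurjective hπs S ▸ mem_map_of_mem π hwS.1, ?_⟩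
          rw [Sylow.coe_mapSurjective]
          refine mem_centralizer_iff.2 ?_
          rintro _ ⟨s, hs, rfl⟩
          rw [← map_mul, ← map_mul, mem_centralizer_iff.1 hwS.2 s hs])
        rw [← map_mul, ← map_mul] at h1
        have h2 : w * c * (c * w)⁻¹ ∈ O := by
          rw [← QuotientGroup.eq_one_iff]
          show QuotientGroup.mk' O _ = 1
          rw [← hπ, map_mul, h1, map_inv, mul_inv_cancel]
        have h3 : w * c * (c * w)⁻¹ ∈ Q := by
          rw [show w * c * (c * w)⁻¹ = w * (c * w⁻¹ * c⁻¹) by group]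
          exact mul_mem (hzQ (hz ▸ hw)) ((inferInstance : Q.Normal).conj_mem _ (inv_mem (hzQ (hz ▸ hw))) c)
        have h4 : Disjoint Q O := disjoint_iff.2 (inf_eq_bot_of_coprime (by
          obtain ⟨k, hk⟩ := IsPGroup.iff_card.1 hQ2
          rw [hk]; exact (hOc.pow_right k).symm))
        exact mul_inv_eq_one.1 (disjoint_def.1 h4 h3 h2)
      · intro m hm
        have hJC : je (S : Subgroup G) ≤ C := by
          refine je_le fun A hA => ?_
          rw [hC, ← map_le_iff_le_comap]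
          refine le_trans (le_je ?_) (Sylow.coe_mapSurjective hπs S ▸ hJ)
          have hinj : Function.Injective (π.comp (S : Subgroup G).subtype) := by
            rw [injective_iff_map_eq_one]
            intro s hs
            exact Subtype.ext (disjoint_def.1 hdisj s.2 (MonoidHom.mem_ker.2 hs))
          refine ⟨map_mono hA.1, PLocal.elementary_map π hA.2.1, fun B hB hBe => ?_⟩
          obtain ⟨B₀, rfl⟩ : ∃ B₀ : Subgroup ↥(S : Subgroup G), B₀.map (π.comp (S : Subgroup G).subtype) = B :=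
            ⟨B.comap _, map_comap_eq_self (hB.trans (by rw [MonoidHom.range_comp, range_subtype]))⟩
          have hB₀ := PLocal.elementary_comap _ hinj hBe
          rw [comap_map_eq_self_of_injective hinj] at hB₀
          rw [card_map_of_injective hinj, ← card_map_of_injective (K := B₀) (S : Subgroup G).subtype_injective]
          refine (hA.2.2 _ (map_subtype_le _) (PLocal.elementary_map _ hB₀)).trans (le_of_eq ?_)
          rw [← inf_eq_left.2 hA.1, ← subgroupOf_map_subtype, Subgroup.map_map, card_map_of_injective hinj,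
            card_map_of_injective (S : Subgroup G).subtype_injective]
        rw [← je_mono_eq (T := (S : Subgroup G)) inf_le_right (le_inf hJC (je_le_self _))]
        exact normalizer_je _ hm
    · refine ⟨centralizer (Q : Set G), inferInstance, centralizer_le (SetLike.coe_subset_coe.2 hzQ), Or.inl ?_⟩
      intro htop'
      rw [normalizer_eq_top_iff] at htop'
      refine hcQ ((inf_comm _ _).le.trans ?_)
      rw [hQ] at *
      exact CfsgLib.Core.le_pCore (S.2.to_le inf_le_right)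
  -- no subgroup containing `z` is normal
  have hnn : ∀ {W : Subgroup G}, W ≤ (S : Subgroup G) → z ≤ W → ¬ W.Normal := fun {W} hWS hzW hW => hzQ
    (haveI := hW; hzW.trans (CfsgLib.Core.le_pCore (S.2.to_le hWS)))
  have claim : ∀ (k : ℕ) (W : Subgroup G),
      Nat.card (S : Subgroup G) - Nat.card ↥((S : Subgroup G) ⊓ normalizer (W : Set G)) < k →
      W ≤ (S : Subgroup G) → ¬ W.Normal → ∀ (X : Set G) (g : G), g ∈ normalizer (W : Set G) →
      X ⊆ ((S : Subgroup G) ⊓ normalizer (W : Set G) : Subgroup G) →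
      (∀ a ∈ X, g⁻¹ * a * g ∈ (S : Subgroup G) ⊓ normalizer (W : Set G)) → Fus (S : Subgroup G) X g := by
    intro k
    induction k with
    | zero => intro W hW; omega
    | succ k ihk =>
    intro W hk hWS hWn X g hgN hX hg
    obtain ⟨L, hL⟩ : ∃ L, L = normalizer (W : Set G) := ⟨_, rfl⟩
    obtain ⟨T, hT⟩ : ∃ T, T = (S : Subgroup G) ⊓ L := ⟨_, rfl⟩
    rw [← hL, ← hT] at hk hX hg
    rw [← hL] at hgN
    have hLlt : L ≠ ⊤ := fun he => hWn (normalizer_eq_top_iff.1 (hL ▸ he))
    have hTS : T ≤ (S : Subgroup G) := hT ▸ inf_le_left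
    have hWT : W ≤ T := hT ▸ le_inf hWS (hL ▸ le_normalizer)
    by_cases hSL : (S : Subgroup G) ≤ L
    · exact htop hLlt hSL (hX.trans hTS) hgN fun a ha => hTS (hg a ha)
    have hTlt : T < (S : Subgroup G) := hTS.lt_of_ne fun he => hSL (he ▸ hT ▸ inf_le_right)
    have hTm : Nat.card T < Nat.card (S : Subgroup G) := CfsgLib.Transfer.card_lt_of_lt hTlt
    -- subgroups with larger normalizers
    have hbig : ∀ (W' : Subgroup G), W' ≤ (S : Subgroup G) → ¬ W'.Normal →
        Nat.card T < Nat.card ↥((S : Subgroup G) ⊓ normalizer (W' : Set G)) → ∀ (X : Set G) (g : G),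
        g ∈ normalizer (W' : Set G) → X ⊆ ((S : Subgroup G) ⊓ normalizer (W' : Set G) : Subgroup G) →
        (∀ a ∈ X, g⁻¹ * a * g ∈ (S : Subgroup G) ⊓ normalizer (W' : Set G)) → Fus (S : Subgroup G) X g :=
      fun W' hW' hn' hlt' => ihk W' (by omega) hW' hn'
    by_cases hTi : 2 ∣ T.relIndex L
    · -- move a larger `2`-subgroup into `S`
      obtain ⟨P₀, hP₀⟩ := (S.2.to_le hTS).comap_subtype (K := L) |>.exists_le_sylow
      obtain ⟨P, hP⟩ : ∃ P, P = (P₀ : Subgroup ↥L).map L.subtype := ⟨_, rfl⟩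
      have hTP : T ≤ P := fun t ht => hP ▸ ⟨⟨t, (hT ▸ ht : t ∈ (S : Subgroup G) ⊓ L).2⟩, hP₀ ht, rfl⟩
      have hTPlt : Nat.card T < Nat.card P := (card_le_of_le hTP).lt_of_ne fun he => by
        have h1 := eq_of_le_of_card_ge hTP he.ge
        refine P₀.not_dvd_index ?_
        rwa [h1, hP, relIndex, subgroupOf, comap_map_eq_self_of_injective L.subtype_injective] at hTi
      obtain ⟨d, -, hd⟩ := CfsgLib.Transfer.exists_conj_le (N := (⊤ : Subgroup G)) S.2
        (by rw [relIndex_top_right]; exact S.not_dvd_index) (le_top : P ≤ ⊤) (hP ▸ P₀.2.map _)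
      have halp : ∀ {Y : Set G} {y : G} (U : Subgroup G), Y ⊆ (U : Set G) → Nat.card U = Nat.card T →
          U ≤ (S : Subgroup G) → (∀ u ∈ U, y⁻¹ * u * y ∈ (S : Subgroup G)) → Fus (S : Subgroup G) Y y := by
        intro Y y U hYU hUc hUS hy
        refine (fus_of_steps S (Nat.card T) (fun H x hHS hc hm hx Z hZ => ?_) (X := (U : Set G)) hUS hy
          (by rw [closure_eq]; exact hUc.ge)).mono hYU
        rcases hHS.lt_or_eq with hlt' | rfl
        · refine hbig H hHS (hnn hHS (hzC hc hHS)) ?_ Z x hx (hZ.trans fun a ha => ⟨hHS ha, le_normalizer ha⟩)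
            fun a ha => ⟨hHS ((mem_normalizer_iff''.1 hx a).1 (hZ ha)), le_normalizer ((mem_normalizer_iff''.1 hx a).1 (hZ ha))⟩
          exact hm.trans_lt (CfsgLib.Transfer.card_lt_of_lt (CfsgLib.Transfer.lt_inf_normalizer S.2 hlt'))
        · exact Fus.of_gen hZ (Or.inr (normalizer_je _ hx))
      obtain ⟨W', hW'⟩ : ∃ W', W' = W.map (MulAut.conj d⁻¹).toMonoidHom := ⟨_, rfl⟩
      obtain ⟨T', hT'⟩ : ∃ T', T' = T.map (MulAut.conj d⁻¹).toMonoidHom := ⟨_, rfl⟩
      have hconjS : ∀ t ∈ P, d⁻¹ * t * d ∈ (S : Subgroup G) := hd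
      have hPN : ∀ t ∈ P, d⁻¹ * t * d ∈ normalizer (W' : Set G) := fun t ht => by
        have htL : t ∈ normalizer (W : Set G) := hL ▸ (hP ▸ map_subtype_le (P₀ : Subgroup ↥L)) ht
        rw [hW']
        have := le_normalizer_map (MulAut.conj d⁻¹).toMonoidHom ⟨t, htL, rfl⟩
        simpa using this
      have hW'S : W' ≤ (S : Subgroup G) := by
        rw [hW']; rintro _ ⟨w, hw, rfl⟩
        simpa using hconjS w (hTP (hWT hw))
      have hW'n : ¬ W'.Normal := fun hn' => hWn (by
        haveI := hn'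
        have h1 : W = W'.map (MulAut.conj d).toMonoidHom := by
          rw [hW', Subgroup.map_map]
          conv_lhs => rw [← Subgroup.map_id W]
          congr 1; ext x; simp [mul_assoc]
        exact h1 ▸ Subgroup.Normal.map hn' _ (MulAut.conj d).surjective)
      have hW'big : Nat.card T < Nat.card ↥((S : Subgroup G) ⊓ normalizer (W' : Set G)) := by
        refine hTPlt.trans_le ?_
        rw [← card_map_of_injective (K := P) (f := (MulAut.conj d⁻¹).toMonoidHom) (MulAut.conj d⁻¹).injective]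
        refine card_le_of_le ?_
        rintro _ ⟨t, ht, rfl⟩
        exact mem_inf.2 ⟨by simpa using hconjS t ht, by simpa using hPN t ht⟩
      have f1 : Fus (S : Subgroup G) X d := halp T hX rfl hTS fun u hu => hconjS u (hTP hu)
      have f2 : Fus (S : Subgroup G) ((fun a => d⁻¹ * a * d) '' X) (d⁻¹ * g * d) := by
        refine hbig W' hW'S hW'n hW'big _ _ ?_ ?_ ?_
        · rw [hW']
          have := le_normalizer_map (MulAut.conj d⁻¹).toMonoidHom ⟨g, hL ▸ hgN, rfl⟩
          simpa using this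
        · rintro _ ⟨a, ha, rfl⟩
          exact ⟨hconjS a (hTP (hX ha)), hPN a (hTP (hX ha))⟩
        · rintro _ ⟨a, ha, rfl⟩
          have e : (d⁻¹ * g * d)⁻¹ * (d⁻¹ * a * d) * (d⁻¹ * g * d) = d⁻¹ * (g⁻¹ * a * g) * d := by group
          rw [e]
          exact ⟨hconjS _ (hTP (hg a ha)), hPN _ (hTP (hg a ha))⟩
      have f3 : Fus (S : Subgroup G) ((fun a => (d * (d⁻¹ * g * d))⁻¹ * a * (d * (d⁻¹ * g * d))) '' X) d⁻¹ := by
        refine halp T' ?_ (by rw [hT', card_map_of_injective (MulAut.conj d⁻¹).injective]) ?_ ?_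
        · rintro _ ⟨a, ha, rfl⟩
          rw [hT']
          exact ⟨g⁻¹ * a * g, hg a ha, by simp [mul_assoc]⟩
        · rw [hT']; rintro _ ⟨t, ht, rfl⟩
          simpa using hconjS t (hTP ht)
        · rw [hT']; rintro _ ⟨t, ht, rfl⟩
          simpa [mul_assoc] using hTS ht
      have f := (f1.trans f2).trans f3
      rwa [show d * (d⁻¹ * g * d) * d⁻¹ = g by group] at f
    -- `T` is a Sylow subgroup of `L`
    obtain ⟨g', hp, he⟩ := gen_sub h ih hLlt (hT ▸ inf_le_right) (S.2.to_le hTS) hTi hX hgN hg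
    refine Fus.congr (g := g') ?_ he
    have hc : (S : Subgroup G) ⊓ centralizer (T : Set G) ≤ T := fun x hx => hT ▸ mem_inf.2 ⟨hx.1, hL ▸
      centralizer_le_normalizer _ (centralizer_le (SetLike.coe_subset_coe.2 hWT) hx.2)⟩
    have hzT : z ≤ zS T := hz ▸ zS_le_zS hTS hc
    have hgrow : Nat.card T < Nat.card ↥((S : Subgroup G) ⊓ normalizer (T : Set G)) :=
      CfsgLib.Transfer.card_lt_of_lt (CfsgLib.Transfer.lt_inf_normalizer S.2 hTlt)
    have hfin : ∀ a ∈ X, g'⁻¹ * a * g' ∈ T := fun a ha => he a ha ▸ hg a ha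
    clear he hg hgN hX
    induction hp with
    | one A => exact Fus.one _ _
    | step A U x k hR hA hrest ihp =>
      obtain ⟨rfl, hxL, hx⟩ := hR
      have hfin' : ∀ a ∈ (fun a => x⁻¹ * a * x) '' A, k⁻¹ * a * k ∈ U := by
        rintro _ ⟨a, ha, rfl⟩
        have := hfin a ha
        simpa [mul_assoc] using this
      have himg := start_subset (fun _ _ hh => hh.1) hrest hfin'
      refine Fus.trans ?_ (ihp hfin')
      have step : ∀ W' : Subgroup G, z ≤ W' → W' ≤ U → normalizer (U : Set G) ≤ normalizer (W' : Set G) →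
          x ∈ normalizer (W' : Set G) → Fus (S : Subgroup G) A x := by
        intro W' hzW' hW'U hnn' hxW'
        refine hbig W' (hW'U.trans hTS) (hnn (hW'U.trans hTS) hzW') (hgrow.trans_le (card_le_of_le (inf_le_inf_left _ hnn')))
          A x hxW' (hA.trans fun a ha => ⟨hTS ha, hnn' (le_normalizer ha)⟩) fun a ha => ?_
        exact ⟨hTS (himg ⟨a, ha, rfl⟩), hnn' (le_normalizer (himg ⟨a, ha, rfl⟩))⟩
      rcases hx with hx | hx
      · exact step (zS U) hzT ((CfsgLib.PGroups.omegaOne_le _).trans inf_le_left) (normalizer_zS U)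
          (centralizer_le_normalizer _ hx)
      · exact step (je U) (hzT.trans (zS_le_je U)) (je_le_self U) (normalizer_je U) hx
  refine fus_of_steps S 0 (fun H x hHS hc _ hx Z hZ => ?_) hX hg (Nat.zero_le _)
  rcases hHS.lt_or_eq with hlt' | rfl
  · exact claim _ H (Nat.lt_succ_self _) hHS (hnn hHS (hzC hc hHS)) Z x hx (hZ.trans fun a ha => ⟨hHS ha, le_normalizer ha⟩)
      fun a ha => ⟨hHS ((mem_normalizer_iff''.1 hx a).1 (hZ ha)), le_normalizer ((mem_normalizer_iff''.1 hx a).1 (hZ ha))⟩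
  · exact Fus.of_gen hZ (Or.inr (normalizer_je _ hx))

end CfsgLib.LocalEven.Factor
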