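import Cfsg.Agent.Lib.LocalEven.Factor.StepOne

/-!
# The measure `|H| |C_M(H)|` and the translates of a candidate

* `measure`, `measure_sup`, `measure_conj`
* `Bad.translate_le`, `Bad.closure_facts`, `Bad.eprop_closure`
-/

set_option autoImplicit false
set_option linter.all false

namespace CfsgLib.LocalEven.Factor

open Subgroup
open scoped commutatorElement

universe u

section measure

variable {L : Type*} [Group L] [Finite L]

/-- `|H| |C_M(H)|` -/
noncomputable def measure (M H : Subgroup L) : ℕ := Nat.card H * Nat.card ↥(M ⊓ centralizer (H : Set L))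

theorem measure_sup {M : Subgroup L} (hM : M ≤ centralizer (M : Set L)) (H K : Subgroup L) :
    measure M H * measure M K ≤ measure M (H ⊔ K) * measure M (H ⊓ K) := by
  have h1 : Nat.card H * Nat.card K ≤ Nat.card ↥(H ⊔ K) * Nat.card ↥(H ⊓ K) := by
    have e1 : Nat.card H * H.relIndex (H ⊔ K) = Nat.card ↥(H ⊔ K) := by
      rw [← relIndex_bot_left, ← relIndex_bot_left, relIndex_mul_relIndex _ _ _ bot_le le_sup_left]
    have e2 : Nat.card ↥(H ⊓ K) * H.relIndex K = Nat.card K := by
      rw [inf_comm]; exact card_inf_mul_relIndex K H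
    rw [← e1, ← e2]
    calc Nat.card H * (Nat.card ↥(H ⊓ K) * H.relIndex K)
        ≤ Nat.card H * (Nat.card ↥(H ⊓ K) * H.relIndex (H ⊔ K)) :=
          Nat.mul_le_mul_left _ (Nat.mul_le_mul_left _ (relIndex_le_of_le_right le_sup_right index_ne_zero_of_finite))
      _ = _ := by ring
  obtain ⟨MH, hMH⟩ : ∃ MH, MH = M ⊓ centralizer (H : Set L) := ⟨_, rfl⟩
  obtain ⟨MK, hMK⟩ : ∃ MK, MK = M ⊓ centralizer (K : Set L) := ⟨_, rfl⟩
  have hn : MH ≤ normalizer (MK : Set L) := (hMH ▸ inf_le_left : MH ≤ M).trans (hM.trans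
    ((centralizer_le (SetLike.coe_subset_coe.2 (hMK ▸ inf_le_left))).trans (centralizer_le_normalizer _)))
  have h2 : Nat.card MH * Nat.card MK ≤ Nat.card ↥(M ⊓ centralizer ((H ⊔ K : Subgroup L) : Set L)) *
      Nat.card ↥(M ⊓ centralizer ((H ⊓ K : Subgroup L) : Set L)) := by
    rw [PLocal.card_sup_mul_card_inf MH MK hn, mul_comm]
    refine Nat.mul_le_mul (card_le_of_le ?_) (card_le_of_le ?_)
    · rw [hMH, hMK]
      rintro x ⟨⟨hx, hxH⟩, -, hxK⟩
      refine mem_inf.2 ⟨hx, ?_⟩
      have h3 : H ⊔ K ≤ centralizer ({x} : Set L) := sup_le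
        (fun h hh => mem_centralizer_singleton_iff.2 (mem_centralizer_iff.1 hxH h hh))
        (fun h hh => mem_centralizer_singleton_iff.2 (mem_centralizer_iff.1 hxK h hh))
      exact mem_centralizer_iff.2 fun h hh => mem_centralizer_singleton_iff.1 (h3 hh)
    · rw [hMH, hMK]
      exact sup_le (inf_le_inf_left _ (centralizer_le (SetLike.coe_subset_coe.2 inf_le_left)))
        (inf_le_inf_left _ (centralizer_le (SetLike.coe_subset_coe.2 inf_le_right)))
  rw [hMH, hMK] at h2
  calc measure M H * measure M K = (Nat.card H * Nat.card K) *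
        (Nat.card ↥(M ⊓ centralizer (H : Set L)) * Nat.card ↥(M ⊓ centralizer (K : Set L))) := by
          unfold measure; ring
    _ ≤ _ := Nat.mul_le_mul h1 h2
    _ = _ := by unfold measure; ring

theorem measure_conj {M : Subgroup L} {p : L} (hp : p ∈ normalizer (M : Set L)) (D : Subgroup L) :
    measure M (D.map (MulAut.conj p).toMonoidHom) = measure M D := by
  have hinj : Function.Injective (MulAut.conj p).toMonoidHom := (MulAut.conj p).injective
  unfold measure
  rw [card_map_of_injective hinj]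
  congr 1
  have : (M ⊓ centralizer (D : Set L)).map (MulAut.conj p).toMonoidHom =
      M ⊓ centralizer ((D.map (MulAut.conj p).toMonoidHom : Subgroup L) : Set L) := by
    rw [map_inf _ _ _ hinj, CfsgLib.LocalEvenB.map_centralizer_equiv]
    exact congrArg (· ⊓ _) (mem_normalizer_iff_map_conj_eq.1 hp)
  rw [← this, card_map_of_injective hinj]

theorem measure_bot (M : Subgroup L) : measure M ⊥ = Nat.card M := by
  unfold measure
  rw [Subgroup.card_bot, one_mul, inf_eq_left.2]
  exact fun x _ => mem_centralizer_iff.2 fun h hh => by rw [mem_bot.1 hh, one_mul, mul_one]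

end measure

variable {G : Type u} [Group G] [Finite G]

theorem eprop_index {T W : Subgroup G} (hE : EProp T W) {R : Subgroup G} (hR : R ≤ T)
    (hab : ⁅R, R⁆ ≤ centralizer (W : Set G)) (hsq : ∀ r ∈ R, r ^ 2 ∈ centralizer (W : Set G))
    (hne : ¬ R ≤ centralizer (W : Set G)) :
    (centralizer (W : Set G)).relIndex R ^ 3 < (centralizer (R : Set G)).relIndex W ^ 2 := by
  have hlt := hE R hR hab hsq hne
  rw [← card_inf_mul_relIndex R (centralizer (W : Set G)), ← card_inf_mul_relIndex W (centralizer (R : Set G))] at hlt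
  refine Nat.lt_of_mul_lt_mul_right (a := Nat.card ↥(R ⊓ centralizer (W : Set G)) ^ 3 *
    Nat.card ↥(W ⊓ centralizer (R : Set G)) ^ 2) ?_
  calc _ = (Nat.card ↥(R ⊓ centralizer (W : Set G)) * (centralizer (W : Set G)).relIndex R) ^ 3 *
        Nat.card ↥(W ⊓ centralizer (R : Set G)) ^ 2 := by ring
    _ < (Nat.card ↥(W ⊓ centralizer (R : Set G)) * (centralizer (R : Set G)).relIndex W) ^ 2 *
        Nat.card ↥(R ⊓ centralizer (W : Set G)) ^ 3 := hlt
    _ = _ := by ring

namespace Bad

variable {S : Sylow 2 G} {V : Subgroup G}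

theorem core_le (b : Bad S V) : Cfsg.pCore 2 G ≤ (S : Subgroup G) := by
  haveI : Fact (Nat.Prime 2) := ⟨Nat.prime_two⟩
  exact CfsgLib.Core.pCore_le_sylow S

theorem translate_le_core (b : Bad S V) (g : G) : V.map (MulAut.conj g).toMonoidHom ≤ Cfsg.pCore 2 G := by
  rintro _ ⟨v, hv, rfl⟩
  exact (inferInstance : (Cfsg.pCore 2 G).Normal).conj_mem v (b.le_core hv) g

/-- translates of `V` commute -/
theorem translate_le (b : Bad S V) (g : G) : V.map (MulAut.conj g).toMonoidHom ≤ centralizer (V : Set G) := by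
  by_contra hne
  have key : ∀ x : G, ¬ V.map (MulAut.conj x).toMonoidHom ≤ centralizer (V : Set G) →
      (centralizer (V : Set G)).relIndex (V.map (MulAut.conj x).toMonoidHom) ^ 3 <
        (centralizer ((V.map (MulAut.conj x).toMonoidHom : Subgroup G) : Set G)).relIndex V ^ 2 := by
    intro x hx
    have he := PLocal.elementary_map (MulAut.conj x).toMonoidHom b.elem
    refine eprop_index b.eprop ((b.translate_le_core x).trans b.core_le) ?_ (fun r hr => by rw [he.2 r hr]; exact one_mem _) hx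
    rw [commutator_le]
    intro p hp q hq
    rw [commutatorElement_eq_one_iff_mul_comm.2 (elem_comm he hp hq)]
    exact one_mem _
  have hswap : ∀ x : G, (centralizer ((V.map (MulAut.conj x).toMonoidHom : Subgroup G) : Set G)).relIndex V =
      (centralizer (V : Set G)).relIndex (V.map (MulAut.conj x⁻¹).toMonoidHom) := by
    intro x
    rw [← CfsgLib.LocalEvenB.map_centralizer_equiv]
    conv_lhs => rw [← relIndex_conj _ _ x⁻¹, Subgroup.map_map]
    congr 1
    convert Subgroup.map_id (centralizer (V : Set G)) using 2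
    ext z
    simp [mul_assoc]
  have h1 := key g hne
  rw [hswap] at h1
  obtain ⟨a, ha⟩ : ∃ a, a = (centralizer (V : Set G)).relIndex (V.map (MulAut.conj g).toMonoidHom) := ⟨_, rfl⟩
  obtain ⟨c, hc⟩ : ∃ c, c = (centralizer (V : Set G)).relIndex (V.map (MulAut.conj g⁻¹).toMonoidHom) := ⟨_, rfl⟩
  rw [← ha, ← hc] at h1
  have ha2 : 2 ≤ a := by
    have h0 : a ≠ 0 := ha ▸ index_ne_zero_of_finite
    have h0' : a ≠ 1 := fun h => hne (relIndex_eq_one.1 (ha ▸ h))
    omega
  have h2 := key g⁻¹ fun hle => by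
    rw [hc.trans (relIndex_eq_one.2 hle)] at h1
    have := Nat.one_le_pow 3 a (by omega)
    omega
  rw [hswap, inv_inv, ← ha, ← hc] at h2
  have h3 : a ^ 3 * c ^ 3 < c ^ 2 * a ^ 2 := Nat.mul_lt_mul'' h1 h2
  have h4 : c ^ 2 * a ^ 2 ≤ a ^ 3 * c ^ 3 := by
    rcases Nat.eq_zero_or_pos c with rfl | hc0
    · simp
    · calc c ^ 2 * a ^ 2 = (a ^ 2 * c ^ 2) * 1 := by ring
        _ ≤ (a ^ 2 * c ^ 2) * (a * c) := Nat.mul_le_mul_left _ (Nat.mul_pos (by omega) hc0)
        _ = _ := by ring
  omega

/-- the normal closure of `V` is elementary abelian, inside `O₂(G)` -/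
theorem closure_facts (b : Bad S V) :
    Cfsg.IsElementaryAbelian 2 (normalClosure (V : Set G)) ∧ normalClosure (V : Set G) ≤ Cfsg.pCore 2 G := by
  haveI : Fact (Nat.Prime 2) := ⟨Nat.prime_two⟩
  refine ⟨?_, normalClosure_le_normal (SetLike.coe_subset_coe.2 b.le_core)⟩
  have hcomm : ∀ x ∈ Group.conjugatesOfSet (V : Set G), ∀ y ∈ Group.conjugatesOfSet (V : Set G), x * y = y * x := by
    intro x hx y hy
    obtain ⟨v, hv, hxv⟩ := Group.mem_conjugatesOfSet_iff.1 hx
    obtain ⟨g, rfl⟩ := isConj_iff.1 hxv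
    obtain ⟨w, hw, hyw⟩ := Group.mem_conjugatesOfSet_iff.1 hy
    obtain ⟨k, rfl⟩ := isConj_iff.1 hyw
    have h := mem_centralizer_iff.1 (b.translate_le (k⁻¹ * g) ⟨v, hv, rfl⟩) w hw
    have h' := congrArg (fun z => k * z * k⁻¹) h
    simp only [MulEquiv.coe_toMonoidHom, MulAut.conj_apply] at h'
    calc g * v * g⁻¹ * (k * w * k⁻¹) = k * (k⁻¹ * g * v * (k⁻¹ * g)⁻¹ * w) * k⁻¹ := by group
      _ = k * (w * (k⁻¹ * g * v * (k⁻¹ * g)⁻¹)) * k⁻¹ := h'.symm
      _ = _ := by group
  have hle : normalClosure (V : Set G) ≤ centralizer (normalClosure (V : Set G) : Set G) := by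
    rw [normalClosure, centralizer_closure, Subgroup.closure_le]
    exact fun x hx => mem_centralizer_iff.2 fun y hy => hcomm y hy x hx
  refine ⟨⟨⟨fun x y => Subtype.ext (mem_centralizer_iff.1 (hle y.2) x x.2)⟩⟩, ?_⟩
  intro x hx
  induction hx using closure_induction with
  | mem x hx =>
    obtain ⟨v, hv, hxv⟩ := Group.mem_conjugatesOfSet_iff.1 hx
    obtain ⟨g, rfl⟩ := isConj_iff.1 hxv
    rw [conj_pow, b.elem.2 v hv, mul_one, mul_inv_cancel]
  | one => exact one_pow 2
  | mul x z hx hz ihx ihz =>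
    rw [(show Commute x z from mem_centralizer_iff.1 (hle hz) x hx).mul_pow, ihx, ihz, one_mul]
  | inv x _ ih => rw [inv_pow, ih, inv_one]

/-- the first inequality on the normal closure of `V`, for subgroups of `O₂(G)` -/
theorem eprop_closure (b : Bad S V) : ∀ (R : Subgroup G), R ≤ Cfsg.pCore 2 G →
    ⁅R, R⁆ ≤ centralizer (normalClosure (V : Set G) : Set G) →
    (∀ r ∈ R, r ^ 2 ∈ centralizer (normalClosure (V : Set G) : Set G)) →
    ¬ R ≤ centralizer (normalClosure (V : Set G) : Set G) →
    (centralizer (normalClosure (V : Set G) : Set G)).relIndex R ^ 3 <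
      (centralizer (R : Set G)).relIndex (normalClosure (V : Set G)) ^ 2 := by
  intro R
  induction hn : Nat.card R using Nat.strong_induction_on generalizing R with
  | _ n ihn =>
    subst hn
    intro hRQ hab hsq hne
    obtain ⟨X, hX⟩ : ∃ X, X = normalClosure (V : Set G) := ⟨_, rfl⟩
    rw [← hX] at hab hsq hne ⊢
    obtain ⟨g, hg⟩ : ∃ g : G, ¬ R ≤ centralizer ((V.map (MulAut.conj g).toMonoidHom : Subgroup G) : Set G) := by
      by_contra hall
      push Not at hall
      refine hne ?_
      rw [hX, normalClosure, centralizer_closure]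
      intro r hr
      refine mem_centralizer_iff.2 fun x hx => ?_
      obtain ⟨v, hv, hxv⟩ := Group.mem_conjugatesOfSet_iff.1 hx
      obtain ⟨g, rfl⟩ := isConj_iff.1 hxv
      exact mem_centralizer_iff.1 (hall g hr) _ ⟨v, hv, rfl⟩
    obtain ⟨W, hW⟩ : ∃ W, W = V.map (MulAut.conj g).toMonoidHom := ⟨_, rfl⟩
    rw [← hW] at hg
    have hWX : W ≤ X := by
      rw [hW, hX]; rintro _ ⟨v, hv, rfl⟩
      exact normalClosure_normal.conj_mem v (le_normalClosure hv) g
    have hCW : centralizer (X : Set G) ≤ centralizer (W : Set G) := centralizer_le (SetLike.coe_subset_coe.2 hWX)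
    have hRS : R ≤ (S : Subgroup G).map (MulAut.conj g).toMonoidHom := fun r hr =>
      ⟨g⁻¹ * r * g, b.core_le ((inferInstance : (Cfsg.pCore 2 G).Normal).conj_mem' r (hRQ hr) g), by simp [mul_assoc]⟩
    have h1 := eprop_index ((eProp_map_iff (MulAut.conj g).toMonoidHom (MulAut.conj g).injective _ _).2 b.eprop) hRS
      (hW ▸ hab.trans hCW) (fun r hr => hW ▸ hCW (hsq r hr)) (hW ▸ hg)
    rw [← hW] at h1
    obtain ⟨R₀, hR₀⟩ : ∃ R₀, R₀ = R ⊓ centralizer (W : Set G) := ⟨_, rfl⟩
    have hR₀R : R₀ ≤ R := hR₀ ▸ inf_le_left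
    have hlt : Nat.card R₀ < Nat.card R := (card_le_of_le hR₀R).lt_of_ne fun h =>
      hg ((eq_of_le_of_card_ge hR₀R h.ge).ge.trans (hR₀ ▸ inf_le_right))
    have h2 : (centralizer (X : Set G)).relIndex R₀ ^ 3 ≤ (centralizer (R₀ : Set G)).relIndex X ^ 2 := by
      by_cases hR₀C : R₀ ≤ centralizer (X : Set G)
      · rw [relIndex_eq_one.2 hR₀C, one_pow]
        exact Nat.one_le_pow _ _ (Nat.pos_of_ne_zero index_ne_zero_of_finite)
      · have := ihn _ hlt R₀ rfl (hR₀R.trans hRQ)
          (hX ▸ (commutator_mono hR₀R hR₀R).trans hab) (fun r hr => hX ▸ hsq r (hR₀R hr)) (hX ▸ hR₀C)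
        rw [← hX] at this
        exact this.le
    have hc : (centralizer (X : Set G)).relIndex R = (centralizer (W : Set G)).relIndex R *
        (centralizer (X : Set G)).relIndex R₀ := by
      refine Nat.eq_of_mul_eq_mul_left (Nat.card_pos (α := ↥(R ⊓ centralizer (X : Set G)))) ?_
      have e : R ⊓ centralizer (X : Set G) = R₀ ⊓ centralizer (X : Set G) :=
        le_antisymm (le_inf (hR₀ ▸ le_inf inf_le_left (inf_le_right.trans hCW)) inf_le_right)
          (inf_le_inf_right _ hR₀R)
      calc _ = Nat.card R := card_inf_mul_relIndex R _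
        _ = Nat.card R₀ * (centralizer (W : Set G)).relIndex R := by rw [hR₀, card_inf_mul_relIndex]
        _ = Nat.card ↥(R₀ ⊓ centralizer (X : Set G)) * (centralizer (X : Set G)).relIndex R₀ *
            (centralizer (W : Set G)).relIndex R := by rw [card_inf_mul_relIndex]
        _ = _ := by rw [e]; ring
    have hgain : (centralizer (R₀ : Set G)).relIndex X * (centralizer (R : Set G)).relIndex W ≤
        (centralizer (R : Set G)).relIndex X := by
      refine Nat.le_of_mul_le_mul_left ?_ (Nat.card_pos (α := ↥(X ⊓ centralizer (R : Set G))))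
      rw [card_inf_mul_relIndex X (centralizer (R : Set G))]
      have hWc : W ≤ X ⊓ centralizer (R₀ : Set G) := le_inf hWX (le_centralizer_iff.1 (hR₀ ▸ inf_le_right))
      have e : X ⊓ centralizer (R₀ : Set G) ⊓ centralizer (R : Set G) = X ⊓ centralizer (R : Set G) :=
        le_antisymm (inf_le_inf_right _ inf_le_left)
          (le_inf (inf_le_inf_left _ (centralizer_le (SetLike.coe_subset_coe.2 hR₀R))) inf_le_right)
      calc _ = (centralizer (R₀ : Set G)).relIndex X * (Nat.card ↥(X ⊓ centralizer (R : Set G)) *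
            (centralizer (R : Set G)).relIndex W) := by ring
        _ ≤ (centralizer (R₀ : Set G)).relIndex X * (Nat.card ↥(X ⊓ centralizer (R : Set G)) *
            (centralizer (R : Set G)).relIndex (X ⊓ centralizer (R₀ : Set G))) :=
          Nat.mul_le_mul_left _ (Nat.mul_le_mul_left _ (relIndex_le_of_le_right hWc index_ne_zero_of_finite))
        _ = _ := by rw [← e, card_inf_mul_relIndex, mul_comm, card_inf_mul_relIndex]
    rw [hc]
    calc _ = (centralizer (W : Set G)).relIndex R ^ 3 * (centralizer (X : Set G)).relIndex R₀ ^ 3 := by ring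
      _ < (centralizer (R : Set G)).relIndex W ^ 2 * (centralizer (R₀ : Set G)).relIndex X ^ 2 :=
        Nat.mul_lt_mul_of_lt_of_le h1 h2 (pow_pos (Nat.pos_of_ne_zero index_ne_zero_of_finite) 2)
      _ = ((centralizer (R₀ : Set G)).relIndex X * (centralizer (R : Set G)).relIndex W) ^ 2 := by ring
      _ ≤ _ := Nat.pow_le_pow_left hgain 2

end Bad

end CfsgLib.LocalEven.Factor
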