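import Cfsg.Agent.Lib.LocalEven.Factor.Chief
import Mathlib.GroupTheory.Frattini

/-!
# Reductions for a minimal group in which `J_e(S)` moves an `E`-candidate

* `Theta G`, `Bad S V`
* `theta_sub`, `Bad.ncl_top`, `Bad.not_le_core`, `Bad.sup_top`, `Bad.dichotomy`
-/

set_option autoImplicit false
set_option linter.all false

namespace CfsgLib.LocalEven.Factor

open Subgroup
open scoped commutatorElement

universe u

/-- the normal closure of `J_e(S)` centralizes every candidate in `S` -/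
def Theta (G : Type u) [Group G] : Prop :=
  ∀ (S : Sylow 2 G) (V : Subgroup G), V ≤ (S : Subgroup G) → Cfsg.IsElementaryAbelian 2 V →
    (S : Subgroup G) ≤ normalizer (V : Set G) → EProp (S : Subgroup G) V →
    normalClosure (je (S : Subgroup G) : Set G) ≤ centralizer (V : Set G)

variable {G : Type u} [Group G]

/-- a failure of `Theta` in a group all whose proper sections of smaller order satisfy it -/
structure Bad [Finite G] (S : Sylow 2 G) (V : Subgroup G) : Prop where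
  hyp : Hyp G
  ih : ∀ (H : Type u) [Group H] [Finite H], Nat.card H < Nat.card G → Hyp H → Theta H
  le : V ≤ (S : Subgroup G)
  elem : Cfsg.IsElementaryAbelian 2 V
  norm : (S : Subgroup G) ≤ normalizer (V : Set G)
  eprop : EProp (S : Subgroup G) V
  bad : ¬ normalClosure (je (S : Subgroup G) : Set G) ≤ centralizer (V : Set G)

theorem je_map {H : Type u} [Group H] (f : H →* G) (hf : Function.Injective f) (T : Subgroup H) :
    (je T).map f = je (T.map f) := by
  refine le_antisymm ?_ (je_le fun B hB => ?_)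
  · rw [map_le_iff_le_comap]
    refine je_le fun A hA => map_le_iff_le_comap.1 (le_je ⟨map_mono hA.1, PLocal.elementary_map f hA.2.1, fun B hB hBe => ?_⟩)
    obtain ⟨B₀, rfl⟩ : ∃ B₀ : Subgroup H, B₀.map f = B := ⟨B.comap f, map_comap_eq_self (hB.trans (map_le_range f T))⟩
    rw [card_map_of_injective hf, card_map_of_injective hf]
    refine hA.2.2 B₀ ((map_le_map_iff_of_injective hf).1 hB) ?_
    have := PLocal.elementary_comap f hf hBe
    rwa [comap_map_eq_self_of_injective hf] at this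
  · obtain ⟨B₀, rfl⟩ : ∃ B₀ : Subgroup H, B₀.map f = B := ⟨B.comap f, map_comap_eq_self (hB.1.trans (map_le_range f T))⟩
    refine map_mono (le_je ⟨(map_le_map_iff_of_injective hf).1 hB.1, ?_, fun C hC hCe => ?_⟩)
    · have := PLocal.elementary_comap f hf hB.2.1
      rwa [comap_map_eq_self_of_injective hf] at this
    · have := hB.2.2 (C.map f) (map_mono hC) (PLocal.elementary_map f hCe)
      rwa [card_map_of_injective hf, card_map_of_injective hf] at this

theorem ncl_le_of_conj {J X : Subgroup G} (h : ∀ g : G, ∀ j ∈ J, g * j * g⁻¹ ∈ X) : normalClosure (J : Set G) ≤ X := by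
  rw [normalClosure, Subgroup.closure_le]
  intro e he
  obtain ⟨j, hj, hconj⟩ := Group.mem_conjugatesOfSet_iff.1 he
  obtain ⟨g, rfl⟩ := isConj_iff.1 hconj
  exact h g j hj

variable [Finite G]

/-- an element of odd order in the product of a normal subgroup with a `2`-group -/
theorem odd_mem_of_sup {N X : Subgroup G} [N.Normal] (hX : IsPGroup 2 X) {g : G} (hg : Odd (orderOf g))
    (hgX : g ∈ N ⊔ X) : g ∈ N := by
  obtain ⟨n, hn, x, hx, rfl⟩ := mem_sup_of_normal_left.1 hgX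
  obtain ⟨k, hk⟩ := hX ⟨x, hx⟩
  have hk' : x ^ 2 ^ k = 1 := congrArg Subtype.val hk
  have h1 : (QuotientGroup.mk' N (n * x)) ^ 2 ^ k = 1 := by
    rw [map_mul, show QuotientGroup.mk' N n = 1 from (QuotientGroup.eq_one_iff n).2 hn, one_mul, ← map_pow, hk',
      map_one]
  have h2 : orderOf (QuotientGroup.mk' N (n * x)) = 1 := Nat.eq_one_of_dvd_coprimes
    ((Nat.coprime_two_left.2 hg).pow_left k) (orderOf_dvd_of_pow_eq_one h1) (orderOf_map_dvd _ _)
  exact (QuotientGroup.eq_one_iff _).1 (orderOf_eq_one_iff.1 h2)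

/-- the consequence of `Theta` for a proper subgroup -/
theorem theta_sub (ih : ∀ (H : Type u) [Group H] [Finite H], Nat.card H < Nat.card G → Hyp H → Theta H)
    {H : Subgroup G} (hH : Hyp ↥H) (hlt : H ≠ ⊤) {T V : Subgroup G} (hTH : T ≤ H) (hT : IsPGroup 2 T)
    (hTi : ¬ 2 ∣ T.relIndex H) (hVT : V ≤ T) (hV : Cfsg.IsElementaryAbelian 2 V) (hTV : T ≤ normalizer (V : Set G))
    (hE : EProp T V) :
    ∀ x ∈ H, (∃ k ∈ centralizer (V : Set G), k ∈ H ∧ ∃ n ∈ normalizer (je T : Set G), x = k * n) ∧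
      ∀ j ∈ je T, x * j * x⁻¹ ∈ centralizer (V : Set G) := by
  haveI : Fact (Nat.Prime 2) := ⟨Nat.prime_two⟩
  intro x hx
  suffices key : ∃ k ∈ centralizer (V : Set G), k ∈ H ∧ ∃ n ∈ normalizer (je T : Set G), x = k * n by
    refine ⟨key, fun j hj => ?_⟩
    obtain ⟨k, hk, -, n, hn, rfl⟩ := key
    have h1 : n * j * n⁻¹ ∈ centralizer (V : Set G) :=
      (je_le_centralizer hVT hTV hV hE).1 ((mem_normalizer_iff.1 hn j).1 hj)
    rw [show k * n * j * (k * n)⁻¹ = k * (n * j * n⁻¹) * k⁻¹ by group]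
    exact mul_mem (mul_mem hk h1) (inv_mem hk)
  obtain ⟨T', hT'⟩ : ∃ T' : Sylow 2 ↥H, (T' : Subgroup ↥H) = T.subgroupOf H :=
    ⟨(hT.comap_subtype).toSylow hTi, rfl⟩
  have hTm : (T' : Subgroup ↥H).map H.subtype = T := by rw [hT', subgroupOf_map_subtype, inf_eq_left.2 hTH]
  obtain ⟨V', hV'⟩ : ∃ V', V' = V.subgroupOf H := ⟨_, rfl⟩
  have hVm : V'.map H.subtype = V := by rw [hV', subgroupOf_map_subtype, inf_eq_left.2 (hVT.trans hTH)]
  have hcard : Nat.card ↥H < Nat.card G := (card_le_card_group H).lt_of_ne fun h => hlt (eq_top_of_card_eq H h)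
  have hK := ih ↥H hcard hH T' V' (by rw [hT', hV']; exact comap_mono hVT)
    (hV' ▸ PLocal.elementary_comap H.subtype H.subtype_injective hV) (fun t ht => mem_normalizer_iff.2 fun v => by
      rw [hT'] at ht
      rw [hV', mem_subgroupOf, mem_subgroupOf]
      exact mem_normalizer_iff.1 (hTV ht) v)
    ((eProp_map_iff H.subtype H.subtype_injective _ _).1 (by rwa [hTm, hVm]))
  obtain ⟨c, hc, n, hn, he⟩ := exists_mul_of_normal T' (C := normalClosure (je (T' : Subgroup ↥H) : Set ↥H)) ⟨x, hx⟩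
  refine ⟨c, ?_, c.2, n, ?_, congrArg Subtype.val he⟩
  · have := (map_mem_centralizer_iff H.subtype H.subtype_injective c V').2 (hK hc)
    rwa [hVm] at this
  · have h1 := normalizer_je _ hn
    rw [je_mono_eq inf_le_right (le_inf le_normalClosure (je_le_self _))] at h1
    refine mem_normalizer_iff.2 fun j => ?_
    rw [← hTm, ← je_map H.subtype H.subtype_injective]
    constructor
    · rintro ⟨j', hj', rfl⟩
      exact ⟨_, (mem_normalizer_iff.1 h1 j').1 hj', rfl⟩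
    · rintro ⟨j', hj', hj'e⟩
      refine ⟨n⁻¹ * j' * n, (mem_normalizer_iff.1 h1 _).2 (by simpa [mul_assoc] using hj'), ?_⟩
      rw [map_mul, map_mul, map_inv, hj'e]
      show (n : G)⁻¹ * ((n : G) * j * (n : G)⁻¹) * (n : G) = j
      group

theorem relIndex_sup_normal (T M : Subgroup G) [M.Normal] : T.relIndex (T ⊔ M) = T.relIndex M := by
  have h := PLocal.card_sup_mul_card_inf T M le_normalizer_of_normal
  have h1 : Nat.card T * T.relIndex (T ⊔ M) = Nat.card ↥(T ⊔ M) := by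
    rw [← relIndex_bot_left, ← relIndex_bot_left, relIndex_mul_relIndex _ _ _ bot_le le_sup_left]
  have h2 : Nat.card ↥(T ⊓ M) * T.relIndex M = Nat.card M := by
    rw [← inf_relIndex_right, ← relIndex_bot_left, ← relIndex_bot_left, relIndex_mul_relIndex _ _ _ bot_le inf_le_right]
  refine Nat.eq_of_mul_eq_mul_left (Nat.mul_pos (Nat.card_pos (α := ↥(T ⊓ M))) (Nat.card_pos (α := ↥T))) ?_
  calc _ = (Nat.card T * T.relIndex (T ⊔ M)) * Nat.card ↥(T ⊓ M) := by ring
    _ = (Nat.card ↥(T ⊓ M) * T.relIndex M) * Nat.card T := by rw [h1, h2]; linarith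
    _ = _ := by ring

theorem sylow_relIndex_not_dvd (S : Sylow 2 G) {H : Subgroup G} (hSH : (S : Subgroup G) ≤ H) :
    ¬ 2 ∣ (S : Subgroup G).relIndex H := by
  haveI : Fact (Nat.Prime 2) := ⟨Nat.prime_two⟩
  exact fun h => S.not_dvd_index (h.trans (relIndex_dvd_index_of_le hSH))

namespace Bad

variable {S : Sylow 2 G} {V : Subgroup G}

theorem je_facts (b : Bad S V) :
    je (S : Subgroup G) ≤ centralizer (V : Set G) ∧ V ≤ je (S : Subgroup G) :=
  je_le_centralizer b.le b.norm b.elem b.eprop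

theorem ncl_top (b : Bad S V) : normalClosure (je (S : Subgroup G) : Set G) = ⊤ := by
  haveI : Fact (Nat.Prime 2) := ⟨Nat.prime_two⟩
  by_contra hlt
  obtain ⟨N, hN⟩ : ∃ N, N = normalClosure (je (S : Subgroup G) : Set G) := ⟨_, rfl⟩
  haveI hNn : N.Normal := hN ▸ normalClosure_normal
  rw [← hN] at hlt
  obtain ⟨T, hT⟩ : ∃ T, T = N ⊓ (S : Subgroup G) := ⟨_, rfl⟩
  have hJN : je (S : Subgroup G) ≤ N := hN ▸ le_normalClosure
  have hje : je T = je (S : Subgroup G) := je_mono_eq (hT ▸ inf_le_right) (hT ▸ le_inf hJN (je_le_self _))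
  have hTi : ¬ 2 ∣ T.relIndex N := by
    rw [hT, inf_relIndex_left]
    exact fun h => S.not_dvd_index (h.trans (CfsgLib.HallGen.relIndex_dvd_index_right _ _))
  have hsub := theta_sub b.ih (b.hyp.of_normal hNn) hlt (hT ▸ inf_le_left) (S.2.to_le (hT ▸ inf_le_right)) hTi
    (hT ▸ le_inf (b.je_facts.2.trans hJN) b.le) b.elem ((hT ▸ inf_le_right).trans b.norm)
    (b.eprop.mono (hT ▸ inf_le_right))
  refine b.bad (ncl_le_of_conj fun g j hj => ?_)
  obtain ⟨c, hc, n, hn, rfl⟩ := exists_mul_of_normal S (C := N) g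
  have hn' : n * j * n⁻¹ ∈ je T := (mem_normalizer_iff.1 (normalizer_je _ (hT ▸ hn)) j).1 (hje ▸ hj)
  have := (hsub c hc).2 _ hn'
  rwa [show c * (n * j * n⁻¹) * c⁻¹ = c * n * j * (c * n)⁻¹ by group] at this

theorem not_le_core (b : Bad S V) : ¬ je (S : Subgroup G) ≤ Cfsg.pCore 2 G := by
  haveI : Fact (Nat.Prime 2) := ⟨Nat.prime_two⟩
  intro hle
  have h1 := je_mono_eq (CfsgLib.Core.pCore_le_sylow S) hle
  refine b.bad (ncl_le_of_conj fun g j hj => b.je_facts.1 ?_)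
  rw [← h1] at hj ⊢
  exact (mem_normalizer_iff.1 (normalizer_je _ (le_normalizer_of_normal (H := Cfsg.pCore 2 G) (mem_top g))) j).1 hj

theorem good_supplement (b : Bad S V) {M : Subgroup G} [M.Normal] {N : Subgroup G} (hN : N ⊔ M = ⊤)
    (hmin : ∀ X : Subgroup G, X ≤ N → X ⊔ M = ⊤ → X = N) : Good ↥N := by
  refine good_of_extension (M.subgroupOf N) ?_ ?_
  · have hle : M.subgroupOf N ≤ frattini ↥N := by
      refine le_iInf fun K => le_iInf fun hK => ?_
      by_contra hcon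
      have h1 : K ⊔ M.subgroupOf N = ⊤ := hK.2 _ (left_lt_sup.2 hcon)
      have h2 : (K.map N.subtype) ⊔ M = ⊤ := by
        refine top_le_iff.1 (hN ▸ sup_le ?_ le_sup_right)
        have h3 := map_mono (f := N.subtype) h1.ge
        rw [← MonoidHom.range_eq_map, range_subtype, Subgroup.map_sup, subgroupOf_map_subtype] at h3
        exact h3.trans (sup_le_sup_left inf_le_left _)
      refine hK.1 ?_
      have h4 := hmin _ (map_subtype_le K) h2
      rw [eq_top_iff]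
      intro z _
      obtain ⟨z', hz', hzz⟩ : (z : G) ∈ K.map N.subtype := h4.ge z.2
      rwa [← Subtype.ext hzz]
    haveI : Group.IsSolvable ↥(M.subgroupOf N) := by
      haveI := frattini_nilpotent (G := ↥N)
      exact solvable_of_solvable_injective (inclusion_injective hle)
    exact good_of_isSolvable
  · have hfs : Function.Surjective ((QuotientGroup.mk' M).comp N.subtype) := by
      intro z
      obtain ⟨g, rfl⟩ := QuotientGroup.mk'_surjective M z
      obtain ⟨n, hn, m, hm, rfl⟩ := mem_sup_of_normal_right.1 (hN ▸ mem_top g : g ∈ N ⊔ M)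
      refine ⟨⟨n, hn⟩, ?_⟩
      show QuotientGroup.mk' M n = _
      rw [map_mul, show QuotientGroup.mk' M m = 1 from (QuotientGroup.eq_one_iff m).2 hm, mul_one]
    let e := (QuotientGroup.quotientMulEquivOfEq (show M.subgroupOf N = ((QuotientGroup.mk' M).comp N.subtype).ker by
      rw [← MonoidHom.comap_ker, QuotientGroup.ker_mk']; rfl)).trans
      (QuotientGroup.quotientKerEquivOfSurjective _ hfs)
    exact good_of_surjective e.symm.toMonoidHom e.symm.surjective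
      (good_of_surjective (QuotientGroup.mk' M) (QuotientGroup.mk'_surjective M) b.hyp.good)

theorem sup_top (b : Bad S V) {M : Subgroup G} (hMn : M.Normal) (hQM : Cfsg.pCore 2 G ≤ M)
    (hSM : ¬ M ⊓ (S : Subgroup G) ≤ Cfsg.pCore 2 G) : M ⊔ je (S : Subgroup G) = ⊤ := by
  haveI : Fact (Nat.Prime 2) := ⟨Nat.prime_two⟩
  haveI := hMn
  by_contra hlt
  obtain ⟨J, hJ⟩ : ∃ J, J = je (S : Subgroup G) := ⟨_, rfl⟩
  rw [← hJ] at hlt
  have hJS : J ≤ (S : Subgroup G) := hJ ▸ je_le_self _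
  have hJC : J ≤ centralizer (V : Set G) := hJ ▸ b.je_facts.1
  -- the product of `M` with `J`
  obtain ⟨T₁, hT₁⟩ : ∃ T₁, T₁ = (M ⊓ (S : Subgroup G)) ⊔ J := ⟨_, rfl⟩
  have hT₁S : T₁ ≤ (S : Subgroup G) := hT₁ ▸ sup_le inf_le_right hJS
  have hje₁ : je T₁ = J := hJ ▸ je_mono_eq hT₁S (hT₁ ▸ hJ ▸ le_sup_right)
  have hgood₁ : Good ↥(M ⊔ J) := by
    refine good_of_extension (M.subgroupOf (M ⊔ J))
      (good_of_surjective (subgroupOfEquivOfLe le_sup_left).symm.toMonoidHom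
        (MulEquiv.surjective _) (good_of_normal hMn b.hyp.good)) ?_
    haveI : Group.IsNilpotent ↥J := (S.2.to_le hJS).isNilpotent
    refine good_of_surjective (G := ↥J) ((QuotientGroup.mk' _).comp (inclusion le_sup_right)) ?_ good_of_isSolvable
    intro z
    obtain ⟨⟨z, hz⟩, rfl⟩ := QuotientGroup.mk'_surjective _ z
    obtain ⟨m, hm, j, hj, rfl⟩ := mem_sup_of_normal_left.1 hz
    refine ⟨⟨j, hj⟩, ?_⟩
    show QuotientGroup.mk' _ (⟨j, _⟩ : ↥(M ⊔ J)) = QuotientGroup.mk' _ _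
    refine (QuotientGroup.eq).2 ?_
    rw [mem_subgroupOf]
    show j⁻¹ * (m * j) ∈ M
    rw [← mul_assoc]
    exact hMn.conj_mem' m hm j
  have hTi₁ : ¬ 2 ∣ T₁.relIndex (M ⊔ J) := by
    have h1 : T₁.relIndex (M ⊔ J) ∣ (M ⊓ (S : Subgroup G)).relIndex M := by
      have h2 : T₁ ⊔ M = M ⊔ J := by
        rw [hT₁]; exact le_antisymm (sup_le (sup_le (inf_le_left.trans le_sup_left) le_sup_right) le_sup_left)
          (sup_le le_sup_right (le_sup_right.trans le_sup_left))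
      rw [← h2, relIndex_sup_normal]
      exact relIndex_dvd_of_le_left M (hT₁ ▸ le_sup_left)
    rw [inf_relIndex_left] at h1
    exact fun h => S.not_dvd_index ((h.trans h1).trans (CfsgLib.HallGen.relIndex_dvd_index_right _ _))
  have hsub₁ := theta_sub b.ih (b.hyp.of_le (hQM.trans le_sup_left) hgood₁) hlt
    (hT₁ ▸ sup_le (inf_le_left.trans le_sup_left) le_sup_right) (S.2.to_le hT₁S) hTi₁
    (hT₁ ▸ hJ ▸ b.je_facts.2.trans le_sup_right) b.elem (hT₁S.trans b.norm) (b.eprop.mono hT₁S)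
  -- a supplement inside the normalizer of the Sylow subgroup of `M`
  obtain ⟨TM, hTM⟩ : ∃ TM, TM = M ⊓ (S : Subgroup G) := ⟨_, rfl⟩
  rw [← hTM] at hSM
  obtain ⟨N, hN⟩ : ∃ N, N = normalizer (TM : Set G) := ⟨_, rfl⟩
  have hSN : (S : Subgroup G) ≤ N := by
    rw [hN, hTM]
    refine le_normalizer_iff.2 fun s hs m hm => mem_inf.2 ⟨hMn.conj_mem m hm.1 s, mul_mem (mul_mem hs hm.2) (inv_mem hs)⟩
  have hNlt : N ≠ ⊤ := by
    intro h
    rw [hN, normalizer_eq_top_iff] at h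
    exact hSM (CfsgLib.Core.le_pCore (S.2.to_le (hTM ▸ inf_le_right)))
  have hNM : N ⊔ M = ⊤ := by
    refine eq_top_iff.2 fun g _ => ?_
    obtain ⟨c, hc, n, hn, rfl⟩ := exists_mul_of_normal S (C := M) g
    exact mul_mem (mem_sup_right hc) (mem_sup_left (hN ▸ hTM ▸ hn))
  obtain ⟨N₂, ⟨hN₂N, hN₂M⟩, hN₂min⟩ := (Set.toFinite {X : Subgroup G | X ≤ N ∧ X ⊔ M = ⊤}).exists_minimal
    ⟨N, le_rfl, hNM⟩
  have hgood₂ : Good ↥N₂ := b.good_supplement hN₂M fun X hX hXM =>
    le_antisymm hX (hN₂min ⟨hX.trans hN₂N, hXM⟩ hX)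
  obtain ⟨N', hN'⟩ : ∃ N', N' = N₂ ⊔ TM := ⟨_, rfl⟩
  have hTMN : TM ≤ N := hN ▸ le_normalizer
  have hN'N : N' ≤ N := hN' ▸ sup_le hN₂N hTMN
  have hgood' : Good ↥N' := by
    haveI hTn : (TM.subgroupOf N').Normal := normal_subgroupOf_of_le_normalizer (hN'N.trans hN.le)
    haveI : Group.IsNilpotent ↥(TM.subgroupOf N') := ((S.2.to_le (hTM ▸ inf_le_right) : IsPGroup 2 TM).comap_subtype).isNilpotent
    refine good_of_extension (TM.subgroupOf N') good_of_isSolvable ?_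
    refine good_of_surjective ((QuotientGroup.mk' _).comp (inclusion (hN' ▸ le_sup_left : N₂ ≤ N'))) ?_ hgood₂
    intro z
    obtain ⟨⟨z, hz⟩, rfl⟩ := QuotientGroup.mk'_surjective _ z
    rw [hN'] at hz
    obtain ⟨n, hn, t, ht, he⟩ := (Set.ext_iff.1 (coe_mul_of_left_le_normalizer_right N₂ TM (hN₂N.trans hN.le)) z).1 hz
    refine ⟨⟨n, hn⟩, (QuotientGroup.eq).2 ?_⟩
    rw [mem_subgroupOf]
    show n⁻¹ * z ∈ TM
    rw [← he]
    show n⁻¹ * (n * t) ∈ TM
    rwa [inv_mul_cancel_left]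
  have hN'top : N' ⊔ M = ⊤ := top_le_iff.1 (hN₂M ▸ sup_le_sup_right (hN' ▸ le_sup_left) M)
  have hN'i : ¬ 2 ∣ N'.index := by
    have h1 : N'.index = N'.relIndex M := by rw [← relIndex_sup_normal N' M, hN'top, relIndex_top_right]
    rw [h1]
    intro h
    have h2 : N'.relIndex M ∣ (M ⊓ (S : Subgroup G)).relIndex M :=
      relIndex_dvd_of_le_left M (hTM ▸ hN' ▸ le_sup_right)
    rw [inf_relIndex_left] at h2
    exact S.not_dvd_index ((h.trans h2).trans (CfsgLib.HallGen.relIndex_dvd_index_right _ _))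
  -- move it over `S`
  obtain ⟨P⟩ : Nonempty (Sylow 2 ↥N') := inferInstance
  have hP2 : IsPGroup 2 ((P : Subgroup ↥N').map N'.subtype) := P.2.map _
  have hPi : ¬ 2 ∣ ((P : Subgroup ↥N').map N'.subtype).index := by
    rw [index_map_subtype]
    exact fun h => (Nat.prime_two.dvd_mul.1 h).elim P.not_dvd_index hN'i
  obtain ⟨P', hP'⟩ : ∃ P' : Sylow 2 G, (P' : Subgroup G) = (P : Subgroup ↥N').map N'.subtype :=
    ⟨hP2.toSylow hPi, rfl⟩
  have hP'N : (P' : Subgroup G) ≤ N := hP' ▸ (map_subtype_le _).trans hN'N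
  obtain ⟨n, hn⟩ := MulAction.exists_smul_eq ↥N (P'.subtype hP'N) (S.subtype hSN)
  obtain ⟨N₃, hN₃⟩ : ∃ N₃, N₃ = N'.map (MulAut.conj (n : G)).toMonoidHom := ⟨_, rfl⟩
  have hSN₃ : (S : Subgroup G) ≤ N₃ := by
    intro s hs
    have h1 : (⟨s, hSN hs⟩ : ↥N) ∈ (S.subtype hSN : Subgroup ↥N) := hs
    rw [← hn] at h1
    obtain ⟨p, hp, hpe⟩ := h1
    rw [hN₃]
    refine ⟨(p : G), ?_, congrArg Subtype.val hpe⟩
    exact map_subtype_le (H := N') (P : Subgroup ↥N') (hP' ▸ hp)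
  have hN₃N : N₃ ≤ N := by
    rw [hN₃]
    exact (map_mono hN'N).trans (mem_normalizer_iff_map_conj_eq.1 (le_normalizer n.2 : (n : G) ∈ normalizer (N : Set G))).le
  have hN₃M : N₃ ⊔ M = ⊤ := by
    rw [hN₃, ← mem_normalizer_iff_map_conj_eq.1 (le_normalizer_of_normal (H := M) (mem_top (n : G))),
      MulEquiv.toMonoidHom_eq_coe, ← Subgroup.map_sup, hN'top, Subgroup.map_top_of_surjective _ (MulEquiv.surjective _)]
  have hgood₃ : Good ↥N₃ := by
    rw [hN₃]
    exact good_of_surjective (N'.equivMapOfInjective _ (MulAut.conj (n : G)).injective).toMonoidHom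
      (MulEquiv.surjective _) hgood'
  have hN₃lt : N₃ ≠ ⊤ := fun h => hNlt (top_le_iff.1 (h ▸ hN₃N))
  have hsub₂ := theta_sub b.ih (b.hyp.of_le ((CfsgLib.Core.pCore_le_sylow S).trans hSN₃) hgood₃) hN₃lt hSN₃ S.2
    (sylow_relIndex_not_dvd S hSN₃) b.le b.elem b.norm b.eprop
  refine b.bad (ncl_le_of_conj fun g j hj => ?_)
  obtain ⟨m, hm, n₀, hn₀, rfl⟩ := mem_sup_of_normal_left.1 (sup_comm N₃ M ▸ hN₃M ▸ mem_top g : g ∈ M ⊔ N₃)
  obtain ⟨⟨k, hk, -, n₁, hn₁, rfl⟩, -⟩ := hsub₂ n₀ hn₀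
  have hj' : n₁ * j * n₁⁻¹ ∈ J := hJ ▸ (mem_normalizer_iff.1 hn₁ j).1 hj
  have h1 := (hsub₁ (k⁻¹ * m * k) (mem_sup_left (hMn.conj_mem' m hm k))).2 _ (hje₁.symm ▸ hj')
  have h2 := mul_mem (mul_mem hk h1) (inv_mem hk)
  rwa [show k * (k⁻¹ * m * k * (n₁ * j * n₁⁻¹) * (k⁻¹ * m * k)⁻¹) * k⁻¹ =
    m * (k * n₁) * j * (m * (k * n₁))⁻¹ by group] at h2

/-- a normal subgroup contains all elements of odd order or meets `S` inside `O₂(G)` -/
theorem dichotomy (b : Bad S V) {K : Subgroup G} (hK : K.Normal) :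
    (∀ g : G, Odd (orderOf g) → g ∈ K) ∨ (K ⊔ Cfsg.pCore 2 G) ⊓ (S : Subgroup G) ≤ Cfsg.pCore 2 G := by
  haveI : Fact (Nat.Prime 2) := ⟨Nat.prime_two⟩
  haveI := hK
  by_cases h : (K ⊔ Cfsg.pCore 2 G) ⊓ (S : Subgroup G) ≤ Cfsg.pCore 2 G
  · exact Or.inr h
  refine Or.inl fun g hg => ?_
  have htop := b.sup_top (M := K ⊔ Cfsg.pCore 2 G) inferInstance le_sup_right h
  exact odd_mem_of_sup (CfsgLib.Core.isPGroup_pCore 2 G) hg
    (odd_mem_of_sup (S.2.to_le (je_le_self _)) hg (htop ▸ mem_top g))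

end Bad

end CfsgLib.LocalEven.Factor
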