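import Cfsg.Agent.Lib.LocalEven.Factor.Three
import Cfsg.Agent.Lib.PLocal.PConstrained
import Cfsg.Agent.Lib.LocalEvenB.AlperinStrong

/-!
# Groups whose sections of characteristic `2` have small composition factors

* `Local G`, `Local.subgroup`, `Local.quotient`
* `Local.hyp_quot`: a centric normal `2`-subgroup gives `Hyp (G / O(G))`
* `zS S`: `Ω₁(Z(S))`; `conj_adjust`: the Frattini decomposition respecting a conjugation inside `S`
* `eprop_centric`, `normal_of_centric`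
-/

set_option autoImplicit false
set_option linter.all false

namespace CfsgLib.LocalEven.Factor

open Subgroup
open scoped commutatorElement

universe u

/-- no section `S₄`; every section of characteristic `2` has small composition factors -/
structure Local (G : Type u) [Group G] : Prop where
  free : ¬ Cfsg.Involves (Equiv.Perm (Fin 4)) G
  good : ∀ (K : Subgroup G) (H : Type u) [Group H] [Finite H] (f : ↥K →* H), Function.Surjective f →
    centralizer (Cfsg.pCore 2 H : Set H) ≤ Cfsg.pCore 2 H → Good H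

variable {G : Type u} [Group G]

theorem Local.mk' (hfree : ¬ Cfsg.Involves (Equiv.Perm (Fin 4)) G)
    (hsec : ∀ (K R : Subgroup G) [hR : (R.subgroupOf K).Normal],
      Subgroup.centralizer (Cfsg.pCore 2 (K ⧸ R.subgroupOf K) : Set (K ⧸ R.subgroupOf K)) ≤
        Cfsg.pCore 2 (K ⧸ R.subgroupOf K) →
      Cfsg.IsCompositionKGroupWith Cfsg.IsSuzukiOrPSL2OddPowerThree (K ⧸ R.subgroupOf K)) : Local G := by
  refine ⟨hfree, fun K H _ _ f hf hchar => ?_⟩
  obtain ⟨R, hR⟩ : ∃ R, R = f.ker.map K.subtype := ⟨_, rfl⟩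
  have hRK : R.subgroupOf K = f.ker := by
    rw [hR, subgroupOf, comap_map_eq_self_of_injective K.subtype_injective]
  haveI : (R.subgroupOf K).Normal := hRK ▸ inferInstance
  let e : (↥K ⧸ R.subgroupOf K) ≃* H :=
    (QuotientGroup.quotientMulEquivOfEq hRK).trans (QuotientGroup.quotientKerEquivOfSurjective f hf)
  refine good_of_surjective e.toMonoidHom e.surjective (hsec K R ?_)
  exact CfsgLib.PLocal.centralizer_pCore_le_congr e.symm hchar

theorem Local.subgroup (h : Local G) (L : Subgroup G) : Local ↥L := by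
  refine ⟨free_subgroup h.free L, fun K H _ _ f hf hchar => ?_⟩
  let e := K.equivMapOfInjective L.subtype L.subtype_injective
  exact h.good (K.map L.subtype) H (f.comp e.symm.toMonoidHom) (hf.comp e.symm.surjective) hchar

theorem Local.quotient (h : Local G) (N : Subgroup G) [N.Normal] : Local (G ⧸ N) := by
  refine ⟨free_of_surjective _ (QuotientGroup.mk'_surjective N) h.free, fun K H _ _ f hf hchar => ?_⟩
  exact h.good (K.comap (QuotientGroup.mk' N)) H (f.comp ((QuotientGroup.mk' N).subgroupComap K))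
    (hf.comp ((QuotientGroup.mk' N).subgroupComap_surjective_of_surjective K (QuotientGroup.mk'_surjective N))) hchar

variable [Finite G]

/-- a centric normal `2`-subgroup -/
theorem Local.hyp_quot (h : Local G) (S : Sylow 2 G) {Q : Subgroup G} [Q.Normal] (hQ : IsPGroup 2 Q)
    (hc : (S : Subgroup G) ⊓ centralizer (Q : Set G) ≤ Q) :
    ∃ (O : Subgroup G) (_ : O.Normal), (Nat.card O).Coprime 2 ∧ O ≤ centralizer (Q : Set G) ∧
      Hyp (G ⧸ O) := by
  haveI : Fact (Nat.Prime 2) := ⟨Nat.prime_two⟩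
  obtain ⟨C, hC⟩ : ∃ C, C = centralizer (Q : Set G) := ⟨_, rfl⟩
  haveI hCn : C.Normal := hC ▸ inferInstance
  obtain ⟨T, hT⟩ := exists_sylow_inf S C
  have hTQ : (T : Subgroup ↥C).map C.subtype ≤ Q := hT ▸ hC ▸ (inf_comm _ _).le.trans hc
  have hTc : (T : Subgroup ↥C) ≤ center ↥C := fun t ht => mem_center_iff.2 fun z => Subtype.ext
    (mem_centralizer_iff.1 (hC.le z.2) t (hTQ (mem_map_of_mem _ ht))).symm
  haveI : (T : Subgroup ↥C).Normal := ⟨fun t ht g => by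
    rw [mem_center_iff.1 (hTc ht) g, mul_inv_cancel_right]; exact ht⟩
  obtain ⟨D, hD⟩ := exists_right_complement'_of_coprime (N := (T : Subgroup ↥C)) T.card_coprime_index
  have hDc : (Nat.card D).Coprime 2 := by
    rw [Nat.coprime_two_right, ← Nat.not_even_iff_odd, even_iff_two_dvd]
    have h1 : Nat.card D = (T : Subgroup ↥C).index := hD.symm.index_eq_card.symm
    rw [h1]
    exact T.not_dvd_index
  have hDodd : ∀ z : ↥C, Odd (orderOf z) → z ∈ D := by
    intro z hz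
    obtain ⟨⟨t, d⟩, htd⟩ := hD.existsUnique z |>.exists
    have hcm : Commute (t : ↥C) (d : ↥C) := (mem_center_iff.1 (hTc t.2) d).symm
    obtain ⟨k, hk⟩ := T.2 ⟨t, t.2⟩
    have hk' : (t : ↥C) ^ 2 ^ k = 1 := congrArg Subtype.val hk
    have h1 : z ^ 2 ^ k ∈ D := by rw [← htd, hcm.mul_pow, hk', one_mul]; exact pow_mem d.2 _
    obtain ⟨j, hj⟩ := exists_pow_eq_self_of_coprime ((Nat.coprime_two_left.2 hz).pow_left k)
    rw [← hj]; exact pow_mem h1 j
  obtain ⟨O₁, hO₁⟩ : ∃ O₁, O₁ = D.map C.subtype := ⟨_, rfl⟩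
  have hO₁n : O₁.Normal := ⟨fun x hx g => by
    rw [hO₁] at hx ⊢
    obtain ⟨d, hd, rfl⟩ := hx
    refine ⟨⟨g * d * g⁻¹, hCn.conj_mem d d.2 g⟩, hDodd _ ?_, rfl⟩
    rw [← Subgroup.orderOf_coe]
    show Odd (orderOf (g * (d : G) * g⁻¹))
    rw [show g * (d : G) * g⁻¹ = MulAut.conj g (d : G) from rfl, MulEquiv.orderOf_eq, Subgroup.orderOf_coe]
    rw [← Nat.not_even_iff_odd, even_iff_two_dvd]
    intro h2
    exact Nat.prime_two.not_dvd_one (hDc ▸ Nat.dvd_gcd (h2.trans (D.orderOf_dvd_natCard hd)) dvd_rfl)⟩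
  have hO₁c : (Nat.card O₁).Coprime 2 := by
    rw [hO₁, card_map_of_injective C.subtype_injective]; exact hDc
  obtain ⟨O, hO⟩ : ∃ O, O = Cfsg.pPrimeCore 2 G := ⟨_, rfl⟩
  haveI hOn : O.Normal := hO ▸ CfsgLib.Core.normal_pPrimeCore 2 G
  have hOc : (Nat.card O).Coprime 2 := hO ▸ CfsgLib.Core.coprime_card_pPrimeCore 2 G
  have hO₁O : O₁ ≤ O := hO ▸ CfsgLib.Core.le_pPrimeCore hO₁c
  have hOQ : O ≤ C := by
    rw [hC, ← commutator_eq_bot_iff_le_centralizer, ← le_bot_iff]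
    refine le_trans (le_inf (commutator_le_left O Q) (commutator_le_right O Q)) (le_of_eq ?_)
    obtain ⟨k, hk⟩ := IsPGroup.iff_card.1 hQ
    exact inf_eq_bot_of_coprime (by rw [hk]; exact hOc.pow_right k)
  have hCle : C ≤ Q ⊔ O := by
    intro z hz
    obtain ⟨⟨t, d⟩, htd⟩ := hD.existsUnique (⟨z, hz⟩ : ↥C) |>.exists
    rw [show z = (t : G) * (d : G) from (congrArg Subtype.val htd).symm]
    exact mul_mem (mem_sup_left (hTQ (mem_map_of_mem _ t.2))) (mem_sup_right (hO₁O (hO₁ ▸ mem_map_of_mem _ d.2)))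
  refine ⟨O, hOn, hOc, hC ▸ hOQ, ?_⟩
  obtain ⟨π, hπ⟩ : ∃ π, π = QuotientGroup.mk' O := ⟨_, rfl⟩
  have hπs : Function.Surjective π := hπ ▸ QuotientGroup.mk'_surjective O
  have hchar : centralizer (Cfsg.pCore 2 (G ⧸ O) : Set (G ⧸ O)) ≤ Cfsg.pCore 2 (G ⧸ O) := by
    haveI : (Q.map π).Normal := Subgroup.Normal.map ‹_› π hπs
    have hQ' : Q.map π ≤ Cfsg.pCore 2 (G ⧸ O) := CfsgLib.Core.le_pCore (hQ.map π)
    refine (centralizer_le (SetLike.coe_subset_coe.2 hQ')).trans (le_trans ?_ hQ')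
    rw [hπ, ← CfsgLib.PLocal.map_centralizer_eq O hOc hQ, ← hπ, ← hC]
    refine (map_mono hCle).trans ?_
    rw [Subgroup.map_sup, (Subgroup.map_eq_bot_iff O).2 (by rw [hπ, QuotientGroup.ker_mk']), sup_bot_eq]
  exact ⟨hchar, free_of_surjective π hπs h.free,
    h.good ⊤ (G ⧸ O) (π.comp (⊤ : Subgroup G).subtype) (fun z => by
      obtain ⟨g, rfl⟩ := hπs z; exact ⟨⟨g, mem_top g⟩, rfl⟩) hchar⟩

/-- a conjugation inside `S` decomposed along a normal subgroup, staying inside `S` -/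
theorem conj_adjust (S : Sylow 2 G) (C : Subgroup G) [C.Normal] {X : Set G} {g : G}
    (hX : X ⊆ (S : Subgroup G)) (hg : ∀ x ∈ X, g⁻¹ * x * g ∈ (S : Subgroup G)) :
    ∃ c ∈ C, ∃ n ∈ normalizer ((C ⊓ (S : Subgroup G) : Subgroup G) : Set G), g = c * n ∧
      ∀ x ∈ X, c⁻¹ * x * c ∈ (S : Subgroup G) := by
  haveI : Fact (Nat.Prime 2) := ⟨Nat.prime_two⟩
  obtain ⟨c₀, hc₀, n₀, hn₀, rfl⟩ := exists_mul_of_normal S (C := C) g
  obtain ⟨T, hT⟩ : ∃ T, T = C ⊓ (S : Subgroup G) := ⟨_, rfl⟩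
  rw [← hT] at hn₀ ⊢
  obtain ⟨N, hN⟩ : ∃ N, N = normalizer (T : Set G) := ⟨_, rfl⟩
  rw [← hN] at hn₀ ⊢
  have hSN : (S : Subgroup G) ≤ N := hN ▸ hT ▸ le_normalizer_iff.2 fun s hs x hx =>
    mem_inf.2 ⟨(inferInstance : C.Normal).conj_mem x hx.1 s, mul_mem (mul_mem hs hx.2) ((S : Subgroup G).inv_mem hs)⟩
  obtain ⟨P, hP⟩ : ∃ P, P = T ⊔ closure X := ⟨_, rfl⟩
  have hXS : closure X ≤ (S : Subgroup G) := (closure_le _).2 hX
  have hPS : P ≤ (S : Subgroup G) := hP ▸ sup_le (hT ▸ inf_le_right) hXS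
  obtain ⟨K, hK⟩ : ∃ K, K = C ⊓ N := ⟨_, rfl⟩
  have hTK : T ≤ K := hK ▸ le_inf (hT ▸ inf_le_left) (hN ▸ le_normalizer)
  have hPK : P ≤ normalizer (K : Set G) := hK ▸
    (le_inf le_normalizer_of_normal ((hPS.trans hSN).trans le_normalizer)).trans inf_normalizer_le_normalizer_inf
  have hidx : ¬ 2 ∣ P.relIndex (K ⊔ P) := by
    intro h2
    have e1 : Nat.card ↥(K ⊔ P) * Nat.card ↥(P ⊓ K) = Nat.card P * Nat.card K := by
      rw [sup_comm]; exact (PLocal.card_sup_mul_card_inf P K hPK).symm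
    have e2 : Nat.card P * P.relIndex (K ⊔ P) = Nat.card ↥(K ⊔ P) := by
      rw [← relIndex_bot_left, ← relIndex_bot_left, relIndex_mul_relIndex _ _ _ bot_le le_sup_right]
    have e3 : Nat.card ↥(P ⊓ K) * P.relIndex K = Nat.card K := by
      rw [inf_comm]; exact card_inf_mul_relIndex K P
    have h3 : P.relIndex (K ⊔ P) = P.relIndex K := by
      refine Nat.eq_of_mul_eq_mul_left (Nat.mul_pos (Nat.card_pos (α := ↥P)) (Nat.card_pos (α := ↥(P ⊓ K)))) ?_
      calc _ = Nat.card P * P.relIndex (K ⊔ P) * Nat.card ↥(P ⊓ K) := by ring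
        _ = Nat.card P * (Nat.card ↥(P ⊓ K) * P.relIndex K) := by rw [e2, e1, e3]
        _ = _ := by ring
    rw [h3] at h2
    have h4 : P.relIndex K ∣ T.relIndex K := relIndex_dvd_of_le_left K (hP ▸ le_sup_left)
    have h5 : T.relIndex K ∣ T.relIndex C := ⟨K.relIndex C, (relIndex_mul_relIndex T K C hTK (hK ▸ inf_le_left)).symm⟩
    rw [hT, inf_relIndex_left] at h5
    exact S.not_dvd_index (((h2.trans h4).trans (hT ▸ h5)).trans (CfsgLib.HallGen.relIndex_dvd_index_right _ _))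
  have hY : ∀ x ∈ X, c₀⁻¹ * x * c₀ ∈ K ⊔ P := by
    intro x hx
    have h1 : c₀⁻¹ * x * c₀ ∈ N := by
      have := mul_mem (mul_mem hn₀ (hSN (hg x hx))) (N.inv_mem hn₀)
      rwa [show n₀ * ((c₀ * n₀)⁻¹ * x * (c₀ * n₀)) * n₀⁻¹ = c₀⁻¹ * x * c₀ by group] at this
    have h2 : c₀⁻¹ * x * c₀ * x⁻¹ ∈ K := by
      rw [hK]
      refine mem_inf.2 ⟨?_, mul_mem h1 (N.inv_mem (hSN (hX hx)))⟩
      rw [mul_assoc c₀⁻¹ x, mul_assoc c₀⁻¹]
      exact mul_mem (C.inv_mem hc₀) ((inferInstance : C.Normal).conj_mem c₀ hc₀ x)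
    rw [show c₀⁻¹ * x * c₀ = (c₀⁻¹ * x * c₀ * x⁻¹) * x by group]
    exact mul_mem_sup h2 (hP ▸ mem_sup_right (subset_closure hx))
  obtain ⟨e, he, heP⟩ := CfsgLib.Transfer.exists_conj_le (S := (closure X).map (MulAut.conj c₀⁻¹).toMonoidHom)
    (S.2.to_le hPS) hidx (by
      rw [map_le_iff_le_comap, closure_le]
      intro x hx
      show c₀⁻¹ * x * c₀⁻¹⁻¹ ∈ K ⊔ P
      rw [inv_inv]; exact hY x hx) ((S.2.to_le hXS).map _)
  rw [← SetLike.mem_coe, coe_mul_of_right_le_normalizer_left _ _ hPK] at he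
  obtain ⟨k, hk, p, hp, rfl⟩ := Set.mem_mul.1 he
  have hk' : k ∈ C ∧ k ∈ N := mem_inf.1 (hK ▸ hk)
  refine ⟨c₀ * k, mul_mem hc₀ hk'.1, k⁻¹ * n₀, mul_mem (N.inv_mem hk'.2) hn₀, by group, fun x hx => hPS ?_⟩
  have h1 := heP _ ⟨x, subset_closure hx, rfl⟩
  have h2 := mul_mem (mul_mem hp h1) (P.inv_mem hp)
  convert h2 using 1
  show _ = p * ((k * p)⁻¹ * (c₀⁻¹ * x * c₀⁻¹⁻¹) * (k * p)) * p⁻¹
  group

/-- `Ω₁(Z(S))` -/
noncomputable abbrev zS (S : Subgroup G) : Subgroup G := Cfsg.omegaOne 2 (S ⊓ centralizer (S : Set G))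

end CfsgLib.LocalEven.Factor
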