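import Cfsg.Agent.Lib.LocalEven.Factor.Reduce
import Cfsg.Agent.Lib.LocalEven.Factor.Fam

/-!
# A candidate in a minimal bad group lies in `O₂(G)`
-/

set_option autoImplicit false
set_option linter.all false

namespace CfsgLib.LocalEven.Factor

open Subgroup
open scoped commutatorElement

universe u

variable {G : Type u} [Group G] [Finite G]

theorem card_inf_mul_relIndex {K : Type*} [Group K] [Finite K] (X Y : Subgroup K) :
    Nat.card ↥(X ⊓ Y) * Y.relIndex X = Nat.card X := by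
  rw [← inf_relIndex_left, inf_comm, ← relIndex_bot_left, ← relIndex_bot_left,
    relIndex_mul_relIndex _ _ _ bot_le inf_le_right]

/-- an element of odd order lies in a subgroup containing the images of the elements of odd order -/
theorem mem_of_odd_lift {H : Type*} [Group H] (f : G →* H) (hf : Function.Surjective f) {K : Subgroup H}
    (h : ∀ x : G, Odd (orderOf x) → f x ∈ K) {g : H} (hg : Odd (orderOf g)) : g ∈ K := by
  obtain ⟨x, rfl⟩ := hf g
  obtain ⟨v, m, hm, hvm⟩ := Nat.exists_eq_pow_mul_and_not_dvd (orderOf_pos x).ne' 2 (by norm_num)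
  have hox : Odd (orderOf (x ^ 2 ^ v)) := by
    rw [orderOf_pow_of_dvd (by positivity) (hvm ▸ dvd_mul_right _ _), hvm, Nat.mul_div_cancel_left _ (by positivity)]
    rw [← Nat.not_even_iff_odd, even_iff_two_dvd]; exact hm
  obtain ⟨k, hk⟩ := exists_pow_eq_self_of_coprime ((Nat.coprime_two_left.2 hg).pow_left v)
  rw [← hk, ← map_pow]
  exact pow_mem (h _ hox) k

theorem relIndex_conj (X Y : Subgroup G) (g : G) :
    (X.map (MulAut.conj g).toMonoidHom).relIndex (Y.map (MulAut.conj g).toMonoidHom) = X.relIndex Y :=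
  relIndex_map_map_of_injective X Y (MulAut.conj g).injective

namespace Bad

variable {S : Sylow 2 G} {V : Subgroup G}

theorem le_core (b : Bad S V) : V ≤ Cfsg.pCore 2 G := by
  haveI : Fact (Nat.Prime 2) := ⟨Nat.prime_two⟩
  by_contra hVQ
  obtain ⟨Q, hQ⟩ : ∃ Q, Q = Cfsg.pCore 2 G := ⟨_, rfl⟩
  rw [← hQ] at hVQ
  haveI hQn : Q.Normal := hQ ▸ inferInstance
  have hQS : Q ≤ (S : Subgroup G) := hQ ▸ CfsgLib.Core.pCore_le_sylow S
  have hQ2 : IsPGroup 2 Q := S.2.to_le hQS
  obtain ⟨W, W₀, hWn, hW₀n, hW₀W, hWQ, hVn, hWe, hO, x, hx, hxW⟩ := exists_chief hQ2 (by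
    by_contra hall
    push Not at hall
    refine hVQ ?_
    have htop : (S : Subgroup G) = ⊤ := eq_top_of_odd_sylow S le_rfl fun g hg => by
      have hgQ : g ∈ Q := hQ ▸ b.hyp.char (hQ ▸ hall g hg)
      obtain ⟨k, hk⟩ := hQ2 ⟨g, hgQ⟩
      have h1 : orderOf g = 1 := Nat.eq_one_of_dvd_coprimes ((Nat.coprime_two_left.2 hg).pow_left k)
        (orderOf_dvd_of_pow_eq_one (congrArg Subtype.val hk)) dvd_rfl
      rw [orderOf_eq_one_iff.1 h1]; exact one_mem _
    haveI : (S : Subgroup G).Normal := htop ▸ inferInstance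
    exact hQ ▸ b.le.trans (CfsgLib.Core.le_pCore S.2))
  obtain ⟨Wb, hWb⟩ : ∃ Wb, Wb = W.map (QuotientGroup.mk' W₀) := ⟨_, rfl⟩
  haveI : Wb.Normal := hWb ▸ hVn
  rw [← hWb] at hWe hxW
  replace hO : Cfsg.pCore 2 ((G ⧸ W₀) ⧸ centralizer (Wb : Set (G ⧸ W₀))) = ⊥ := by subst hWb; exact hO
  obtain ⟨m, hm⟩ : ∃ m, m = QuotientGroup.mk' W₀ := ⟨_, rfl⟩
  have hms : Function.Surjective m := hm ▸ QuotientGroup.mk'_surjective W₀
  obtain ⟨hc1, hc2, hc3⟩ := range_facts Wb (free_of_surjective m hms b.hyp.free)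
    (good_of_surjective m hms b.hyp.good) hWe hO
  obtain ⟨π, hπ⟩ : ∃ π : G →* ↥(PLocal.toHol Wb).range, π = (PLocal.toHol Wb).rangeRestrict.comp m := ⟨_, rfl⟩
  have hπs : Function.Surjective π := hπ ▸ (MonoidHom.rangeRestrict_surjective _).comp hms
  have hSA : ((S.mapSurjective hπs : Sylow 2 _) : Subgroup _) ≤
      normalizer ((V.map π : Subgroup _) : Set ↥(PLocal.toHol Wb).range) := by
    rw [Sylow.coe_mapSurjective]
    exact (map_mono b.norm).trans (le_normalizer_map π)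
  have hJn : (S : Subgroup G) ≤ normalizer (je (S : Subgroup G) : Set G) :=
    le_normalizer.trans (normalizer_je _)
  have hSJ : ((S.mapSurjective hπs : Sylow 2 _) : Subgroup _) ≤
      normalizer (((je (S : Subgroup G)).map π : Subgroup _) : Set ↥(PLocal.toHol Wb).range) := by
    rw [Sylow.coe_mapSurjective]
    exact (map_mono hJn).trans (le_normalizer_map π)
  have hJA : (je (S : Subgroup G)).map π ≤
      centralizer ((V.map π : Subgroup _) : Set ↥(PLocal.toHol Wb).range) := by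
    rintro _ ⟨j, hj, rfl⟩
    refine mem_centralizer_iff.2 ?_
    rintro _ ⟨v, hv, rfl⟩
    rw [← map_mul, ← map_mul, mem_centralizer_iff.1 (b.je_facts.1 hj) v hv]
  have hfam : Fam (V.map π) := fam_of_even hc1 hc2 hc3 (PLocal.elementary_map π b.elem) (S.mapSurjective hπs) hSA
    (J := (je (S : Subgroup G)).map π) (by rw [Sylow.coe_mapSurjective]; exact map_mono (je_le_self _)) hSJ hJA
    (by rw [coe_map, ← map_normalClosure _ π hπs, b.ncl_top, Subgroup.map_top_of_surjective π hπs])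
    fun K hK hK2 g hg => by
      rcases b.dichotomy (hK.comap π) with h | h
      · exact mem_of_odd_lift π hπs h hg
      · exfalso
        obtain ⟨z, hz⟩ := exists_prime_orderOf_dvd_card' 2 hK2
        rw [← Subgroup.orderOf_coe] at hz
        obtain ⟨T, hT⟩ := (IsPGroup.of_card (n := 1) (by rw [Nat.card_zpowers, hz, pow_one]) :
          IsPGroup 2 (zpowers (z : ↥(PLocal.toHol Wb).range))).exists_le_sylow
        obtain ⟨k, hk⟩ := MulAction.exists_smul_eq ↥(PLocal.toHol Wb).range T (S.mapSurjective hπs)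
        have h1 : k * z * k⁻¹ ∈ ((S.mapSurjective hπs : Sylow 2 _) : Subgroup _) := by
          rw [← hk]; exact ⟨z, hT (mem_zpowers _), rfl⟩
        rw [Sylow.coe_mapSurjective] at h1
        obtain ⟨s, hs, hse⟩ := h1
        have hsK : s ∈ K.comap π := by rw [mem_comap, hse]; exact hK.conj_mem _ z.2 k
        have hsQ : s ∈ Cfsg.pCore 2 G := h (mem_inf.2 ⟨mem_sup_left hsK, hs⟩)
        have h2 : (Cfsg.pCore 2 G).map π ≤ Cfsg.pCore 2 _ := by
          haveI : ((Cfsg.pCore 2 G).map π).Normal := Subgroup.Normal.map inferInstance π hπs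
          exact CfsgLib.Core.le_pCore ((CfsgLib.Core.isPGroup_pCore 2 G).map π)
        have h3 := h2 (mem_map_of_mem π hsQ)
        rw [hc1, mem_bot, hse, conj_eq_one_iff] at h3
        rw [h3, orderOf_one] at hz
        norm_num at hz
  have hmap : (V.map m).map (PLocal.toHol Wb).rangeRestrict = V.map π := by rw [hπ, Subgroup.map_map]
  obtain ⟨s₀, gb, hs₀, hdet⟩ := detect_quot Wb hWe (A₀ := V.map m) (hmap ▸ PLocal.elementary_map π b.elem)
    (hmap ▸ hfam)
  obtain ⟨g₀, rfl⟩ := hms gb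
  -- the index of `V ∩ O₂(G)`
  have hK₀ : V ⊓ (centralizer (Wb : Set (G ⧸ W₀))).comap m ≤ Q := by
    rcases b.dichotomy (inferInstance : ((centralizer (Wb : Set (G ⧸ W₀))).comap m).Normal) with h | h
    · exact absurd (hm ▸ h x hx) hxW
    · exact hQ ▸ (le_inf (inf_le_right.trans le_sup_left) (inf_le_left.trans b.le)).trans h
  have hVle : Nat.card V ≤ s₀ * Nat.card ↥(V ⊓ Q) := by
    have h1 : (centralizer (Wb : Set (G ⧸ W₀))).relIndex (V.map m) ≤ s₀ := by
      refine Nat.le_of_mul_le_mul_left ?_ (Nat.card_pos (α := ↥(V.map m ⊓ centralizer (Wb : Set (G ⧸ W₀)))))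
      rw [card_inf_mul_relIndex, mul_comm]
      exact hs₀
    rw [← card_inf_mul_relIndex V ((centralizer (Wb : Set (G ⧸ W₀))).comap m), relIndex_comap, mul_comm]
    exact Nat.mul_le_mul h1 (card_le_of_le (le_inf inf_le_left hK₀))
  have hs1 : 2 ≤ s₀ := by
    by_contra h
    have h1 : Nat.card V ≤ Nat.card ↥(V ⊓ Q) := hVle.trans (by
      have : s₀ ≤ 1 := by omega
      calc s₀ * Nat.card ↥(V ⊓ Q) ≤ 1 * Nat.card ↥(V ⊓ Q) := Nat.mul_le_mul_right _ this
        _ = _ := one_mul _)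
    exact hVQ ((eq_of_le_of_card_ge inf_le_left h1).symm.le.trans inf_le_right)
  -- conjugates of `V ∩ O₂(G)`
  obtain ⟨a, ha⟩ : ∃ a : G → ℕ, ∀ g, a g =
      (centralizer (V : Set G)).relIndex ((V ⊓ Q).map (MulAut.conj g).toMonoidHom) := ⟨_, fun g => rfl⟩
  have hbase : s₀ ^ 2 ≤ a g₀ := by
    obtain ⟨X, hX⟩ : ∃ X, X = W ⊓ V.map (MulAut.conj g₀).toMonoidHom := ⟨_, rfl⟩
    have hcomm : ⁅W, V.map (MulAut.conj g₀).toMonoidHom⁆ ≤ X := by
      rw [hX, commutator_le]
      rintro w hw _ ⟨v, hv, rfl⟩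
      refine mem_inf.2 ⟨commutator_le_left W ⊤ (commutator_mem_commutator hw (mem_top _)), ?_⟩
      have hwN : g₀⁻¹ * w * g₀ ∈ normalizer (V : Set G) := b.norm (hQS (hWQ (hWn.conj_mem' w hw g₀)))
      show ⁅w, g₀ * v * g₀⁻¹⁆ ∈ _
      refine ⟨⁅g₀⁻¹ * w * g₀, v⁆, ?_, ?_⟩
      · rw [SetLike.mem_coe, commutatorElement_def]
        exact mul_mem ((mem_normalizer_iff.1 hwN v).1 hv) (inv_mem hv)
      · show g₀ * _ * g₀⁻¹ = _
        rw [commutatorElement_def, commutatorElement_def]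
        group
    have hconj : (V.map m).map (MulAut.conj (m g₀)).toMonoidHom = (V.map (MulAut.conj g₀).toMonoidHom).map m := by
      rw [Subgroup.map_map, Subgroup.map_map]
      congr 1
      ext z
      simp
    have h1 := hdet (X.map m) (hWb ▸ hm ▸ map_mono (hX ▸ inf_le_left)) (by
      rw [hconj, hWb, ← hm, ← map_commutator]; exact map_mono hcomm)
    have h2 : s₀ ^ 2 ≤ (centralizer ((V.map m : Subgroup _) : Set (G ⧸ W₀))).relIndex (X.map m) := by
      refine Nat.le_of_mul_le_mul_left ?_ (Nat.card_pos (α := ↥(X.map m ⊓ centralizer ((V.map m : Subgroup _) : Set (G ⧸ W₀)))))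
      rw [card_inf_mul_relIndex, mul_comm]
      exact h1
    refine h2.trans ?_
    rw [ha]
    refine le_trans ?_ (relIndex_le_of_le_right (K := X) ?_ index_ne_zero_of_finite)
    · refine le_trans ?_ (relIndex_map_le m (centralizer (V : Set G)) X)
      refine relIndex_le_of_le_left ?_ index_ne_zero_of_finite
      rintro _ ⟨z, hz, rfl⟩
      refine mem_centralizer_iff.2 ?_
      rintro _ ⟨v, hv, rfl⟩
      rw [← map_mul, ← map_mul, mem_centralizer_iff.1 hz v hv]
    · rw [hX]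
      rintro z ⟨hzW, v, hv, rfl⟩
      refine ⟨v, mem_inf.2 ⟨hv, ?_⟩, rfl⟩
      have := hQn.conj_mem' _ (hWQ hzW) g₀
      simpa [mul_assoc] using this
  obtain ⟨g₁, hg₁⟩ := Finite.exists_max a
  obtain ⟨R, hR⟩ : ∃ R, R = (V ⊓ Q).map (MulAut.conj g₁).toMonoidHom := ⟨_, rfl⟩
  have hRQ : R ≤ Q := by
    rw [hR]; rintro _ ⟨v, hv, rfl⟩; exact hQn.conj_mem v hv.2 g₁
  have ha1 : a g₁ = (centralizer (V : Set G)).relIndex R := hR ▸ ha g₁
  have hRe : Cfsg.IsElementaryAbelian 2 R := hR ▸ PLocal.elementary_map _ (elem_le b.elem inf_le_left)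
  have hlt := b.eprop R (hRQ.trans hQS)
    (by rw [commutator_le]; intro p hp q hq; rw [commutatorElement_eq_one_iff_mul_comm.2 (elem_comm hRe hp hq)];
        exact one_mem _)
    (fun r hr => by rw [hRe.2 r hr]; exact one_mem _) (fun hle => by
      have h1 : a g₁ = 1 := ha1 ▸ relIndex_eq_one.2 hle
      have h2 := hg₁ g₀
      nlinarith)
  have hb1 : (centralizer (R : Set G)).relIndex V ≤ s₀ * a g₁ := by
    refine Nat.le_of_mul_le_mul_left ?_ (Nat.card_pos (α := ↥(V ⊓ centralizer (R : Set G))))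
    rw [card_inf_mul_relIndex]
    refine hVle.trans ?_
    rw [← card_inf_mul_relIndex (V ⊓ Q) (centralizer (R : Set G))]
    have h1 : (centralizer (R : Set G)).relIndex (V ⊓ Q) ≤ a g₁ := by
      refine le_trans ?_ (hg₁ g₁⁻¹)
      rw [ha]
      have h2 : (centralizer ((V.map (MulAut.conj g₁).toMonoidHom : Subgroup G) : Set G)).relIndex (V ⊓ Q) =
          (centralizer (V : Set G)).relIndex ((V ⊓ Q).map (MulAut.conj g₁⁻¹).toMonoidHom) := by
        rw [← CfsgLib.LocalEvenB.map_centralizer_equiv]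
        conv_lhs => rw [← relIndex_conj _ _ g₁⁻¹, Subgroup.map_map]
        congr 1
        convert Subgroup.map_id (centralizer (V : Set G)) using 2
        ext z
        simp [mul_assoc]
      rw [← h2]
      refine relIndex_le_of_le_left (centralizer_le (SetLike.coe_subset_coe.2 ?_)) index_ne_zero_of_finite
      rw [hR]; exact map_mono inf_le_left
    calc s₀ * (Nat.card ↥(V ⊓ Q ⊓ centralizer (R : Set G)) * (centralizer (R : Set G)).relIndex (V ⊓ Q))
        ≤ s₀ * (Nat.card ↥(V ⊓ centralizer (R : Set G)) * a g₁) :=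
          Nat.mul_le_mul_left _ (Nat.mul_le_mul (card_le_of_le (inf_le_inf_right _ inf_le_left)) h1)
      _ = _ := by ring
  rw [← card_inf_mul_relIndex R (centralizer (V : Set G)),
    ← card_inf_mul_relIndex V (centralizer (R : Set G)), ← ha1] at hlt
  obtain ⟨i, hi⟩ : ∃ i, i = (centralizer (R : Set G)).relIndex V := ⟨_, rfl⟩
  obtain ⟨c, hc⟩ : ∃ c, c = Nat.card ↥(V ⊓ centralizer (R : Set G)) := ⟨_, rfl⟩
  obtain ⟨r, hr⟩ : ∃ r, r = Nat.card ↥(R ⊓ centralizer (V : Set G)) := ⟨_, rfl⟩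
  obtain ⟨A, hA⟩ : ∃ A, A = a g₁ := ⟨_, rfl⟩
  rw [← hi] at hb1 hlt
  rw [← hc, ← hr] at hlt
  rw [← hA] at hb1 hlt
  have h3 : A ^ 3 * (r ^ 3 * c ^ 2) < i ^ 2 * (r ^ 3 * c ^ 2) := by
    calc A ^ 3 * (r ^ 3 * c ^ 2) = (r * A) ^ 3 * c ^ 2 := by ring
      _ < (c * i) ^ 2 * r ^ 3 := hlt
      _ = _ := by ring
  have h4 : A ^ 3 < i ^ 2 := Nat.lt_of_mul_lt_mul_right h3
  have h5 : i ^ 2 ≤ A ^ 3 := by
    calc i ^ 2 ≤ (s₀ * A) ^ 2 := Nat.pow_le_pow_left hb1 2
      _ = s₀ ^ 2 * A ^ 2 := by ring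
      _ ≤ A * A ^ 2 := Nat.mul_le_mul_right _ (hbase.trans ((hg₁ g₀).trans hA.ge))
      _ = _ := by ring
  omega

end Bad

end CfsgLib.LocalEven.Factor
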