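import Cfsg.Agent.Lib.LocalEven.Factor.Measure

/-!
# There is no minimal bad group

* `Bad.elim`, `theta`
-/

set_option autoImplicit false
set_option linter.all false

namespace CfsgLib.LocalEven.Factor

open Subgroup
open scoped commutatorElement

universe u

variable {G : Type u} [Group G] [Finite G]

namespace Bad

variable {S : Sylow 2 G} {V : Subgroup G}

/-- the candidate is not normal -/
theorem not_normal (b : Bad S V) : ¬ V.Normal := fun h => b.bad (by
  haveI := h
  exact normalClosure_le_normal (SetLike.coe_subset_coe.2 b.je_facts.1))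

theorem normal_of_odd (b : Bad S V) {W : Subgroup G} (hS : (S : Subgroup G) ≤ normalizer (W : Set G))
    (h : ∀ g : G, Odd (orderOf g) → g ∈ normalizer (W : Set G)) : W.Normal :=
  normalizer_eq_top_iff.1 (eq_top_of_odd_sylow S hS h)

/-- a normal subgroup on which everything below `V` moves it lies in `V` -/
theorem le_of_iterate (b : Bad S V) {X : Subgroup G} (hX : X.Normal) (hXQ : X ≤ Cfsg.pCore 2 G)
    (hXc : X ≤ centralizer (X : Set G)) (hVX : V ≤ X) (hle : X ≤ V ⊔ ⁅X, Cfsg.pCore 2 G⁆) : X ≤ V := by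
  haveI : Fact (Nat.Prime 2) := ⟨Nat.prime_two⟩
  haveI := hX
  obtain ⟨W, ⟨hWn, hWX, hXW⟩, hmin⟩ := (Set.toFinite {W : Subgroup G | W.Normal ∧ W ≤ X ∧ X ≤ V ⊔ W}).exists_minimal
    ⟨X, hX, le_rfl, le_sup_right⟩
  haveI := hWn
  by_cases hW : W = ⊥
  · rwa [hW, sup_bot_eq] at hXW
  have hlt := CfsgLib.Techniques.commutator_lt_of_isPGroup (CfsgLib.Core.isPGroup_pCore 2 G) (hWX.trans hXQ) hW hWn
  refine absurd (hmin ⟨inferInstance, hlt.le.trans hWX, hle.trans (sup_le le_sup_left ?_)⟩ hlt.le) hlt.not_ge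
  refine (commutator_mono hXW le_rfl).trans ?_
  rw [commutator_le]
  intro z hz q hq
  obtain ⟨v, hv, w, hw, rfl⟩ := mem_sup_of_normal_right.1 hz
  have hvq : ⁅v, q⁆ ∈ V := by
    rw [commutatorElement_def, mul_assoc v q, mul_assoc v]
    exact mul_mem hv ((mem_normalizer_iff.1 (b.norm (b.core_le hq)) _).1 (inv_mem hv))
  have hwq : ⁅w, q⁆ ∈ ⁅W, Cfsg.pCore 2 G⁆ := commutator_mem_commutator hw hq
  have hc : v * ⁅w, q⁆ = ⁅w, q⁆ * v :=
    mem_centralizer_iff.1 (hXc (hWX (hlt.le hwq))) v (hVX hv)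
  rw [show ⁅v * w, q⁆ = v * ⁅w, q⁆ * v⁻¹ * ⁅v, q⁆ by rw [commutatorElement_def, commutatorElement_def, commutatorElement_def]; group,
    hc, mul_inv_cancel_right]
  exact mul_mem (mem_sup_right hwq) (mem_sup_left hvq)

set_option maxHeartbeats 1000000 in
theorem elim (b : Bad S V) : False := by
  haveI : Fact (Nat.Prime 2) := ⟨Nat.prime_two⟩
  obtain ⟨Q, hQ⟩ : ∃ Q, Q = Cfsg.pCore 2 G := ⟨_, rfl⟩
  haveI hQn : Q.Normal := hQ ▸ inferInstance
  have hQS : Q ≤ (S : Subgroup G) := hQ ▸ b.core_le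
  obtain ⟨X, hX⟩ : ∃ X, X = normalClosure (V : Set G) := ⟨_, rfl⟩
  haveI hXn : X.Normal := hX ▸ normalClosure_normal
  obtain ⟨hXe, hXQ⟩ := b.closure_facts
  rw [← hX] at hXe hXQ
  have hVX : V ≤ X := hX ▸ le_normalClosure
  obtain ⟨C, hC⟩ : ∃ C, C = centralizer (X : Set G) := ⟨_, rfl⟩
  haveI hCn : C.Normal := hC ▸ inferInstance
  have hCV : C ≤ centralizer (V : Set G) := hC ▸ centralizer_le (SetLike.coe_subset_coe.2 hVX)
  have hnodd : ¬ ∀ g : G, Odd (orderOf g) → g ∈ C := fun h =>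
    b.not_normal (b.normal_of_odd b.norm fun g hg => centralizer_le_normalizer _ (hCV (h g hg)))
  have hSC : (S : Subgroup G) ⊓ C ≤ Q := by
    rcases b.dichotomy hCn with h | h
    · exact absurd h hnodd
    · exact hQ ▸ (le_inf (inf_le_right.trans le_sup_left) inf_le_left).trans h
  obtain ⟨A, hA, hAQ⟩ : ∃ A, MaxEl (S : Subgroup G) A ∧ ¬ A ≤ Q := by
    by_contra h
    push Not at h
    exact b.not_le_core (hQ ▸ je_le h)
  have hAe := hA.2.1
  have hAV : A ≤ centralizer (V : Set G) := (maxEl_le_centralizer b.le b.norm b.elem b.eprop hA).1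
  have hXS : X ≤ (S : Subgroup G) := hXQ.trans b.core_le
  have hAC : A ⊓ C ≤ Q := (inf_le_inf_right _ hA.1).trans hSC
  -- the inequality from maximality
  have hmlem : ∀ D : Subgroup G, D ≤ A → Nat.card D * Nat.card ↥(X ⊓ centralizer (D : Set G)) ≤
      Nat.card A * Nat.card ↥(X ⊓ centralizer (A : Set G)) := by
    intro D hD
    have hle : D ≤ centralizer ((X ⊓ centralizer (D : Set G) : Subgroup G) : Set G) :=
      le_centralizer_iff.1 inf_le_right
    have hB := hA.2.2 (D ⊔ (X ⊓ centralizer (D : Set G))) (sup_le (hD.trans hA.1) (inf_le_left.trans hXS))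
      (elem_sup (elem_le hAe hD) (elem_le hXe inf_le_left) hle)
    rw [PLocal.card_sup_mul_card_inf D _ (hle.trans (centralizer_le_normalizer _))]
    exact Nat.mul_le_mul hB (card_le_of_le (le_inf (inf_le_right.trans inf_le_left)
      ((inf_le_left.trans hD).trans (elem_le_centralizer hAe))))
  obtain ⟨t, ht⟩ : ∃ t, t = Q.relIndex A := ⟨_, rfl⟩
  obtain ⟨a, ha⟩ : ∃ a, a = C.relIndex (A ⊓ Q) := ⟨_, rfl⟩
  have hcA : Nat.card ↥(A ⊓ Q) * t = Nat.card A := ht ▸ card_inf_mul_relIndex A Q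
  have hcQ : Nat.card ↥(A ⊓ C) * a = Nat.card ↥(A ⊓ Q) := by
    rw [ha, ← card_inf_mul_relIndex (A ⊓ Q) C, inf_assoc, inf_comm Q C, ← inf_assoc, inf_eq_left.2 hAC]
  have ht2 : 2 ≤ t := by
    have h0 : t ≠ 0 := ht ▸ index_ne_zero_of_finite
    have h1 : t ≠ 1 := fun h => hAQ (relIndex_eq_one.1 (ht ▸ h))
    omega
  obtain ⟨i, hi⟩ : ∃ i, i = (centralizer (A : Set G)).relIndex X := ⟨_, rfl⟩
  have hile : i ≤ t * a := by
    have h1 := hmlem (A ⊓ C) inf_le_left
    rw [inf_eq_left.2 (show X ≤ centralizer ((A ⊓ C : Subgroup G) : Set G) from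
      le_centralizer_iff.1 (inf_le_right.trans hC.le))] at h1
    rw [← card_inf_mul_relIndex X (centralizer (A : Set G)), ← hi, ← hcA, ← hcQ] at h1
    refine Nat.le_of_mul_le_mul_left ?_ (Nat.mul_pos (Nat.card_pos (α := ↥(A ⊓ C)))
      (Nat.card_pos (α := ↥(X ⊓ centralizer (A : Set G)))))
    calc _ = Nat.card ↥(A ⊓ C) * (Nat.card ↥(X ⊓ centralizer (A : Set G)) * i) := by ring
      _ ≤ _ := h1
      _ = _ := by ring
  have hsqA : ∀ {H : Subgroup G}, H ≤ A → ⁅H, H⁆ ≤ C ∧ ∀ r ∈ H, r ^ 2 ∈ C := fun {H} hH => by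
    refine ⟨?_, fun r hr => by rw [hAe.2 r (hH hr)]; exact one_mem _⟩
    rw [commutator_le]
    intro p hp q hq
    rw [commutatorElement_eq_one_iff_mul_comm.2 (elem_comm hAe (hH hp) (hH hq))]
    exact one_mem _
  have hK : ∀ K : Subgroup G, K.Normal → (∀ g : G, Odd (orderOf g) → g ∈ K) ∨ A ⊓ K ≤ Cfsg.pCore 2 G := by
    intro K hK
    rcases b.dichotomy hK with h | h
    · exact Or.inl h
    · exact Or.inr ((le_inf (inf_le_right.trans le_sup_left) (inf_le_left.trans hA.1)).trans h)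
  have hconv : ∀ {n : ℕ}, Nat.card A ^ 2 ≤ n * Nat.card ↥(A ⊓ Cfsg.pCore 2 G) ^ 2 → t ^ 2 ≤ n := fun {n} h => by
    rw [← hQ, ← hcA, mul_pow, mul_comm] at h
    exact Nat.le_of_mul_le_mul_right h (pow_pos Nat.card_pos 2)
  obtain ⟨X1, hX1⟩ : ∃ X1, X1 = ⁅X, Q⁆ := ⟨_, rfl⟩
  haveI hX1n : X1.Normal := hX1 ▸ inferInstance
  have hX1X : X1 ≤ X := hX1 ▸ commutator_le_left _ _
  -- the top quotient
  obtain ⟨i2, hi2⟩ : ∃ i2, i2 = (centralizer ((A.map (QuotientGroup.mk' X1) : Subgroup (G ⧸ X1)) : Set (G ⧸ X1))).relIndex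
      (X.map (QuotientGroup.mk' X1)) := ⟨_, rfl⟩
  have hti2 : t ^ 2 ≤ i2 := by
    haveI : (X.map (QuotientGroup.mk' X1)).Normal := Subgroup.Normal.map hXn _ (QuotientGroup.mk'_surjective X1)
    rcases dich b.hyp (QuotientGroup.mk' X1) (QuotientGroup.mk'_surjective X1)
      ((S.2.to_le hXS).map (QuotientGroup.mk' X1)) hAe hK with h | h
    · exfalso
      have hVn : (V ⊔ X1).Normal := by
        refine b.normal_of_odd (fun s hs => mem_normalizer_iff_map_conj_eq.2 ?_) fun g hg =>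
          mem_normalizer_iff.2 ?_
        · rw [Subgroup.map_sup, mem_normalizer_iff_map_conj_eq.1 (b.norm hs),
            mem_normalizer_iff_map_conj_eq.1 (le_normalizer_of_normal (H := X1) (mem_top s))]
        · have key : ∀ k : G, Odd (orderOf k) → ∀ z ∈ V ⊔ X1, k * z * k⁻¹ ∈ V ⊔ X1 := by
            intro k hk z hz
            have h1 := h k hk
            have h2 := mem_centralizer_iff.1 h1 _ (mem_map_of_mem _ (sup_le hVX hX1X hz))
            rw [← map_mul, ← map_mul] at h2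
            have h3 : z⁻¹ * (k * z * k⁻¹) ∈ X1 := by
              rw [← QuotientGroup.eq_one_iff]
              show QuotientGroup.mk' X1 _ = 1
              rw [map_mul, map_inv, map_mul, ← h2, ← map_mul, mul_inv_cancel_right, inv_mul_cancel]
            have := mul_mem hz (mem_sup_right (S := V) h3)
            rwa [mul_inv_cancel_left] at this
          exact fun z => ⟨key g hg z, fun hz => by
            simpa [mul_assoc] using key g⁻¹ (by rwa [orderOf_inv]) _ hz⟩
      have h1 : X ≤ V ⊔ X1 := hX.le.trans (normalClosure_le_normal (SetLike.coe_subset_coe.2 le_sup_left))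
      refine b.not_normal ?_
      rw [show V = X from le_antisymm hVX (b.le_of_iterate hXn hXQ (elem_le_centralizer hXe) hVX (hQ ▸ hX1 ▸ h1))]
      exact hXn
    · exact hi2 ▸ hconv h.1
  have hiprod : (centralizer (A : Set G)).relIndex X1 * i2 ≤ i := by
    obtain ⟨Y, hY⟩ : ∃ Y, Y = X ⊓ (centralizer (A : Set G) ⊔ X1) := ⟨_, rfl⟩
    have h1 : i2 ≤ Y.relIndex X := by
      rw [hY, inf_relIndex_left]
      refine le_trans ?_ (le_of_eq (show ((centralizer (A : Set G)).map (QuotientGroup.mk' X1)).relIndex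
        (X.map (QuotientGroup.mk' X1)) = _ by rw [← relIndex_comap, comap_map_eq, QuotientGroup.ker_mk']))
      rw [hi2]
      refine relIndex_le_of_le_left ?_ index_ne_zero_of_finite
      rintro _ ⟨z, hz, rfl⟩
      refine mem_centralizer_iff.2 ?_
      rintro _ ⟨w, hw, rfl⟩
      rw [← map_mul, ← map_mul, mem_centralizer_iff.1 hz w hw]
    have h2 : (centralizer (A : Set G)).relIndex X1 ≤ (centralizer (A : Set G)).relIndex Y :=
      relIndex_le_of_le_right (hY ▸ le_inf hX1X le_sup_right) index_ne_zero_of_finite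
    refine (Nat.mul_le_mul h2 h1).trans (le_of_eq ?_)
    have h3 := relIndex_mul_relIndex (X ⊓ centralizer (A : Set G)) Y X
      (hY ▸ inf_le_inf_left _ le_sup_left) (hY ▸ inf_le_left)
    rw [inf_relIndex_left] at h3
    rw [hi, ← h3]
    congr 1
    rw [← inf_relIndex_right (centralizer (A : Set G)) Y, ← inf_relIndex_right (X ⊓ centralizer (A : Set G)) Y]
    congr 1
    rw [inf_right_comm, inf_eq_right.2 (hY ▸ inf_le_left : Y ≤ X), inf_comm]
  have hi1pos : 1 ≤ (centralizer (A : Set G)).relIndex X1 := Nat.pos_of_ne_zero index_ne_zero_of_finite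
  -- odd elements centralize `[X, Q]`
  by_cases hX1odd : ∀ g : G, Odd (orderOf g) → g ∈ centralizer (X1 : Set G)
  swap
  · have hti1 : t ^ 2 ≤ (centralizer (A : Set G)).relIndex X1 := by
      rcases dich b.hyp (MonoidHom.id G) Function.surjective_id (S.2.to_le (hX1X.trans hXS)) hAe hK with h | h
      · exact absurd h hX1odd
      · rw [Subgroup.map_id] at h; exact hconv h.1
    have h4 : t ^ 2 * t ^ 2 ≤ t * a := (Nat.mul_le_mul hti1 hti2).trans (hiprod.trans hile)
    have ha3 : t ^ 3 ≤ a := Nat.le_of_mul_le_mul_left (show t * t ^ 3 ≤ t * a from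
      le_trans (le_of_eq (by ring)) h4) (by omega)
    have hne : ¬ A ⊓ Q ≤ C := fun hle => by
      have : a = 1 := ha ▸ relIndex_eq_one.2 hle
      have := Nat.le_self_pow (n := 3) (by norm_num) t
      omega
    have h5 := b.eprop_closure (A ⊓ Q) (hQ ▸ inf_le_right) (hX ▸ hC ▸ (hsqA inf_le_left).1)
      (hX ▸ hC ▸ (hsqA inf_le_left).2) (hX ▸ hC ▸ hne)
    rw [← hX, ← hC, ← ha] at h5
    have h6 : (centralizer ((A ⊓ Q : Subgroup G) : Set G)).relIndex X ≤ t * a :=
      (relIndex_le_of_le_left (centralizer_le (SetLike.coe_subset_coe.2 inf_le_left)) index_ne_zero_of_finite).trans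
        (hi ▸ hile)
    have h7 : a ^ 3 < (t * a) ^ 2 := h5.trans_le (Nat.pow_le_pow_left h6 2)
    have h8 : (t * a) ^ 2 ≤ a ^ 3 := by
      calc (t * a) ^ 2 = t ^ 2 * a ^ 2 := by ring
        _ ≤ a * a ^ 2 := Nat.mul_le_mul_right _ ((Nat.pow_le_pow_right (by omega) (by norm_num)).trans ha3)
        _ = _ := by ring
    omega
  -- `[X, Q]` is central
  have hX1V : X1 ≤ V := by
    obtain ⟨V0, hV0⟩ : ∃ V0, V0 = ⁅V, Q⁆ := ⟨_, rfl⟩
    have hV0X1 : V0 ≤ X1 := hV0 ▸ hX1 ▸ commutator_mono hVX le_rfl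
    have hV0V : V0 ≤ V := by
      rw [hV0, commutator_le]
      intro v hv q hq
      rw [commutatorElement_def, mul_assoc v q, mul_assoc v]
      exact mul_mem hv ((mem_normalizer_iff.1 (b.norm (hQS hq)) _).1 (inv_mem hv))
    haveI hV0n : V0.Normal := by
      refine b.normal_of_odd (fun s hs => mem_normalizer_iff_map_conj_eq.2 ?_) fun g hg =>
        centralizer_le_normalizer _ (centralizer_le (SetLike.coe_subset_coe.2 hV0X1) (hX1odd g hg))
      rw [hV0, map_commutator, mem_normalizer_iff_map_conj_eq.1 (b.norm hs),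
        mem_normalizer_iff_map_conj_eq.1 (le_normalizer_of_normal (H := Q) (mem_top s))]
    refine le_trans ?_ hV0V
    obtain ⟨Z, hZ⟩ : ∃ Z, Z = (centralizer ((Q.map (QuotientGroup.mk' V0) : Subgroup (G ⧸ V0)) : Set (G ⧸ V0))).comap
      (QuotientGroup.mk' V0) := ⟨_, rfl⟩
    haveI : (Q.map (QuotientGroup.mk' V0)).Normal := Subgroup.Normal.map hQn _ (QuotientGroup.mk'_surjective V0)
    have hVZ : V ≤ Z := fun v hv => by
      rw [hZ, mem_comap, mem_centralizer_iff]
      rintro _ ⟨q, hq, rfl⟩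
      refine (commutatorElement_eq_one_iff_mul_comm.1 ?_).symm
      rw [← map_commutatorElement]
      exact (QuotientGroup.eq_one_iff _).2 (hV0 ▸ commutator_mem_commutator hv hq)
    have hXZ : X ≤ Z := by
      haveI : Z.Normal := hZ ▸ inferInstance
      exact hX ▸ normalClosure_le_normal (SetLike.coe_subset_coe.2 hVZ)
    rw [hX1, commutator_le]
    intro x hx q hq
    rw [← QuotientGroup.eq_one_iff]
    show QuotientGroup.mk' V0 _ = 1
    rw [map_commutatorElement, commutatorElement_eq_one_iff_mul_comm]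
    exact (mem_centralizer_iff.1 (mem_comap.1 (hZ ▸ hXZ hx)) _ (mem_map_of_mem _ hq)).symm
  have hX1top : ∀ x : G, x ∈ centralizer (X1 : Set G) := by
    intro x
    have h1 : normalClosure (je (S : Subgroup G) : Set G) ≤ centralizer (X1 : Set G) :=
      normalClosure_le_normal (SetLike.coe_subset_coe.2
        (b.je_facts.1.trans (centralizer_le (SetLike.coe_subset_coe.2 hX1V))))
    exact h1 (b.ncl_top.ge (mem_top x))
  have hd1 : ∀ q ∈ Q, ∀ x ∈ X, ⁅q, x⁆ ∈ X1 := fun q hq x hx => by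
    rw [← commutatorElement_inv, inv_mem_iff, hX1]; exact commutator_mem_commutator hx hq
  have hQQ : ⁅Q, Q⁆ ≤ C := by
    have h0 : ⁅⁅X, Q⁆, Q⁆ = ⊥ := by
      rw [← hX1, commutator_eq_bot_iff_le_centralizer]
      exact fun z hz => mem_centralizer_iff.2 fun q hq => (mem_centralizer_iff.1 (hX1top q) z hz).symm
    have h1 : ⁅⁅Q, Q⁆, X⁆ = ⊥ := commutator_commutator_eq_bot_of_rotate (by rw [commutator_comm Q X, h0]) h0
    rw [commutator_eq_bot_iff_le_centralizer] at h1
    exact hC ▸ h1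
  have hQsq : ∀ q ∈ Q, q ^ 2 ∈ C := by
    intro q hq
    rw [hC, mem_centralizer_iff]
    intro x hx
    obtain ⟨d, hd⟩ : ∃ d, d = ⁅q, x⁆ := ⟨_, rfl⟩
    have hdX1 : d ∈ X1 := hd ▸ hd1 q hq x hx
    have hqd : q * d * q⁻¹ = d := by rw [← mem_centralizer_iff.1 (hX1top q) d hdX1, mul_inv_cancel_right]
    have hd2 : d * d = 1 := by rw [← pow_two]; exact hXe.2 d (hX1X hdX1)
    have h1 : q ^ 2 * x * (q ^ 2)⁻¹ = x := by
      calc q ^ 2 * x * (q ^ 2)⁻¹ = q * (⁅q, x⁆ * x) * q⁻¹ := by rw [commutatorElement_def, pow_two]; group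
        _ = (q * d * q⁻¹) * (q * x * q⁻¹) := by rw [← hd]; group
        _ = d * (⁅q, x⁆ * x) := by rw [hqd, commutatorElement_def]; group
        _ = _ := by rw [← hd, ← mul_assoc, hd2, one_mul]
    exact (mul_inv_eq_iff_eq_mul.1 h1).symm
  -- the module induced by `Q`
  obtain ⟨f, hf⟩ : ∃ f, f = (PLocal.toHol X).rangeRestrict := ⟨_, rfl⟩
  have hfs : Function.Surjective f := hf ▸ MonoidHom.rangeRestrict_surjective _
  haveI : (Q.map f).Normal := Subgroup.Normal.map hQn f hfs
  have hQf : IsPGroup 2 ↥(Q.map f) := (S.2.to_le hQS).map f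
  rcases dich b.hyp f hfs hQf hAe hK with hodd | hpair
  · -- `A ∩ Q` would centralize `X`
    obtain ⟨R1, hR1⟩ : ∃ R1, R1 = Q ⊓ centralizer (V : Set G) := ⟨_, rfl⟩
    have hR1n : R1.Normal := by
      refine b.normal_of_odd (fun s hs => mem_normalizer_iff_map_conj_eq.2 ?_) fun g hg => mem_normalizer_iff.2 ?_
      · refine mem_normalizer_iff_map_conj_eq.1 (mem_normalizer_iff.2 fun r => ?_)
        have key : ∀ s ∈ (S : Subgroup G), ∀ r ∈ R1, s * r * s⁻¹ ∈ R1 := by
          intro s hs r hr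
          rw [hR1] at hr ⊢
          refine mem_inf.2 ⟨hQn.conj_mem r hr.1 s, mem_centralizer_iff.2 fun v hv => ?_⟩
          have h2 := mem_centralizer_iff.1 hr.2 (s⁻¹ * v * s) ((mem_normalizer_iff''.1 (b.norm hs) v).1 hv)
          have h3 := congrArg (fun z => s * z * s⁻¹) h2
          simpa [mul_assoc] using h3
        exact ⟨key s hs r, fun hr => by simpa [mul_assoc] using key s⁻¹ (inv_mem hs) _ hr⟩
      · have key : ∀ k : G, Odd (orderOf k) → ∀ r ∈ R1, k * r * k⁻¹ ∈ R1 := by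
          intro k hk r hr
          rw [hR1] at hr ⊢
          have h1 := mem_centralizer_iff.1 (hodd k hk) (f r) (mem_map_of_mem f hr.1)
          have h2 : k * r * k⁻¹ * r⁻¹ ∈ (PLocal.toHol X).ker := by
            rw [← MonoidHom.ker_rangeRestrict, ← hf, MonoidHom.mem_ker, map_mul, map_mul, map_mul, map_inv, map_inv,
              ← h1, mul_inv_cancel_right, mul_inv_cancel]
          rw [PLocal.ker_toHol, ← hC] at h2
          refine mem_inf.2 ⟨hQn.conj_mem r hr.1 k, ?_⟩
          have := mul_mem (hCV h2) hr.2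
          rwa [inv_mul_cancel_right] at this
        exact fun r => ⟨key g hg r, fun hr => by
          simpa [mul_assoc] using key g⁻¹ (by rwa [orderOf_inv]) _ hr⟩
    haveI := hR1n
    have hR1C : R1 ≤ C := by
      rw [hC, le_centralizer_iff, hX]
      exact normalClosure_le_normal (SetLike.coe_subset_coe.2 (le_centralizer_iff.1 (hR1 ▸ inf_le_right)))
    have ha1 : a = 1 := ha ▸ relIndex_eq_one.2 ((le_inf inf_le_right (inf_le_left.trans hAV)).trans (hR1 ▸ hR1C))
    have h4 : t ^ 2 ≤ t * a := hti2.trans ((Nat.le_mul_of_pos_left _ hi1pos).trans (hiprod.trans hile))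
    rw [ha1, mul_one] at h4
    nlinarith
  · have htP : t ^ 2 ≤ Nat.card ↥⁅Q.map f, A.map f⁆ := hconv hpair.2
    obtain ⟨π, hπ⟩ : ∃ π, π = PLocal.toHol X := ⟨_, rfl⟩
    have hcomp : (PLocal.toHol X).range.subtype.comp f = π := by rw [hf, hπ, MonoidHom.subtype_comp_rangeRestrict]
    obtain ⟨P, hP⟩ : ∃ P, P = Q.map π := ⟨_, rfl⟩
    obtain ⟨A', hA'⟩ : ∃ A', A' = A.map π := ⟨_, rfl⟩
    have htP' : t ^ 2 ≤ Nat.card ↥⁅P, A'⁆ := by
      refine htP.trans (le_of_eq ?_)
      rw [hP, hA', ← hcomp, ← Subgroup.map_map, ← Subgroup.map_map,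
        ← map_commutator (Q.map f) (A.map f) (PLocal.toHol X).range.subtype]
      exact (card_map_of_injective (PLocal.toHol X).range.subtype_injective).symm
    have hker : π.ker = C := by rw [hπ, PLocal.ker_toHol, hC]
    obtain ⟨M, hM⟩ : ∃ M, M = PLocal.modV X := ⟨_, rfl⟩
    have hMe : Cfsg.IsElementaryAbelian 2 M := hM ▸ PLocal.elementary_modV X hXe
    have hnM : ∀ g : G, π g ∈ normalizer (M : Set (PLocal.Hol X)) := fun g => by
      rw [hπ, hM]; exact PLocal.range_le_normalizer X ⟨g, rfl⟩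
    -- the measure of subgroups of `A'`
    have hmA : ∀ D : Subgroup (PLocal.Hol X), D ≤ A' → measure M D ≤ measure M A' := by
      intro D hD
      obtain ⟨D₀, hD₀⟩ : ∃ D₀, D₀ = A ⊓ D.comap π := ⟨_, rfl⟩
      have hmap : D₀.map π = D := by
        refine le_antisymm ((map_mono (hD₀ ▸ inf_le_right)).trans (map_comap_le _ _)) fun x hx => ?_
        obtain ⟨z, hz, rfl⟩ := (hA' ▸ hD hx : x ∈ A.map π)
        exact ⟨z, hD₀ ▸ ⟨hz, hx⟩, rfl⟩
      have hinf : D₀ ⊓ C = A ⊓ C := by
        refine le_antisymm (inf_le_inf_right _ (hD₀ ▸ inf_le_left)) (le_inf ?_ inf_le_right)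
        rw [hD₀]
        refine le_inf inf_le_left ((inf_le_right.trans hker.ge).trans (ker_le_comap π D))
      have e1 := PLocal.card_map_toHol X D₀
      have e2 := PLocal.card_map_toHol X A
      rw [← hπ, ← hC, hmap, hinf] at e1
      rw [← hπ, ← hC, ← hA'] at e2
      have h1 := hmlem D₀ (hD₀ ▸ inf_le_left)
      refine Nat.le_of_mul_le_mul_right ?_ (Nat.card_pos (α := ↥(A ⊓ C)))
      unfold measure
      rw [hM, ← hmap, hA', hπ, PLocal.card_cent_map, PLocal.card_cent_map, ← hπ, hmap, ← hA']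
      calc _ = Nat.card D * Nat.card ↥(A ⊓ C) * Nat.card ↥(X ⊓ centralizer (D₀ : Set G)) := by ring
        _ ≤ Nat.card A' * Nat.card ↥(A ⊓ C) * Nat.card ↥(X ⊓ centralizer (A : Set G)) := by rw [e1, e2]; exact h1
        _ = _ := by ring
    obtain ⟨K, ⟨hAK, hKle, hKm⟩, hKmax⟩ := (Set.toFinite {K : Subgroup (PLocal.Hol X) |
        A' ≤ K ∧ K ≤ A' ⊔ P ∧ measure M A' ≤ measure M K}).exists_maximal ⟨A', le_rfl, le_sup_left, le_rfl⟩
    have hPconj : ∀ p ∈ P, A'.map (MulAut.conj p).toMonoidHom ≤ K := by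
      intro p hp
      obtain ⟨K', hK'⟩ : ∃ K', K' = A'.map (MulAut.conj p).toMonoidHom := ⟨_, rfl⟩
      rw [← hK']
      have hK'le : K' ≤ A' ⊔ P := by
        rw [hK']; rintro _ ⟨z, hz, rfl⟩
        exact mul_mem (mul_mem (mem_sup_right hp) (mem_sup_left hz)) (inv_mem (mem_sup_right hp))
      have hpn : p ∈ normalizer (M : Set (PLocal.Hol X)) := by
        obtain ⟨q, -, rfl⟩ := (hP ▸ hp : p ∈ Q.map π); exact hnM q
      have h1 : measure M (K ⊓ K') ≤ measure M A' := by
        obtain ⟨D, hD⟩ : ∃ D, D = (K ⊓ K').comap (MulAut.conj p).toMonoidHom := ⟨_, rfl⟩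
        have hDm : D.map (MulAut.conj p).toMonoidHom = K ⊓ K' :=
          hD ▸ map_comap_eq_self_of_surjective (MulAut.conj p).surjective _
        rw [← hDm, measure_conj hpn]
        refine hmA D fun z hz => ?_
        rw [hD, mem_comap, hK'] at hz
        obtain ⟨w, hw, hwz⟩ := hz.2
        rwa [← (MulAut.conj p).injective hwz]
      have h2 := measure_sup (elem_le_centralizer hMe) K K'
      rw [show measure M K' = measure M A' from hK' ▸ measure_conj hpn A'] at h2
      have h3 : measure M K ≤ measure M (K ⊔ K') := by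
        refine Nat.le_of_mul_le_mul_right ?_ (show 0 < measure M A' from Nat.mul_pos Nat.card_pos Nat.card_pos)
        exact h2.trans (Nat.mul_le_mul_left _ h1)
      exact le_sup_right.trans (hKmax ⟨hAK.trans le_sup_left, sup_le hKle hK'le, hKm.trans h3⟩ le_sup_left)
    obtain ⟨R, hR⟩ : ∃ R, R = K ⊓ P := ⟨_, rfl⟩
    have hAN : A' ≤ normalizer (P : Set (PLocal.Hol X)) := by
      rw [hA', hP]
      refine le_trans ?_ (le_normalizer_map π)
      exact map_mono le_normalizer_of_normal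
    have hcommR : ⁅P, A'⁆ ≤ R := by
      rw [commutator_le]
      intro p hp z hz
      rw [hR, commutatorElement_def]
      refine mem_inf.2 ⟨mul_mem (hPconj p hp ⟨z, hz, rfl⟩) (inv_mem (hAK hz)), ?_⟩
      rw [mul_assoc p z, mul_assoc p]
      exact mul_mem hp ((mem_normalizer_iff.1 (hAN hz) _).1 (inv_mem hp))
    have hKcard : Nat.card K ≤ Nat.card R * t := by
      have h2 : P.relIndex A' ≤ t := by
        rw [hP, hA', ht]; exact relIndex_map_le π Q A
      have h3 : P.relIndex (A' ⊔ P) ≤ P.relIndex A' := by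
        have e := PLocal.card_sup_mul_card_inf A' P hAN
        rw [← card_inf_mul_relIndex A' P] at e
        rw [← card_inf_mul_relIndex (A' ⊔ P) P, inf_eq_right.2 (le_sup_right : P ≤ A' ⊔ P)] at e
        refine le_of_eq (Nat.eq_of_mul_eq_mul_left (Nat.mul_pos (Nat.card_pos (α := ↥(A' ⊓ P)))
          (Nat.card_pos (α := ↥P))) ?_)
        calc _ = Nat.card P * P.relIndex (A' ⊔ P) * Nat.card ↥(A' ⊓ P) := by ring
          _ = Nat.card ↥(A' ⊓ P) * P.relIndex A' * Nat.card P := e.symm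
          _ = _ := by ring
      rw [← card_inf_mul_relIndex K P, ← hR]
      exact Nat.mul_le_mul_left _ ((relIndex_le_of_le_right hKle index_ne_zero_of_finite).trans (h3.trans h2))
    have hiK : (centralizer (K : Set (PLocal.Hol X))).relIndex M ≤ Nat.card K := by
      have h1 : measure M ⊥ ≤ measure M K := (hmA ⊥ bot_le).trans hKm
      rw [measure_bot, measure] at h1
      refine Nat.le_of_mul_le_mul_left ?_ (Nat.card_pos (α := ↥(M ⊓ centralizer (K : Set (PLocal.Hol X)))))
      rw [card_inf_mul_relIndex]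
      exact h1.trans (le_of_eq (mul_comm _ _))
    -- the preimage in `Q`
    obtain ⟨R', hR'⟩ : ∃ R', R' = Q ⊓ R.comap π := ⟨_, rfl⟩
    have hRmap : R'.map π = R := by
      refine le_antisymm ((map_mono (hR' ▸ inf_le_right)).trans (map_comap_le _ _)) fun x hx => ?_
      obtain ⟨z, hz, rfl⟩ := (hP ▸ (hR ▸ hx : x ∈ K ⊓ P).2 : x ∈ Q.map π)
      exact ⟨z, hR' ▸ ⟨hz, hx⟩, rfl⟩
    have hR'Q : R' ≤ Q := hR' ▸ inf_le_left
    have hRidx : C.relIndex R' = Nat.card R := by rw [← hker, relIndex_ker, hRmap]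
    have hR2 : t ^ 2 ≤ Nat.card R := htP'.trans (card_le_of_le hcommR)
    have hne : ¬ R' ≤ C := fun hle => by
      rw [← hRidx, relIndex_eq_one.2 hle] at hR2
      nlinarith
    have h5 := b.eprop_closure R' (hQ ▸ hR'Q) (hX ▸ hC ▸ (commutator_mono hR'Q hR'Q).trans hQQ)
      (fun r hr => hX ▸ hC ▸ hQsq r (hR'Q hr)) (hX ▸ hC ▸ hne)
    rw [← hX, ← hC, hRidx] at h5
    have h6 : (centralizer (R' : Set G)).relIndex X ≤ t * Nat.card R := by
      have h7 : (centralizer (R' : Set G)).relIndex X = (centralizer (R : Set (PLocal.Hol X))).relIndex M := by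
        refine Nat.eq_of_mul_eq_mul_left (Nat.card_pos (α := ↥(X ⊓ centralizer (R' : Set G)))) ?_
        rw [card_inf_mul_relIndex]
        conv_rhs => rw [← PLocal.card_cent_map X R', ← hπ, hRmap, ← hM, card_inf_mul_relIndex]
        rw [hM, PLocal.card_modV]
      rw [h7]
      refine le_trans (relIndex_le_of_le_left (centralizer_le (SetLike.coe_subset_coe.2 (hR ▸ inf_le_left)))
        index_ne_zero_of_finite) (hiK.trans (hKcard.trans (le_of_eq (mul_comm _ _))))
    have h8 : Nat.card R ^ 3 < (t * Nat.card R) ^ 2 := h5.trans_le (Nat.pow_le_pow_left h6 2)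
    have h9 : (t * Nat.card R) ^ 2 ≤ Nat.card R ^ 3 := by
      calc (t * Nat.card R) ^ 2 = t ^ 2 * Nat.card R ^ 2 := by ring
        _ ≤ Nat.card R * Nat.card R ^ 2 := Nat.mul_le_mul_right _ hR2
        _ = _ := by ring
    omega

end Bad

/-- the normal closure of `J_e(S)` centralizes every candidate -/
theorem theta : ∀ (n : ℕ) (G : Type u) [Group G] [Finite G], Nat.card G ≤ n → Hyp G → Theta G := by
  intro n
  induction n with
  | zero => intro G _ _ h; exact absurd h (not_le.2 Nat.card_pos)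
  | succ n ih =>
    intro G _ _ hn h S V hVS hV hSV hE
    by_contra hbad
    exact Bad.elim (S := S) (V := V) ⟨h, fun H _ _ hlt hH => ih H (by omega) hH, hVS, hV, hSV, hE, hbad⟩

end CfsgLib.LocalEven.Factor
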