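import Cfsg.Agent.Lib.LocalEven.Factor.Closed
import Cfsg.Agent.Lib.LocalEven.Factor.Controls

/-!
# The normal closure of `Ω₁(Z(S))` in `N(J_e(S))` is a candidate

* `cand_of_normalClosure`
-/

set_option autoImplicit false
set_option linter.all false

namespace CfsgLib.LocalEven.Factor

open Subgroup
open scoped commutatorElement

universe u

variable {G : Type u} [Group G] [Finite G]

theorem conj_mem_centralizer {A : Subgroup G} {g x : G} (hg : g ∈ normalizer (A : Set G))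
    (hx : x ∈ centralizer (A : Set G)) : g * x * g⁻¹ ∈ centralizer (A : Set G) := by
  refine mem_centralizer_iff.2 fun a ha => ?_
  have h1 := mem_centralizer_iff.1 hx _ ((mem_normalizer_iff''.1 hg a).1 ha)
  calc a * (g * x * g⁻¹) = g * (g⁻¹ * a * g * x) * g⁻¹ := by group
    _ = g * (x * (g⁻¹ * a * g)) * g⁻¹ := by rw [h1]
    _ = _ := by group

theorem cand_of_normalClosure (h : Local G) (S : Sylow 2 G) {N : Subgroup G}
    (hN : N = normalizer (je (S : Subgroup G) : Set G)) {A : Subgroup G}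
    (hA : A = (normalClosure (((zS (S : Subgroup G)).subgroupOf N : Subgroup ↥N) : Set ↥N)).map N.subtype) :
    Cand (S : Subgroup G) A := by
  haveI : Fact (Nat.Prime 2) := ⟨Nat.prime_two⟩
  obtain ⟨J, hJ⟩ : ∃ J, J = je (S : Subgroup G) := ⟨_, rfl⟩
  have hSN : (S : Subgroup G) ≤ N := hN ▸ le_normalizer.trans (normalizer_je _)
  have hJS : J ≤ (S : Subgroup G) := hJ ▸ je_le_self _
  have hzN : zS (S : Subgroup G) ≤ N := (zS_le_je _).trans ((je_le_self _).trans hSN)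
  obtain ⟨W, hW⟩ : ∃ W, W = Cfsg.omegaOne 2 (J ⊓ centralizer (J : Set G)) := ⟨_, rfl⟩
  haveI hab : IsMulCommutative ↥(J ⊓ centralizer (J : Set G)) :=
    ⟨⟨fun a b => Subtype.ext (mem_centralizer_iff.1 (mem_inf.1 b.2).2 a (mem_inf.1 a.2).1)⟩⟩
  have hWe : Cfsg.IsElementaryAbelian 2 W := hW ▸ CfsgLib.PGroups.isElementaryAbelian_omegaOne
  have hWJ : W ≤ J := hW ▸ (CfsgLib.PGroups.omegaOne_le _).trans inf_le_left
  have hzW : zS (S : Subgroup G) ≤ W := by
    rw [zS, Cfsg.omegaOne, closure_le]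
    rintro z ⟨⟨hzS, hzC⟩, hz2⟩
    rw [hW]
    exact CfsgLib.PGroups.mem_omegaOne (mem_inf.2 ⟨hJ ▸ zS_le_je _ (CfsgLib.PGroups.mem_omegaOne ⟨hzS, hzC⟩ hz2),
      centralizer_le (SetLike.coe_subset_coe.2 hJS) hzC⟩) hz2
  have hNW : N ≤ normalizer (W : Set G) := by
    intro g hg
    rw [hN, ← hJ] at hg
    rw [mem_normalizer_iff_map_conj_eq] at hg ⊢
    rw [hW, CfsgLib.PGroups.omegaOne_map _ (MulAut.conj g).injective,
      map_inf_centralizer _ (MulAut.conj g).injective, hg]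
  haveI : (W.subgroupOf N).Normal := normal_subgroupOf_of_le_normalizer hNW
  have hAW : A ≤ W := by
    rw [hA, map_le_iff_le_comap]
    show _ ≤ W.subgroupOf N
    exact normalClosure_le_normal fun x hx => hzW hx
  have hzA : zS (S : Subgroup G) ≤ A := fun z hz => hA ▸ ⟨⟨z, hzN hz⟩, le_normalClosure hz, rfl⟩
  have hAS : A ≤ (S : Subgroup G) := hAW.trans (hWJ.trans hJS)
  have hAN : A ≤ N := hAS.trans hSN
  have hAe : Cfsg.IsElementaryAbelian 2 A := elem_le hWe hAW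
  have hNA : N ≤ normalizer (A : Set G) := by
    refine hA ▸ le_normalizer_iff.2 fun n hn x hx => ?_
    obtain ⟨v, hv, rfl⟩ := hx
    exact ⟨⟨n, hn⟩ * v * ⟨n, hn⟩⁻¹, normalClosure_normal.conj_mem v hv _, rfl⟩
  refine ⟨hAS, hAe, hSN.trans hNA, ?_, hN ▸ hNA⟩
  -- the local subgroup
  obtain ⟨T, hT⟩ : ∃ T, T = (S : Subgroup G) ⊓ centralizer (A : Set G) := ⟨_, rfl⟩
  have hTS : T ≤ (S : Subgroup G) := hT ▸ inf_le_left
  have hAT : A ≤ T := hT ▸ le_inf hAS (elem_le_centralizer hAe)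
  obtain ⟨K, hK⟩ : ∃ K, K = N ⊓ normalizer (T : Set G) := ⟨_, rfl⟩
  have hKN : K ≤ N := hK ▸ inf_le_left
  have hSK : (S : Subgroup G) ≤ K := hK ▸ le_inf hSN (hT ▸ le_normalizer_iff.2 fun s hs x hx => mem_inf.2
    ⟨mul_mem (mul_mem hs hx.1) (inv_mem hs), conj_mem_centralizer (hNA (hSN hs)) hx.2⟩)
  -- every `N`-conjugate of an element of `A` is a `K`-conjugate
  have hfrat : ∀ n ∈ N, ∃ m ∈ K, ∀ a ∈ A, n * a * n⁻¹ = m * a * m⁻¹ := by
    intro n hn
    obtain ⟨SN, hSNe⟩ : ∃ P : Sylow 2 ↥N, (P : Subgroup ↥N) = (S : Subgroup G).subgroupOf N :=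
      ⟨(S.2.comap_subtype).toSylow (sylow_relIndex_not_dvd S hSN), rfl⟩
    haveI : ((centralizer (A : Set G)).subgroupOf N).Normal := normal_subgroupOf_of_le_normalizer
      (le_normalizer_iff.2 fun g hg x hx => conj_mem_centralizer (hNA hg) hx)
    obtain ⟨c, hc, m, hm, he⟩ := exists_mul_of_normal SN (C := (centralizer (A : Set G)).subgroupOf N) ⟨n, hn⟩
    have hn' : n = (c : G) * m := congrArg Subtype.val he
    refine ⟨m, hK ▸ mem_inf.2 ⟨m.2, mem_normalizer_iff.2 fun x => ?_⟩, fun a ha => ?_⟩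
    · by_cases hxN : x ∈ N
      · have := mem_normalizer_iff.1 hm ⟨x, hxN⟩
        simp only [hSNe, mem_inf, mem_subgroupOf, Subgroup.coe_mul, InvMemClass.coe_inv] at this
        rw [hT, mem_inf, mem_inf]
        exact and_comm.trans (this.trans and_comm)
      · refine ⟨fun h' => absurd (hSN (hTS h')) hxN, fun h' => absurd ?_ hxN⟩
        have := mul_mem (mul_mem (inv_mem m.2) (hSN (hTS h'))) m.2
        simpa [mul_assoc] using this
    · have h1 : (m : G) * a * (m : G)⁻¹ ∈ A := (mem_normalizer_iff.1 (hNA m.2) a).1 ha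
      calc n * a * n⁻¹ = (c : G) * ((m : G) * a * (m : G)⁻¹) * (c : G)⁻¹ := by rw [hn']; group
        _ = _ := by rw [← mem_centralizer_iff.1 (show (c : G) ∈ centralizer (A : Set G) from hc) _ h1, mul_inv_cancel_right]
  obtain ⟨SK, hSKe⟩ : ∃ P : Sylow 2 ↥K, (P : Subgroup ↥K) = (S : Subgroup G).subgroupOf K :=
    ⟨(S.2.comap_subtype).toSylow (sylow_relIndex_not_dvd S hSK), rfl⟩
  have hTn : K ≤ normalizer (T : Set G) := hK ▸ inf_le_right
  haveI : (T.subgroupOf K).Normal := normal_subgroupOf_of_le_normalizer hTn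
  obtain ⟨O, hOn, hOc, -, hH⟩ := (h.subgroup K).hyp_quot SK (Q := T.subgroupOf K)
    ((S.2.to_le hTS).comap_subtype) (by
      rintro x ⟨hx1, hx2⟩
      rw [mem_subgroupOf, hT, mem_inf]
      refine ⟨hSKe.le hx1, mem_centralizer_iff.2 fun a ha => ?_⟩
      exact congrArg Subtype.val (mem_centralizer_iff.1 hx2 ⟨a, hSK (hAS ha)⟩ (hAT ha)))
  obtain ⟨π, hπ⟩ : ∃ π, π = QuotientGroup.mk' O := ⟨_, rfl⟩
  have hπs : Function.Surjective π := hπ ▸ QuotientGroup.mk'_surjective O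
  obtain ⟨V, hV⟩ : ∃ V, V = (A.subgroupOf K).map π := ⟨_, rfl⟩
  haveI hVn : V.Normal := hV ▸ Subgroup.Normal.map
    (normal_subgroupOf_of_le_normalizer (hKN.trans hNA)) π hπs
  have hVe : Cfsg.IsElementaryAbelian 2 V :=
    hV ▸ PLocal.elementary_map π (PLocal.elementary_comap K.subtype K.subtype_injective hAe)
  have hO : Cfsg.pCore 2 ((↥K ⧸ O) ⧸ centralizer (V : Set (↥K ⧸ O))) = ⊥ := by
    rw [eq_bot_iff]
    intro w hw
    obtain ⟨q, hq⟩ : ∃ q, q = QuotientGroup.mk' (centralizer (V : Set (↥K ⧸ O))) := ⟨_, rfl⟩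
    have hqs : Function.Surjective q := hq ▸ QuotientGroup.mk'_surjective _
    obtain ⟨u, rfl⟩ := hqs w
    rw [mem_bot, ← MonoidHom.mem_ker, hq, QuotientGroup.ker_mk', hV]
    rw [mem_centralizer_iff]
    rintro _ ⟨a, ha, rfl⟩
    -- conjugates of `Ω₁(Z(S))`
    suffices hall : A ≤ closure {x : G | ∃ m ∈ K, ∃ z ∈ zS (S : Subgroup G), x = m * z * m⁻¹} by
      have h1 : closure {x : G | ∃ m ∈ K, ∃ z ∈ zS (S : Subgroup G), x = m * z * m⁻¹} ≤
          ((centralizer ({u} : Set (↥K ⧸ O))).comap π).map K.subtype := by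
        rw [closure_le]
        rintro _ ⟨m, hm, z, hz, rfl⟩
        refine ⟨⟨m, hm⟩ * ⟨z, hSK ((CfsgLib.PGroups.omegaOne_le _).trans inf_le_left hz)⟩ * ⟨m, hm⟩⁻¹, ?_, rfl⟩
        have hzK : z ∈ K := hSK ((CfsgLib.PGroups.omegaOne_le _).trans inf_le_left hz)
        obtain ⟨μ, hμ⟩ : ∃ μ, μ = π ⟨m, hm⟩ := ⟨_, rfl⟩
        have h2 : q (μ⁻¹ * u * μ) ∈ Cfsg.pCore 2 ((↥K ⧸ O) ⧸ centralizer (V : Set (↥K ⧸ O))) := by
          haveI := CfsgLib.Core.normal_pCore 2 ((↥K ⧸ O) ⧸ centralizer (V : Set (↥K ⧸ O)))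
          have := (CfsgLib.Core.normal_pCore 2 ((↥K ⧸ O) ⧸ centralizer (V : Set (↥K ⧸ O)))).conj_mem _ hw (q μ)⁻¹
          simpa using this
        have h3 := CfsgLib.Core.pCore_le_sylow ((SK.mapSurjective hπs).mapSurjective hqs) h2
        rw [Sylow.coe_mapSurjective, Sylow.coe_mapSurjective] at h3
        obtain ⟨_, ⟨s, hs, rfl⟩, hse⟩ := h3
        have h4 : (π s)⁻¹ * (μ⁻¹ * u * μ) ∈ centralizer (V : Set (↥K ⧸ O)) := by
          rw [← QuotientGroup.ker_mk' (centralizer (V : Set (↥K ⧸ O))), ← hq, MonoidHom.mem_ker, map_mul, map_inv,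
            hse, inv_mul_cancel]
        have h5 : π ⟨z, hzK⟩ * (μ⁻¹ * u * μ) = μ⁻¹ * u * μ * π ⟨z, hzK⟩ := by
          have e1 := mem_centralizer_iff.1 h4 (π ⟨z, hzK⟩) (hV ▸ mem_map_of_mem π (hzA hz))
          have e2 : π s * π ⟨z, hzK⟩ = π ⟨z, hzK⟩ * π s := by
            rw [← map_mul, ← map_mul]
            refine congrArg π (Subtype.ext ?_)
            exact mem_centralizer_iff.1 (CfsgLib.PGroups.omegaOne_le _ hz).2 s (hSKe.le hs)
          calc _ = π ⟨z, hzK⟩ * (π s * ((π s)⁻¹ * (μ⁻¹ * u * μ))) := by group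
            _ = π s * (π ⟨z, hzK⟩ * ((π s)⁻¹ * (μ⁻¹ * u * μ))) := by rw [← mul_assoc, ← e2, mul_assoc]
            _ = _ := by rw [e1]; group
        show π _ ∈ centralizer ({u} : Set (↥K ⧸ O))
        rw [map_mul, map_mul, map_inv, ← hμ, mem_centralizer_singleton_iff]
        calc μ * π ⟨z, hzK⟩ * μ⁻¹ * u = μ * (π ⟨z, hzK⟩ * (μ⁻¹ * u * μ)) * μ⁻¹ := by group
          _ = μ * (μ⁻¹ * u * μ * π ⟨z, hzK⟩) * μ⁻¹ := by rw [h5]
          _ = _ := by group
      obtain ⟨v, hv, hve⟩ := h1 (hall ha)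
      rw [← Subtype.ext hve]
      exact mem_centralizer_singleton_iff.1 hv
    have h6 : normalClosure (((zS (S : Subgroup G)).subgroupOf N : Subgroup ↥N) : Set ↥N) ≤
        (closure {x : G | ∃ m ∈ K, ∃ z ∈ zS (S : Subgroup G), x = m * z * m⁻¹}).comap N.subtype := by
      rw [normalClosure, closure_le]
      intro x hx
      obtain ⟨z, hz, hzx⟩ := Group.mem_conjugatesOfSet_iff.1 hx
      obtain ⟨c, hc⟩ := isConj_iff.1 hzx
      obtain ⟨m, hm, hme⟩ := hfrat c c.2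
      refine subset_closure ⟨m, hm, z, hz, ?_⟩
      rw [← hme z (hzA hz), ← hc]
      rfl
    rw [hA]
    exact map_le_iff_le_comap.2 h6
  obtain ⟨f, hf⟩ : ∃ f, f = π.comp (inclusion hSK) := ⟨_, rfl⟩
  have hfinj : Function.Injective f := by
    rw [hf, injective_iff_map_eq_one]
    intro s hs
    rw [MonoidHom.comp_apply, hπ] at hs
    have h1 : inclusion hSK s ∈ O := (QuotientGroup.eq_one_iff _).1 hs
    have h2 : Disjoint ((S : Subgroup G).subgroupOf K) O := disjoint_iff.2 (inf_eq_bot_of_coprime (by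
      obtain ⟨k, hk⟩ := (IsPGroup.iff_card (G := ↥((S : Subgroup G).subgroupOf K))).1 (S.2.comap_subtype (K := K))
      rw [hk]; exact (hOc.pow_right k).symm))
    exact inclusion_injective hSK (by rw [map_one]; exact disjoint_def.1 h2 (mem_subgroupOf.2 s.2) h1)
  have hE := (eProp_of_reduced hH hVe hO ((⊤ : Subgroup ↥(S : Subgroup G)).map f)).1
  have hVf : V = (A.subgroupOf (S : Subgroup G)).map f := by
    rw [hV, hf, ← Subgroup.map_map]
    congr 1
    apply map_injective K.subtype_injective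
    rw [Subgroup.map_map, subtype_comp_inclusion, subgroupOf_map_subtype, subgroupOf_map_subtype,
      inf_eq_left.2 hAS, inf_eq_left.2 (hAS.trans hSK)]
  rw [hVf, eProp_map_iff f hfinj, ← eProp_map_iff (S : Subgroup G).subtype (S : Subgroup G).subtype_injective,
    ← MonoidHom.range_eq_map, range_subtype, subgroupOf_map_subtype, inf_eq_left.2 hAS] at hE
  exact hE

end CfsgLib.LocalEven.Factor
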