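import Cfsg.Agent.Lib.LocalEven.Factor.StepTwo
import Cfsg.Agent.Lib.PGroups.Omega

/-!
# The factorization `G = C(Ω₁(Z(Ĵ(S)))) N(J_e(S))`

* `zjh T`: `Ω₁(Z(Ĵ(T)))`, `zjh_le`, `zjh_mono`
* `factorization_three`
-/

set_option autoImplicit false
set_option linter.all false

namespace CfsgLib.LocalEven.Factor

open Subgroup
open scoped commutatorElement

universe u

variable {G : Type u} [Group G]

/-- `Ω₁(Z(Ĵ(T)))` inside the ambient group -/
noncomputable abbrev zjh (T : Subgroup G) : Subgroup G :=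
  Cfsg.omegaOne 2 (jh T ⊓ centralizer (jh T : Set G))

theorem eGrp_map_iff {H : Type u} [Group H] (f : H →* G) (hf : Function.Injective f) (U : Subgroup H) :
    EGrp (U.map f) ↔ EGrp U := by
  have h1 := isEGroup_range_iff U.subtype U.subtype_injective
  have h2 := isEGroup_range_iff (f.comp U.subtype) (hf.comp U.subtype_injective)
  rw [range_subtype] at h1
  rw [MonoidHom.range_comp, range_subtype] at h2
  exact h2.symm.trans h1

theorem jh_map {H : Type u} [Group H] (f : H →* G) (hf : Function.Injective f) (T : Subgroup H) :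
    (jh T).map f = jh (T.map f) := by
  refine le_antisymm ?_ (jh_le fun U hU hUT hJU => ?_)
  · rw [map_le_iff_le_comap]
    refine jh_le fun U hU hUT hJU => map_le_iff_le_comap.1
      (le_jh ((eGrp_map_iff f hf U).2 hU) (map_mono hUT) ((je_map f hf T).ge.trans (map_mono hJU)))
  · obtain ⟨U₀, rfl⟩ : ∃ U₀ : Subgroup H, U₀.map f = U := ⟨U.comap f, map_comap_eq_self (hUT.trans (map_le_range f T))⟩
    rw [← je_map f hf, map_le_map_iff_of_injective hf] at hJU
    exact map_mono (le_jh ((eGrp_map_iff f hf U₀).1 hU) ((map_le_map_iff_of_injective hf).1 hUT) hJU)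

theorem zjh_map {H : Type u} [Group H] (f : H →* G) (hf : Function.Injective f) (T : Subgroup H) :
    (zjh T).map f = zjh (T.map f) := by
  rw [zjh, zjh, CfsgLib.PGroups.omegaOne_map _ hf, map_inf_centralizer f hf, jh_map f hf]

variable [Finite G]

/-- `Ω₁(Z(Ĵ(T)))` lies in every maximal elementary abelian subgroup -/
theorem zjh_le {T A : Subgroup G} (hA : MaxEl T A) : zjh T ≤ A := by
  rw [zjh, Cfsg.omegaOne, Subgroup.closure_le]
  rintro z ⟨⟨hzH, hzC⟩, hz2⟩
  have hAH : A ≤ jh T := (le_je hA).trans (je_le_jh T)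
  have hze : Cfsg.IsElementaryAbelian 2 (zpowers z) := by
    refine ⟨inferInstance, fun w hw => ?_⟩
    obtain ⟨i, rfl⟩ := mem_zpowers_iff.1 hw
    have hz2' : z ^ (2 : ℤ) = 1 := by rw [zpow_ofNat]; exact hz2
    rw [← zpow_natCast, ← zpow_mul, mul_comm, zpow_mul]
    exact (congrArg (· ^ i) hz2').trans (one_zpow i)
  have hc : A ≤ centralizer ((zpowers z : Subgroup G) : Set G) := by
    rw [le_centralizer_iff, zpowers_le]
    exact mem_centralizer_iff.2 fun x hx => mem_centralizer_iff.1 hzC x (hAH hx)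
  have h := eq_of_le_of_card_ge (H := A) (K := A ⊔ zpowers z) le_sup_left
    (hA.2.2 _ (sup_le hA.1 (zpowers_le.2 (jh_le_self T hzH))) (elem_sup hA.2.1 hze hc))
  exact h.ge (mem_sup_right (mem_zpowers z))

theorem zjh_le_je (T : Subgroup G) : zjh T ≤ je T := by
  obtain ⟨A, hA⟩ := exists_maxEl T
  exact (zjh_le hA).trans (le_je hA)

theorem jh_mono {T S : Subgroup G} (hTS : T ≤ S) (hJ : je S ≤ T) : jh T ≤ jh S :=
  jh_le fun U hU hUT hJU => le_jh hU (hUT.trans hTS) ((je_mono_eq hTS hJ).ge.trans hJU)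

theorem zjh_mono {T S : Subgroup G} (hTS : T ≤ S) (hJ : je S ≤ T) : zjh S ≤ zjh T := by
  rw [zjh, Cfsg.omegaOne, Subgroup.closure_le]
  rintro z ⟨⟨hzH, hzC⟩, hz2⟩
  refine CfsgLib.PGroups.mem_omegaOne (mem_inf.2 ⟨?_, ?_⟩) hz2
  · have h1 : z ∈ je S := zjh_le_je S (CfsgLib.PGroups.mem_omegaOne (mem_inf.2 ⟨hzH, hzC⟩) hz2)
    rw [← je_mono_eq hTS hJ] at h1
    exact je_le_jh T h1
  · exact centralizer_le (SetLike.coe_subset_coe.2 (jh_mono hTS hJ)) hzC

/-- the third factorization, by induction on the order -/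
theorem factorization_three : ∀ (n : ℕ) (G : Type u) [Group G] [Finite G], Nat.card G ≤ n → Hyp G →
    ∀ (S : Sylow 2 G) (g : G), ∃ c ∈ centralizer (zjh (S : Subgroup G) : Set G),
      ∃ m ∈ normalizer (je (S : Subgroup G) : Set G), g = c * m := by
  intro n
  induction n with
  | zero => intro G _ _ h; exact absurd h (not_le.2 Nat.card_pos)
  | succ n ih =>
    intro G _ _ hn h S g
    haveI : Fact (Nat.Prime 2) := ⟨Nat.prime_two⟩
    obtain ⟨J, hJ⟩ : ∃ J, J = je (S : Subgroup G) := ⟨_, rfl⟩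
    obtain ⟨N, hN⟩ : ∃ N, N = normalClosure (J : Set G) := ⟨_, rfl⟩
    haveI hNn : N.Normal := hN ▸ normalClosure_normal
    by_cases htop : N = ⊤
    · -- the Sylow subgroup is an `E`-group
      have hE : EGrp (S : Subgroup G) := fun V hV hSV hVe hE _ => by
        have h1 := theta _ G le_rfl h S V hV hVe hSV hE
        rw [← hJ, ← hN, htop] at h1
        exact fun x _ => h1 (mem_top x)
      have hjh : jh (S : Subgroup G) = (S : Subgroup G) :=
        le_antisymm (jh_le_self _) (le_jh hE le_rfl (je_le_self _))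
      obtain ⟨c, hc, m, hm, rfl⟩ := (factorization_two h S g).1
      refine ⟨c, centralizer_le (SetLike.coe_subset_coe.2 ?_) hc, m, hm, rfl⟩
      rw [zjh, hjh]
      exact CfsgLib.PGroups.omegaOne_le _
    · obtain ⟨T, hT⟩ := exists_sylow_inf S N
      have hJN : J ≤ N := hN ▸ le_normalClosure
      have hTS : (T : Subgroup ↥N).map N.subtype ≤ (S : Subgroup G) := hT ▸ inf_le_right
      have hJT : je (S : Subgroup G) ≤ (T : Subgroup ↥N).map N.subtype :=
        hT ▸ le_inf (hJ ▸ hJN) (je_le_self _)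
      have hje := je_mono_eq hTS hJT
      obtain ⟨c₀, hc₀, m₀, hm₀, rfl⟩ := exists_mul_of_normal S (C := N) g
      have hcard : Nat.card ↥N ≤ n := by
        have := (card_le_card_group N).lt_of_ne fun he => htop (eq_top_of_card_eq N he)
        omega
      obtain ⟨c, hc, m, hm, he⟩ := ih ↥N hcard (h.of_normal hNn) T ⟨c₀, hc₀⟩
      refine ⟨(c : G), ?_, (m : G) * m₀, mul_mem ?_ ?_, ?_⟩
      · refine centralizer_le (SetLike.coe_subset_coe.2 (zjh_mono hTS hJT)) ?_
        rw [← zjh_map N.subtype N.subtype_injective]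
        exact (map_mem_centralizer_iff N.subtype N.subtype_injective c _).2 hc
      · rw [← hje, ← je_map N.subtype N.subtype_injective]
        refine le_normalizer_map N.subtype ⟨m, hm, rfl⟩
      · rw [← hje, hT]
        exact normalizer_je _ hm₀
      · rw [← mul_assoc]
        exact congrArg (· * m₀) (congrArg Subtype.val he)

end CfsgLib.LocalEven.Factor
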